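import Mathlib

/-!
Arithmetic of eigenvalue multiplicities of intertwiners.
-/

set_option autoImplicit false

namespace Cfsg.Agent.Solv.FHeight

variable {r t d : ℕ}

theorem dvd_sq_sub_one_cases (hr : r.Prime) {o : ℕ} (h : d * d = r * o + 1) (hd : d + 1 ≤ r) :
    d = 1 ∨ d + 1 = r := by
  rcases d with _ | e
  · simp at h
  have h1 : r ∣ e * (e + 2) := ⟨o, by
    have : e * (e + 2) + 1 = r * o + 1 := by rw [← h]; ring
    omega⟩
  rcases hr.dvd_mul.1 h1 with h2 | h2
  · exact Or.inl (by rw [Nat.eq_zero_of_dvd_of_lt h2 (by omega)])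
  · right
    have := Nat.le_of_dvd (by omega) h2
    omega

/-- A missing eigenvalue forces `d = 1` or `d + 1 = r`. -/
theorem of_missing (hr : r.Prime) (m : Fin r → ℕ) (j₀ : Fin r) (hm0 : m j₀ = 0) (hd : ∑ j, m j = d)
    {o : ℕ} (ho : ∑ j, m j ^ 2 = o + 1) (hdo : d * d = r * o + 1) : d = 1 ∨ d + 1 = r := by
  refine dvd_sq_sub_one_cases hr hdo ?_
  have h1 := sq_sum_le_card_mul_sum_sq (s := Finset.univ.erase j₀) (f := m)
  rw [Finset.sum_erase _ hm0, Finset.sum_erase (f := fun j => m j ^ 2) _ (by simp [hm0]), hd, ho,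
    Finset.card_erase_of_mem (Finset.mem_univ _), Finset.card_univ, Fintype.card_fin, sq] at h1
  obtain ⟨e, rfl⟩ : ∃ e, r = e + 1 := ⟨r - 1, (Nat.sub_add_cancel hr.one_le).symm⟩
  simp only [Nat.add_sub_cancel] at h1
  have hoe : o + 1 ≤ e := by nlinarith
  have hde : d * d ≤ e * e := h1.trans (Nat.mul_le_mul_left e hoe)
  nlinarith

/-- Common inequality: a single block of a refinement. -/
theorem refine_le (j₀ : Fin r) (m c : Fin r → ℕ) (h2 : ∀ j, m j ^ 2 ≤ t * c j) :
    t * c j₀ + ∑ j, m j ^ 2 ≤ t * ∑ j, c j + m j₀ ^ 2 := by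
  rw [← Finset.add_sum_erase _ (fun j => m j ^ 2) (Finset.mem_univ j₀),
    ← Finset.add_sum_erase _ c (Finset.mem_univ j₀), mul_add,
    Finset.mul_sum (Finset.univ.erase j₀)]
  have h1 : ∑ j ∈ Finset.univ.erase j₀, m j ^ 2 ≤ ∑ j ∈ Finset.univ.erase j₀, t * c j :=
    Finset.sum_le_sum fun j _ => h2 j
  omega

/-- The multiplicities of a free cyclic group of order `r * t` with a scalar block. -/
theorem of_scalar_block (hr : r.Prime) (ht : 2 ≤ t) (m c : Fin r → ℕ) (j₀ : Fin r)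
    (h1c : ∀ j, m j ≤ c j) (h2c : ∀ j, m j ^ 2 ≤ t * c j)
    (hconc : c j₀ = m j₀ ^ 2) (hd : ∑ j, m j = d)
    {o o' : ℕ} (ho : ∑ j, c j = o + 1) (hdo : d * d = r * t * o + 1)
    (ho' : ∑ j, m j ^ 2 = o' + 1) (hdo' : d * d = r * o' + 1) :
    d = 1 ∨ (t = 2 ∧ d + 1 = 2 * r ∧ m j₀ = 1) := by
  have hm : m j₀ = m j₀ := rfl
  have hoo : o' = t * o := by
    have : r * o' = r * (t * o) := by rw [← mul_assoc]; omega
    exact Nat.eq_of_mul_eq_mul_left hr.pos this
  have hle := refine_le j₀ m c h2c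
  rw [hconc, ho, ho'] at hle
  have hm1 : m j₀ ≤ 1 := by
    by_contra hm2
    have h4 : 4 ≤ m j₀ ^ 2 := by nlinarith
    nlinarith
  -- the squares dominate the sums
  have hsq : ∀ j, m j ≤ c j := h1c
  rcases Nat.le_one_iff_eq_zero_or_eq_one.1 hm1 with h0 | h1
  · refine Or.inl ?_
    rcases of_missing hr m j₀ h0 hd ho' hdo' with h | h
    · exact h
    · have h2 : d ≤ o + 1 := hd ▸ ho ▸ Finset.sum_le_sum fun j _ => hsq j
      rcases d with _ | e
      · simp at hdo
      · subst h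
        have he : e ≤ o := by omega
        have h5 : (e + 2) * e = (e + 2) * (t * o) := by linear_combination hdo
        have h6 : e = t * o := Nat.eq_of_mul_eq_mul_left (by omega) h5
        have h7 : 2 * o ≤ t * o := Nat.mul_le_mul_right o ht
        omega
  · have hdo1 : 1 ≤ d := hd ▸ h1.symm.le.trans
      (Finset.single_le_sum (f := fun j => m j) (fun j _ => Nat.zero_le _) (Finset.mem_univ j₀))
    rcases eq_or_lt_of_le hdo1 with hd1 | hd1
    · exact Or.inl hd1.symm
    obtain ⟨e, rfl⟩ : ∃ e, d = e + 1 := ⟨d - 1, by omega⟩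
    have hsum : ∑ j ∈ Finset.univ.erase j₀, m j = e := by
      have := Finset.add_sum_erase Finset.univ m (Finset.mem_univ j₀)
      rw [hd, h1] at this
      omega
    have hsum2 : ∑ j ∈ Finset.univ.erase j₀, m j ^ 2 = o' := by
      have := Finset.add_sum_erase Finset.univ (fun j => m j ^ 2) (Finset.mem_univ j₀)
      rw [ho', h1] at this
      omega
    have hCS := sq_sum_le_card_mul_sum_sq (s := Finset.univ.erase j₀) (f := fun j => m j)
    rw [hsum, hsum2, Finset.card_erase_of_mem (Finset.mem_univ _), Finset.card_univ,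
      Fintype.card_fin] at hCS
    have heo : e ≤ o := by
      have h2 : ∑ j ∈ Finset.univ.erase j₀, m j ≤
          ∑ j ∈ Finset.univ.erase j₀, c j := Finset.sum_le_sum fun j _ => hsq j
      have := Finset.add_sum_erase Finset.univ (fun j => c j) (Finset.mem_univ j₀)
      rw [ho, hconc, h1] at this
      omega
    obtain ⟨r, rfl⟩ : ∃ r', r = r' + 1 := ⟨r - 1, (Nat.sub_add_cancel hr.one_le).symm⟩
    simp only [Nat.add_sub_cancel] at hCS
    have he : 0 < e := by omega
    have he2 : e * (e + 2) = (r + 1) * o' := by linear_combination hdo'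
    have h3 : e ≤ 2 * r := by
      have h5 : (r + 1) * e ^ 2 ≤ (r + 1) * (r * o') := Nat.mul_le_mul_left (r + 1) hCS
      have h6 : (r + 1) * (r * o') = r * (e * (e + 2)) := by rw [he2]; ring
      have h7 : e * e ≤ e * (2 * r) := by nlinarith
      exact Nat.le_of_mul_le_mul_left h7 he
    have h4 : (r + 1) * t ≤ e + 2 := by
      have h5 : (r + 1) * t * e ≤ (r + 1) * t * o := Nat.mul_le_mul_left _ heo
      have h6 : (r + 1) * t * o = e * (e + 2) := by nlinarith
      exact Nat.le_of_mul_le_mul_right (by linarith) he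
    have ht2 : t = 2 := by
      have h5 : (r + 1) * t ≤ (r + 1) * 2 := by omega
      have := Nat.le_of_mul_le_mul_left h5 (Nat.succ_pos r)
      omega
    subst ht2
    exact Or.inr ⟨rfl, by omega, h1⟩

/-- A block fixing a hyperplane, in dimension at least three, forces `t = 2`. -/
theorem of_hyperplane_block (hr : r.Prime) (ht : 2 ≤ t) (m c : Fin r → ℕ) (j₀ : Fin r)
    (h1c : ∀ j, m j ≤ c j) (h2c : ∀ j, m j ^ 2 ≤ t * c j)
    (hm : 2 ≤ m j₀) (hbig : 3 ≤ m j₀ ∨ d = r + 1)
    (hblock : ((m j₀) - 1) ^ 2 + 1 ≤ c j₀) (hd : ∑ j, m j = d)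
    {o o' : ℕ} (ho : ∑ j, c j = o + 1) (hdo : d * d = r * t * o + 1)
    (ho' : ∑ j, m j ^ 2 = o' + 1) (hdo' : d * d = r * o' + 1) : t = 2 := by
  have hoo : o' = t * o := by
    have : r * o' = r * (t * o) := by rw [← mul_assoc]; omega
    exact Nat.eq_of_mul_eq_mul_left hr.pos this
  have hle := refine_le j₀ m c h2c
  rw [ho, ho'] at hle
  obtain ⟨n, hm'⟩ : ∃ n, m j₀ = n + 1 := ⟨_, (Nat.sub_add_cancel (by omega : 1 ≤ _)).symm⟩
  rw [hm', Nat.add_sub_cancel] at hblock
  rw [hm'] at hle hm hbig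
  have h1 : t * (n ^ 2 + 1) + (o' + 1) ≤ t * (o + 1) + (n + 1) ^ 2 :=
    le_trans (Nat.add_le_add_right (Nat.mul_le_mul_left t hblock) _) hle
  by_contra ht'
  have ht3 : 3 ≤ t := by omega
  have hm1 : n = 1 := by nlinarith
  have ht4 : t = 3 := by subst hm1; nlinarith
  have hd1 : d = r + 1 := hbig.resolve_left (by omega)
  subst hm1 ht4
  have h2 : ∑ j ∈ Finset.univ.erase j₀, m j ≤
      ∑ j ∈ Finset.univ.erase j₀, c j :=
    Finset.sum_le_sum fun j _ => h1c j
  have h3 := Finset.add_sum_erase Finset.univ (fun j => c j) (Finset.mem_univ j₀)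
  have h4 := Finset.add_sum_erase Finset.univ (fun j => m j) (Finset.mem_univ j₀)
  rw [ho] at h3
  rw [hd, hm'] at h4
  have h5 : r ≤ o := by omega
  subst hd1
  have := hr.two_le
  nlinarith

/-- All multiplicities one except possibly one. -/
theorem of_mult_one (hr : r.Prime) {c o : ℕ} (hd : d = c + (r - 1)) (ho : c ^ 2 + (r - 1) = o + 1)
    (hdo : d * d = r * o + 1) : c = 0 ∨ c = 2 := by
  obtain ⟨e, rfl⟩ : ∃ e, r = e + 1 := ⟨r - 1, (Nat.sub_add_cancel hr.one_le).symm⟩
  have he : 1 ≤ e := by have := hr.two_le; omega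
  simp only [Nat.add_sub_cancel] at hd ho
  subst hd
  have h1 : e * (c * c) = e * (2 * c) := by nlinarith
  have h2 := Nat.eq_of_mul_eq_mul_left he h1
  rcases Nat.eq_zero_or_pos c with h | h
  · exact Or.inl h
  · exact Or.inr (Nat.eq_of_mul_eq_mul_right h h2)

end Cfsg.Agent.Solv.FHeight
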