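import Cfsg.Agent.Lib.Solv.FHeight.Twisted
import Cfsg.Agent.Lib.Solv.FHeight.Arith

/-!
Irreducible invariant subspaces and multiplicities of intertwiners on them.
-/

set_option autoImplicit false
set_option linter.unusedSectionVars false
set_option linter.style.haveILetI false

namespace Cfsg.Agent.Solv.FHeight

open Module

variable {k : Type*} [Field k] {M : Type*} [AddCommGroup M] [Module k M] {U : Type*} [Group U]

/-- Invariance of a subspace. -/
def Inv (ρ : U →* Module.End k M) (W : Submodule k M) : Prop := ∀ v, ∀ w ∈ W, ρ v w ∈ W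

/-- The restriction to an invariant subspace. -/
def restr (ρ : U →* Module.End k M) {W : Submodule k M} (hW : Inv ρ W) : U →* Module.End k W where
  toFun v := (ρ v).restrict (hW v)
  map_one' := LinearMap.ext fun w => Subtype.ext (by simp)
  map_mul' a b := LinearMap.ext fun w => Subtype.ext (by simp)

theorem coe_restr (ρ : U →* Module.End k M) {W : Submodule k M} (hW : Inv ρ W) (v : U) (w : W) :
    ((restr ρ hW v w : W) : M) = ρ v w := rfl

/-- Burnside: no invariant subspaces means the image spans. -/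
theorem span_eq_top [IsAlgClosed k] [FiniteDimensional k M] [Nontrivial M] (ρ : U →* Module.End k M)
    (hirr : ∀ W : Submodule k M, Inv ρ W → W ≠ ⊥ → W = ⊤) :
    Submodule.span k (Set.range fun g => ρ g) = ⊤ := by
  set σ : Representation k U M := ρ with hσ
  haveI : σ.IsIrreducible :=
    { toNontrivial := ⟨⟨⊥, ⊤, fun h => by
        obtain ⟨m, hm⟩ := exists_ne (0 : M)
        have h1 : m ∈ (⊥ : Subrepresentation σ).toSubmodule := by rw [h]; trivial
        exact hm ((Submodule.mem_bot k).1 h1)⟩⟩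
      eq_bot_or_eq_top := fun W => by
        by_cases hW : W.toSubmodule = ⊥
        · exact Or.inl (Subrepresentation.toSubmodule_injective hW)
        · exact Or.inr (Subrepresentation.toSubmodule_injective
            (hirr _ (fun v w hw => W.apply_mem_toSubmodule v hw) hW)) }
  rw [eq_top_iff]
  classical
  rintro T -
  have hsc : ∀ f : Module.End (MonoidAlgebra k U) σ.asModule, ∃ c : k, ∀ v, f v = c • v := by
    intro f
    obtain ⟨c, hc⟩ := (IsSimpleModule.algebraMap_end_bijective_of_isAlgClosed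
      (A := MonoidAlgebra k U) (V := σ.asModule) k).2 f
    exact ⟨c, fun v => by rw [← hc]; rfl⟩
  haveI : FiniteDimensional k σ.asModule := inferInstanceAs (FiniteDimensional k M)
  let f : Module.End (Module.End (MonoidAlgebra k U) σ.asModule) σ.asModule :=
    { toFun := fun v => σ.asModuleEquiv.symm (T (σ.asModuleEquiv v))
      map_add' := fun a b => by simp
      map_smul' := fun e v => by
        obtain ⟨c, hc⟩ := hsc e
        simp [Module.End.smul_def, hc] }
  let b := Module.finBasis k σ.asModule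
  obtain ⟨r, hr⟩ := jacobson_density f (Finset.univ.image b)
  have hT : T = σ.asAlgebraHom r := by
    refine (b.map σ.asModuleEquiv).ext fun i => ?_
    have h := congrArg σ.asModuleEquiv (hr (b i) (by simp))
    rw [Representation.asModuleEquiv_map_smul] at h
    simpa [f] using h
  rw [hT]
  clear hr hT
  induction r using MonoidAlgebra.induction_on with
  | of g =>
    rw [Representation.asAlgebraHom_of]
    exact Submodule.subset_span ⟨g, rfl⟩
  | add a b ha hb => rw [map_add]; exact add_mem ha hb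
  | smul c a ha => rw [map_smul]; exact Submodule.smul_mem _ c ha

/-- A non-zero invariant subspace contains an irreducible one. -/
theorem exists_irred [FiniteDimensional k M] (ρ : U →* Module.End k M) :
    ∀ {W : Submodule k M}, Inv ρ W → W ≠ ⊥ →
      ∃ F, F ≤ W ∧ F ≠ ⊥ ∧ Inv ρ F ∧ ∀ W', W' ≤ F → Inv ρ W' → W' ≠ ⊥ → W' = F := by
  suffices ∀ n, ∀ W : Submodule k M, finrank k W = n → Inv ρ W → W ≠ ⊥ →
      ∃ F, F ≤ W ∧ F ≠ ⊥ ∧ Inv ρ F ∧ ∀ W', W' ≤ F → Inv ρ W' → W' ≠ ⊥ → W' = F from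
    fun {W} h1 h2 => this _ W rfl h1 h2
  intro n
  induction n using Nat.strong_induction_on with
  | _ n ih =>
  intro W hn hW hW0
  by_cases h : ∃ W', W' ≤ W ∧ Inv ρ W' ∧ W' ≠ ⊥ ∧ W' ≠ W
  · obtain ⟨W', h1, h2, h3, h4⟩ := h
    obtain ⟨F, hF, hrest⟩ :=
      ih _ (hn ▸ Submodule.finrank_lt_finrank_of_lt (lt_of_le_of_ne h1 h4)) W' rfl h2 h3
    exact ⟨F, hF.trans h1, hrest⟩
  · push Not at h
    exact ⟨W, le_rfl, hW0, hW, h⟩

variable [Fintype U]

theorem restr_top [IsAlgClosed k] [FiniteDimensional k M] (ρ : U →* Module.End k M)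
    {F : Submodule k M} (hF : Inv ρ F) (hF0 : F ≠ ⊥)
    (hmin : ∀ W', W' ≤ F → Inv ρ W' → W' ≠ ⊥ → W' = F) : alg (restr ρ hF) = ⊤ := by
  haveI := (Submodule.nontrivial_iff_ne_bot (p := F)).2 hF0
  refine span_eq_top _ fun W hW hW0 => ?_
  have h1 : W.map F.subtype = F := by
    refine hmin _ (Submodule.map_subtype_le _ _) ?_ ?_
    · rintro v _ ⟨w, hw, rfl⟩
      exact ⟨restr ρ hF v w, hW v w hw, rfl⟩
    · intro h
      refine hW0 (eq_bot_iff.2 fun w hw => ?_)
      have : (w : M) ∈ (⊥ : Submodule k M) := h ▸ ⟨w, hw, rfl⟩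
      exact (Submodule.mem_bot k).2 (Subtype.ext ((Submodule.mem_bot k).1 this))
  refine eq_top_iff.2 fun w _ => ?_
  have h2 : (w : M) ∈ W.map F.subtype := by rw [h1]; exact w.2
  obtain ⟨w', hw', he⟩ := h2
  exact Subtype.ext he ▸ hw'

theorem alg_apply_mem {ρ : U →* Module.End k M} {W : Submodule k M} (hW : Inv ρ W)
    {a : Module.End k M} (ha : a ∈ alg ρ) {w : M} (hw : w ∈ W) : a w ∈ W := by
  induction ha using Submodule.span_induction with
  | mem x hx => obtain ⟨u, rfl⟩ := hx; exact hW u w hw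
  | zero => simp
  | add x y _ _ h1 h2 => exact add_mem h1 h2
  | smul c x _ h1 => exact W.smul_mem c h1

/-- An element of the span of the restriction lifts to the span. -/
theorem exists_lift {ρ : U →* Module.End k M} {W : Submodule k M} (hW : Inv ρ W)
    {a : Module.End k W} (ha : a ∈ alg (restr ρ hW)) :
    ∃ A ∈ alg ρ, ∀ w : W, A w = (a w : M) := by
  induction ha using Submodule.span_induction with
  | mem x hx => obtain ⟨u, rfl⟩ := hx; exact ⟨ρ u, rho_mem_alg ρ u, fun w => rfl⟩
  | zero => exact ⟨0, zero_mem _, fun w => by simp⟩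
  | add x y _ _ h1 h2 =>
    obtain ⟨A, hA, hA'⟩ := h1
    obtain ⟨B, hB, hB'⟩ := h2
    exact ⟨A + B, add_mem hA hB, fun w => by simp [hA', hB']⟩
  | smul c x _ h1 =>
    obtain ⟨A, hA, hA'⟩ := h1
    exact ⟨c • A, Submodule.smul_mem _ c hA, fun w => by simp [hA']⟩

theorem Nd.restrict {ρ : U →* Module.End k M} {Z : Subgroup U} (h : Nd ρ Z) {W : Submodule k M}
    (hW : Inv ρ W) : Nd (restr ρ hW) Z where
  card := h.card
  scal z hz := (h.scal z hz).imp fun c hc => LinearMap.ext fun w => Subtype.ext (by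
    rw [coe_restr, hc]; rfl)
  comm := h.comm
  nd u hu := by
    obtain ⟨v, c, hc, hv⟩ := h.nd u hu
    exact ⟨v, c, hc, LinearMap.ext fun w => Subtype.ext (by rw [coe_restr, hv]; rfl)⟩

/-- The centraliser in dimension count of an operator with a split polynomial equation. -/
theorem finrank_cent_bounds [IsAlgClosed k] [FiniteDimensional k M] (Y : Module.End k M) {t : ℕ}
    (ht : 0 < t) {c : k} (hY : Y ^ t = c • 1) :
    finrank k M ≤ finrank k (cent Y) ∧ finrank k M ^ 2 ≤ t * finrank k (cent Y) := by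
  obtain ⟨p, hp⟩ : ∃ p : Polynomial k, p = Polynomial.X ^ t - Polynomial.C c := ⟨_, rfl⟩
  have hmon : p.Monic := hp ▸ Polynomial.monic_X_pow_sub_C c ht.ne'
  have hspl := IsAlgClosed.splits p
  have hprod : p = (p.roots.toList.map fun a => Polynomial.X - Polynomial.C a).prod := by
    conv_lhs => rw [hspl.eq_prod_roots_of_monic hmon, ← Multiset.coe_toList p.roots]
    rw [Multiset.map_coe, Multiset.prod_coe]
  have hlen : p.roots.toList.length = t := by
    rw [Multiset.length_toList, ← hspl.natDegree_eq_card_roots, hp, Polynomial.natDegree_X_pow_sub_C]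
  have h0 : Polynomial.aeval Y p = 0 := by
    rw [hp, map_sub, map_pow, Polynomial.aeval_X, Polynomial.aeval_C, hY,
      Algebra.algebraMap_eq_smul_one, sub_self]
  rw [hprod, map_list_prod, List.map_map] at h0
  have hf : (Polynomial.aeval Y : Polynomial k →ₐ[k] Module.End k M) ∘
      (fun a => Polynomial.X - Polynomial.C a) = fun a => Y - a • 1 := funext fun a => by
    rw [Function.comp_apply, map_sub, Polynomial.aeval_X, Polynomial.aeval_C,
      Algebra.algebraMap_eq_smul_one]
  rw [hf] at h0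
  have := finrank_cent_ge p.roots.toList Y h0
  rwa [hlen] at this

theorem one_le_finrank_cent [FiniteDimensional k M] [Nontrivial M] (Y : Module.End k M) :
    1 ≤ finrank k (cent Y) := by
  refine Nat.one_le_iff_ne_zero.2 fun hz => ?_
  have h5 : (1 : Module.End k M) ∈ cent Y := mem_cent.2 (by rw [mul_one, one_mul])
  rw [Submodule.finrank_eq_zero.1 hz, Submodule.mem_bot] at h5
  exact one_ne_zero h5

/-- An operator that is scalar on a hyperplane. -/
theorem finrank_cent_hyperplane [FiniteDimensional k M] (Y : Module.End k M) (μ : k)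
    (H : Submodule k M) (hμ : ∀ v ∈ H, Y v = μ • v) (hle : finrank k M ≤ finrank k H + 1)
    (hm : 2 ≤ finrank k M) : (finrank k M - 1) ^ 2 + 1 ≤ finrank k (cent Y) := by
  have hmr : ∀ v ∈ LinearMap.range (Y - μ • 1), Y v ∈ LinearMap.range (Y - μ • 1) := by
    rintro _ ⟨w, rfl⟩
    exact ⟨Y w, DFunLike.congr_fun (((Commute.refl Y).sub_right
      ((Commute.one_right Y).smul_right μ)).eq.symm) w⟩
  rw [finrank_cent_step Y μ hmr]
  have hker : finrank k H ≤ finrank k (LinearMap.ker (Y - μ • 1)) :=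
    Submodule.finrank_mono fun v hv => LinearMap.mem_ker.2 (by
      show Y v - μ • v = 0
      rw [hμ v hv, sub_self])
  have h3 := (Y - μ • 1).finrank_range_add_finrank_ker
  obtain ⟨z, hz⟩ : ∃ z, z = finrank k (LinearMap.ker (Y - μ • 1)) := ⟨_, rfl⟩
  rw [← hz] at hker h3 ⊢
  rcases Nat.eq_zero_or_pos (finrank k (LinearMap.range (Y - μ • 1))) with h0 | h0
  · obtain ⟨e, he⟩ : ∃ e, finrank k M = e + 2 := ⟨finrank k M - 2, by omega⟩
    have hze : z = e + 2 := by omega
    rw [he, hze, show e + 2 - 1 = e + 1 by omega]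
    nlinarith
  · haveI : Nontrivial (LinearMap.range (Y - μ • 1)) := Module.nontrivial_of_finrank_pos h0
    exact Nat.add_le_add (Nat.pow_le_pow_left (by omega) 2) (one_le_finrank_cent _)

/-- Multiplicities of an intertwiner on an irreducible subspace. -/
theorem Nd.counts [IsAlgClosed k] [FiniteDimensional k M] [Nontrivial M] {ρ : U →* Module.End k M}
    {Z : Subgroup U} (h : Nd ρ Z) (htop : alg ρ = ⊤) (ψ : MulAut U) {r t : ℕ} (hr : 0 < r) (ht : 0 < t)
    (hrk : (r : k) ≠ 0) (hfix : ∀ z ∈ Z, ρ (ψ z) = ρ z) (hZ : ∀ u, ψ u ∈ Z ↔ u ∈ Z)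
    (hfree : ∀ i, 0 < i → i < r * t → ∀ u, u⁻¹ * (ψ ^ i) u ∈ Z → u ∈ Z)
    (hN : ∀ u, ρ ((ψ ^ (r * t)) u) = ρ u) (hN2 : ∀ u, ρ (((ψ ^ t) ^ r) u) = ρ u)
    {X : Module.End k M} (hX : X ^ (r * t) = 1) (hXc : ∀ v, X * ρ (ψ v) = ρ v * X)
    {ζ : k} (hζ : IsPrimitiveRoot ζ r) :
    ∃ (m c : Fin r → ℕ) (o o' : ℕ),
      ∑ j, m j = finrank k M ∧ ∑ j, c j = o + 1 ∧
      finrank k M * finrank k M = r * t * o + 1 ∧ ∑ j, m j ^ 2 = o' + 1 ∧
      finrank k M * finrank k M = r * o' + 1 ∧ Nat.card (U ⧸ Z) = finrank k M * finrank k M ∧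
      (∀ j, m j ≤ c j) ∧ (∀ j, m j ^ 2 ≤ t * c j) ∧
      (∀ j, m j = finrank k (Module.End.eigenspace (X ^ t) (ζ ^ (j : ℕ)))) ∧
      (∀ (j : Fin r) (μ : k), (∀ v ∈ Module.End.eigenspace (X ^ t) (ζ ^ (j : ℕ)), X v = μ • v) →
        c j = m j ^ 2) ∧
      ∀ (j : Fin r) (μ : k) (H : Submodule k M),
        H ≤ Module.End.eigenspace (X ^ t) (ζ ^ (j : ℕ)) → (∀ v ∈ H, X v = μ • v) →
        m j ≤ finrank k H + 1 → 2 ≤ m j → (m j - 1) ^ 2 + 1 ≤ c j := by
  have hN0 : 0 < r * t := Nat.mul_pos hr ht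
  obtain ⟨hS, o, ho, hcard⟩ := h.card_eq_orbits htop ψ hN0 hfix hZ hfree hN hX hXc
  have hmem : ∀ n, ∀ z ∈ Z, (ψ ^ n) z ∈ Z ∧ ρ ((ψ ^ n) z) = ρ z := by
    intro n
    induction n with
    | zero => exact fun z hz => ⟨hz, rfl⟩
    | succ n ih =>
      intro z hz
      rw [pow_succ', MulAut.mul_apply]
      exact ⟨(hZ _).2 (ih z hz).1, by rw [hfix _ (ih z hz).1, (ih z hz).2]⟩
  have hmemiff : ∀ n u, (ψ ^ n) u ∈ Z ↔ u ∈ Z := by
    intro n
    induction n with
    | zero => exact fun u => Iff.rfl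
    | succ n ih => exact fun u => by rw [pow_succ', MulAut.mul_apply, hZ, ih]
  have hpow : ∀ n v, X ^ n * ρ ((ψ ^ n) v) = ρ v * X ^ n := by
    intro n
    induction n with
    | zero => intro v; simp
    | succ n ih =>
      intro v
      rw [pow_succ, pow_succ' ψ, MulAut.mul_apply, mul_assoc, hXc, ← mul_assoc, ih, mul_assoc]
  have hXt : (X ^ t) ^ r = 1 := by rw [← pow_mul, mul_comm, hX]
  obtain ⟨-, o', ho', hcard'⟩ := h.card_eq_orbits htop (ψ ^ t) hr (fun z hz => (hmem t z hz).2)
    (hmemiff t) (fun i hi hir u hu => hfree (t * i) (Nat.mul_pos ht hi)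
      (by rw [mul_comm r t]; exact Nat.mul_lt_mul_of_pos_left hir ht) u (by rwa [pow_mul])) hN2
    (X := X ^ t) hXt (hpow t)
  have hd : finrank k (Module.End k M) = finrank k M * finrank k M :=
    Module.finrank_linearMap k k M M
  have hmv : ∀ i : Fin r, ∀ v ∈ Module.End.eigenspace (X ^ t) (ζ ^ (i : ℕ)),
      X v ∈ Module.End.eigenspace (X ^ t) (ζ ^ (i : ℕ)) := fun i v hv => by
    rw [Module.End.mem_eigenspace_iff] at hv ⊢
    rw [← Module.End.mul_apply, ← pow_succ, pow_succ', Module.End.mul_apply, hv, map_smul]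
  have hYt : ∀ i : Fin r, (X.restrict (hmv i)) ^ t =
      ζ ^ (i : ℕ) • (1 : Module.End k (Module.End.eigenspace (X ^ t) (ζ ^ (i : ℕ)))) := fun i => by
    have hp : ∀ (n : ℕ) v, (((X.restrict (hmv i)) ^ n) v : M) = (X ^ n) v := by
      intro n
      induction n with
      | zero => exact fun v => rfl
      | succ n ih =>
        intro v
        rw [pow_succ', pow_succ', Module.End.mul_apply, Module.End.mul_apply, ← ih]
        rfl
    refine LinearMap.ext fun v => Subtype.ext ?_
    rw [hp, Module.End.mem_eigenspace_iff.1 v.2]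
    rfl
  refine ⟨fun j => finrank k (Module.End.eigenspace (X ^ t) (ζ ^ (j : ℕ))),
    fun j => finrank k (cent (X.restrict (hmv j))), o, o', (finrank_eq_sum hXt hζ hrk).symm,
    (finrank_cent_pow hXt hζ hrk hmv).symm.trans ho, ?_, ?_, ?_, hS.symm.trans hd,
    fun j => (finrank_cent_bounds _ ht (hYt j)).1, fun j => (finrank_cent_bounds _ ht (hYt j)).2,
    fun _ => rfl, fun j μ hμ => ?_, fun j μ H hH hμ hle hm => ?_⟩
  · rw [← hd, hS, hcard]
  · exact (finrank_cent hXt hζ hrk).symm.trans ho'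
  · rw [← hd, hS, hcard']
  · have hY : X.restrict (hmv j) = μ • 1 := LinearMap.ext fun v => Subtype.ext (hμ v v.2)
    have htop' : cent (X.restrict (hmv j)) = ⊤ := eq_top_iff.2 fun a _ => mem_cent.2 (by
      rw [hY, smul_mul_assoc, mul_smul_comm, one_mul, mul_one])
    show finrank k (cent (X.restrict (hmv j))) = _
    rw [htop', finrank_top, Module.finrank_linearMap, sq]
  · refine finrank_cent_hyperplane _ μ
      (H.comap (Module.End.eigenspace (X ^ t) (ζ ^ (j : ℕ))).subtype)
      (fun v hv => Subtype.ext (hμ v hv)) ?_ hm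
    rw [(Submodule.comapSubtypeEquivOfLe hH).finrank_eq]
    exact hle

end Cfsg.Agent.Solv.FHeight
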