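import Cfsg.Agent.Lib.Solv.FHeight.FunRep
import Cfsg.Agent.Lib.Solv.FittingTowerExists
import Cfsg.Agent.Lib.Solv.PGroupPhi

/-!
Irreducible chains of primary sections obtained from invariant towers.
-/

set_option autoImplicit false
set_option linter.unusedSectionVars false
set_option linter.style.haveILetI false

open scoped commutatorElement Pointwise

namespace Cfsg.Agent.Solv.FHeight

open Cfsg.Agent.Solv.FitTower

universe u

variable {G : Type u} [Group G]

/-- The Frattini subgroup, seen in the group. -/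
def phiOf (T : Subgroup G) : Subgroup G := (frattini ↥T).map T.subtype

theorem phiOf_le (T : Subgroup G) : phiOf T ≤ T := Subgroup.map_subtype_le _

theorem norm_phiOf {T : Subgroup G} {g : G} (hg : g ∈ Subgroup.normalizer (T : Set G)) :
    g ∈ Subgroup.normalizer (phiOf T : Set G) := by
  have key : ∀ g ∈ Subgroup.normalizer (T : Set G), ∀ x ∈ phiOf T, g * x * g⁻¹ ∈ phiOf T := by
    rintro g hg _ ⟨y, hy, rfl⟩
    let c : MulAut T := Subgroup.normalizerMonoidHom T ⟨g, hg⟩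
    refine ⟨c y, ?_, rfl⟩
    rw [← Subgroup.characteristic_iff_map_eq.1 (inferInstance : (frattini ↥T).Characteristic) c]
    exact ⟨y, hy, rfl⟩
  refine Subgroup.mem_normalizer_iff.2 fun x => ⟨key g hg x, fun h => ?_⟩
  have h1 := key g⁻¹ (inv_mem hg) _ h
  rwa [show g⁻¹ * (g * x * g⁻¹) * g⁻¹⁻¹ = x by group] at h1

theorem nongen [Finite G] {L T : Subgroup G} (hL : L ≤ T) (h : T ≤ L ⊔ phiOf T) : L = T := by
  refine le_antisymm hL ?_
  have h1 : L.subgroupOf T ⊔ frattini ↥T = ⊤ := by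
    refine eq_top_iff.2 fun x _ => ?_
    have h2 : (L ⊔ phiOf T).subgroupOf T ≤ L.subgroupOf T ⊔ frattini ↥T := by
      rw [Subgroup.subgroupOf_sup hL (phiOf_le T), phiOf]
      refine sup_le_sup le_rfl ?_
      rw [Subgroup.subgroupOf, Subgroup.comap_map_eq_self_of_injective T.subtype_injective]
    exact h2 (h x.2)
  have h3 := frattini_nongenerating h1
  exact fun x hx => (h3 ▸ Subgroup.mem_top (⟨x, hx⟩ : T) : (⟨x, hx⟩ : T) ∈ L.subgroupOf T)

/-- The three subgroup lemma modulo a normalised subgroup. -/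
theorem three_mod {W H₁ H₂ H₃ : Subgroup G} (h₁ : H₁ ≤ Subgroup.normalizer (W : Set G))
    (h₂ : H₂ ≤ Subgroup.normalizer (W : Set G)) (h₃ : H₃ ≤ Subgroup.normalizer (W : Set G))
    (e₁ : ⁅⁅H₂, H₃⁆, H₁⁆ ≤ W) (e₂ : ⁅⁅H₃, H₁⁆, H₂⁆ ≤ W) : ⁅⁅H₁, H₂⁆, H₃⁆ ≤ W := by
  obtain ⟨N, hN⟩ : ∃ N, N = Subgroup.normalizer (W : Set G) := ⟨_, rfl⟩
  rw [← hN] at h₁ h₂ h₃
  haveI : (W.subgroupOf N).Normal := by
    subst hN; exact Subgroup.normal_subgroupOf_of_le_normalizer le_rfl
  let f := QuotientGroup.mk' (W.subgroupOf N)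
  let q : ∀ H : Subgroup G, Subgroup (N ⧸ W.subgroupOf N) := fun H => (H.subgroupOf N).map f
  have key : ∀ {A B C : Subgroup G}, A ≤ N → B ≤ N → C ≤ N →
      (⁅⁅A, B⁆, C⁆ ≤ W ↔ ⁅⁅q A, q B⁆, q C⁆ = ⊥) := by
    intro A B C hA hB hC
    simp only [q, ← Subgroup.map_commutator, Subgroup.map_eq_bot_iff, f, QuotientGroup.ker_mk']
    rw [← Subgroup.map_le_map_iff_of_injective N.subtype_injective, Subgroup.map_commutator,
      Subgroup.map_commutator, Subgroup.map_subgroupOf_eq_of_le hA,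
      Subgroup.map_subgroupOf_eq_of_le hB, Subgroup.map_subgroupOf_eq_of_le hC,
      Subgroup.subgroupOf_map_subtype]
    refine ⟨fun h => le_inf h ?_, fun h => h.trans inf_le_left⟩
    refine Subgroup.commutator_le.2 fun a ha b hb => ?_
    have ha' : a ∈ N := (Subgroup.commutator_le.2 fun x hx y hy =>
      mul_mem (mul_mem (mul_mem (hA hx) (hB hy)) (inv_mem (hA hx))) (inv_mem (hB hy))) ha
    exact mul_mem (mul_mem (mul_mem ha' (hC hb)) (inv_mem ha')) (inv_mem (hC hb))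
  exact (key h₁ h₂ h₃).2 (Subgroup.commutator_commutator_eq_bot_of_rotate
    ((key h₂ h₃ h₁).1 e₁) ((key h₃ h₁ h₂).1 e₂))

/-- Coprime action on an elementary quotient without centralised elements. -/
theorem le_of_gen [Finite G] {T B F : Subgroup G} {p : ℕ} (hp : p.Prime)
    (hBT : B ≤ Subgroup.normalizer (T : Set G)) (hBF : B ≤ Subgroup.normalizer (F : Set G))
    (hFT : F ≤ T) (hcomm : ∀ a ∈ T, ∀ b ∈ T, b * a * b⁻¹ * a⁻¹ ∈ F) (hpow : ∀ a ∈ T, a ^ p ∈ F)
    (hco : p.Coprime (Nat.card B)) (hgen : T ≤ ⁅T, B⁆ ⊔ F) {y : G} (hy : y ∈ T)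
    (hfix : ∀ b ∈ B, ⁅y, b⁆ ∈ F) : y ∈ F := by
  classical
  by_contra hne
  haveI := Fact.mk hp
  haveI := Fintype.ofFinite B
  have hn : (F.subgroupOf T).Normal := ⟨fun z hz v => by
    rw [Subgroup.mem_subgroupOf] at hz ⊢
    have h1 := mul_mem (hcomm z z.2 v v.2) hz
    rwa [inv_mul_cancel_right] at h1⟩
  obtain ⟨f, hf⟩ := funs_sep (k := ZMod p) (F := F.subgroupOf T) hp hn
    (fun a b => hcomm a a.2 b b.2) (fun a => by
      rw [Subgroup.mem_subgroupOf, SubmonoidClass.coe_pow]; exact hpow a a.2) (x := ⟨y, hy⟩) hne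
  let act : B →* MulAut T := (Subgroup.normalizerMonoidHom T).comp (Subgroup.inclusion hBT)
  have hact : ∀ (b : B) (x : T), ((act b x : T) : G) = b * x * (b : G)⁻¹ := fun b x => rfl
  let g : T → ZMod p := fun x => ∑ b : B, (f : T → ZMod p) (act b x)
  have hgmul : ∀ a b, g (a * b) = g a + g b := fun a b => by
    simp only [g, map_mul, funs_mul, Finset.sum_add_distrib]
  have hgF : ∀ x : T, (x : G) ∈ F → g x = 0 := fun x hx => Finset.sum_eq_zero fun b _ =>
    funs_zero f (show ((act b x : T) : G) ∈ F from hact b x ▸ conj_mem_of_mem_normalizer (hBF b.2) hx)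
  let gh : T →* Multiplicative (ZMod p) := MonoidHom.mk' (fun x => Multiplicative.ofAdd (g x))
    fun a b => by rw [hgmul]; rfl
  have hker : T ≤ gh.ker.map T.subtype := by
    refine hgen.trans (sup_le (Subgroup.commutator_le.2 fun x hx b hb => ?_) fun x hx =>
      ⟨⟨x, hFT hx⟩, hgF ⟨x, hFT hx⟩ hx, rfl⟩)
    have hmem : ⁅x, b⁆ ∈ T := by
      rw [commutatorElement_def]; exact comm_mem_of_mem_normalizer (hBT hb) hx
    refine ⟨⟨_, hmem⟩, ?_, rfl⟩
    have he : (⟨_, hmem⟩ : T) = ⟨x, hx⟩ * act ⟨b, hb⟩ ⟨x, hx⟩⁻¹ := Subtype.ext (by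
      rw [Subgroup.coe_mul, hact]
      show ⁅x, b⁆ = x * (b * x⁻¹ * b⁻¹)
      rw [commutatorElement_def]; group)
    show Multiplicative.ofAdd (g _) = 1
    rw [he, hgmul]
    have h1 : g (act ⟨b, hb⟩ ⟨x, hx⟩⁻¹) = g (⟨x, hx⟩ : T)⁻¹ := by
      simp only [g]
      exact Fintype.sum_equiv (Equiv.mulRight (⟨b, hb⟩ : B)) _ _ fun c => by
        show (f : T → ZMod p) (act c (act ⟨b, hb⟩ _)) = (f : T → ZMod p) (act (c * ⟨b, hb⟩) _)
        rw [map_mul, MulAut.mul_apply]
    rw [h1, ← hgmul, mul_inv_cancel, hgF 1 (one_mem F)]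
    rfl
  obtain ⟨⟨y', hy'⟩, hgy, rfl⟩ := hker hy
  have h0 : g ⟨y', hy'⟩ = 0 := hgy
  have h1 : ∀ b : B, (f : T → ZMod p) (act b ⟨y', hy'⟩) = (f : T → ZMod p) ⟨y', hy'⟩ := fun b => by
    have hm : ((⟨y', hy'⟩ : T) * (act b ⟨y', hy'⟩)⁻¹ : T) ∈ F.subgroupOf T := by
      rw [Subgroup.mem_subgroupOf, Subgroup.coe_mul, Subgroup.coe_inv, hact]
      have h2 := hfix b b.2
      rw [commutatorElement_def] at h2
      show y' * (↑b * y' * (↑b)⁻¹)⁻¹ ∈ F
      rwa [show y' * (↑b * y' * (↑b : G)⁻¹)⁻¹ = y' * ↑b * y'⁻¹ * (↑b)⁻¹ by group]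
    have h2 := funs_zero f hm
    rw [funs_mul, funs_inv, add_neg_eq_zero] at h2
    exact h2.symm
  simp only [g] at h0
  rw [Finset.sum_congr rfl fun b _ => h1 b, Finset.sum_const, Finset.card_univ, nsmul_eq_mul,
    ← Nat.card_eq_fintype_card] at h0
  refine hf ((mul_eq_zero.1 h0).resolve_left fun hz => hp.ne_one ?_)
  rw [CharP.cast_eq_zero_iff (ZMod p) p] at hz
  exact Nat.dvd_one.1 (hco.gcd_eq_one ▸ Nat.dvd_gcd dvd_rfl hz)

/-- A tower read off as sequences. -/
structure Seq (A X : Subgroup G) (m : ℕ) (P K : ℕ → Subgroup G) (p : ℕ → ℕ) : Prop where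
  prime : ∀ i ≤ m, (p i).Prime
  grp : ∀ i ≤ m, IsPGroup (p i) (P i)
  le : ∀ i ≤ m, P i ≤ X
  aP : ∀ i ≤ m, A ≤ Subgroup.normalizer (P i : Set G)
  aK : ∀ i ≤ m, A ≤ Subgroup.normalizer (K i : Set G)
  proper : ∀ i ≤ m, ¬ P i ≤ K i
  nP : ∀ i l, i ≤ l → l ≤ m → P i ≤ Subgroup.normalizer (P l : Set G)
  nK : ∀ i l, i ≤ l → l ≤ m → P i ≤ Subgroup.normalizer (K l : Set G)
  ne : ∀ i < m, p i ≠ p (i + 1)
  kerK : ∀ i < m, K i = P i ⊓ modCent (P (i + 1)) (K (i + 1))

theorem exists_seq {A X Z : Subgroup G} (hZX : Z ≤ X) {m q : ℕ} {P K S : Subgroup G}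
    (t : Tower A X Z m q P K S) :
    ∃ (Pf Kf : ℕ → Subgroup G) (p : ℕ → ℕ), Pf 0 = P ∧ Kf 0 = K ∧ p 0 = q ∧ Seq A X m Pf Kf p ∧
      ∀ i ≤ m, S ≤ Subgroup.normalizer (Pf i : Set G) ∧ S ≤ Subgroup.normalizer (Kf i : Set G) := by
  induction t with
  | @base q P hq hP hne hPZ hA =>
    refine ⟨fun _ => P, fun _ => ⊥, fun _ => q, rfl, rfl, rfl,
      { prime := fun _ _ => hq, grp := fun _ _ => hP, le := fun _ _ => hPZ.trans hZX
        aP := fun _ _ => hA
        aK := fun _ _ => by rw [Subgroup.normalizer_eq_top (H := (⊥ : Subgroup G))]; exact le_top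
        proper := fun _ _ h => hne (le_bot_iff.1 h)
        nP := fun _ _ _ _ => Subgroup.le_normalizer
        nK := fun _ _ _ _ => by rw [Subgroup.normalizer_eq_top (H := (⊥ : Subgroup G))]; exact le_top
        ne := fun i hi => absurd hi (Nat.not_lt_zero i)
        kerK := fun i hi => absurd hi (Nat.not_lt_zero i) }, fun i _ => ⟨le_rfl, ?_⟩⟩
    rw [Subgroup.normalizer_eq_top (H := (⊥ : Subgroup G))]; exact le_top
  | @step m q' q P' K' S' P t hq hne hP hPX hA hK ih =>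
    obtain ⟨Pf, Kf, p, hP0, hK0, hp0, hs, hS⟩ := ih
    obtain ⟨-, -, -, -, hSP, hSK, hAP, hAK, -, hnK⟩ :=
      (Tower.step t hq hne hP hPX hA hK).inv hZX
    refine ⟨fun i => Nat.casesOn i P Pf, fun i => Nat.casesOn i (P ⊓ modCent P' K') Kf,
      fun i => Nat.casesOn i q p, rfl, rfl, rfl,
      { prime := fun i hi => ?_, grp := fun i hi => ?_, le := fun i hi => ?_, aP := fun i hi => ?_
        aK := fun i hi => ?_, proper := fun i hi => ?_, nP := fun i l hil hl => ?_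
        nK := fun i l hil hl => ?_, ne := fun i hi => ?_, kerK := fun i hi => ?_ },
      fun i hi => ?_⟩
    all_goals rcases i with _ | i
    · exact hq
    · exact hs.prime i (Nat.le_of_succ_le_succ hi)
    · exact hP
    · exact hs.grp i (Nat.le_of_succ_le_succ hi)
    · exact hPX.trans inf_le_left
    · exact hs.le i (Nat.le_of_succ_le_succ hi)
    · exact hA
    · exact hs.aP i (Nat.le_of_succ_le_succ hi)
    · exact hAK
    · exact hs.aK i (Nat.le_of_succ_le_succ hi)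
    · exact hnK
    · exact hs.proper i (Nat.le_of_succ_le_succ hi)
    · rcases l with _ | l
      · exact Subgroup.le_normalizer
      · exact hPX.trans (inf_le_right.trans (hS l (Nat.le_of_succ_le_succ hl)).1)
    · obtain ⟨l, rfl⟩ : ∃ l', l = l' + 1 := ⟨l - 1, by omega⟩
      exact hs.nP i l (Nat.le_of_succ_le_succ hil) (Nat.le_of_succ_le_succ hl)
    · rcases l with _ | l
      · exact (le_inf (hPX.trans inf_le_right) Subgroup.le_normalizer).trans hSK
      · exact hPX.trans (inf_le_right.trans (hS l (Nat.le_of_succ_le_succ hl)).2)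
    · obtain ⟨l, rfl⟩ : ∃ l', l = l' + 1 := ⟨l - 1, by omega⟩
      exact hs.nK i l (Nat.le_of_succ_le_succ hil) (Nat.le_of_succ_le_succ hl)
    · show q ≠ p 0
      rw [hp0]; exact hne.symm
    · exact hs.ne i (Nat.lt_of_succ_lt_succ hi)
    · show P ⊓ modCent P' K' = P ⊓ modCent (Pf 0) (Kf 0)
      rw [hP0, hK0]
    · exact hs.kerK i (Nat.lt_of_succ_lt_succ hi)
    · exact ⟨hSP, hSK⟩
    · exact ⟨inf_le_left.trans (hS i (Nat.le_of_succ_le_succ hi)).1,
        inf_le_left.trans (hS i (Nat.le_of_succ_le_succ hi)).2⟩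

/-- An irreducible chain. -/
structure Chain (A X : Subgroup G) (m : ℕ) (P F K : ℕ → Subgroup G) (p : ℕ → ℕ) : Prop where
  prime : ∀ i ≤ m, (p i).Prime
  grp : ∀ i ≤ m, IsPGroup (p i) (P i)
  le : ∀ i ≤ m, P i ≤ X
  aP : ∀ i ≤ m, A ≤ Subgroup.normalizer (P i : Set G)
  aF : ∀ i ≤ m, A ≤ Subgroup.normalizer (F i : Set G)
  aK : ∀ i ≤ m, A ≤ Subgroup.normalizer (K i : Set G)
  nP : ∀ i l, i ≤ l → l ≤ m → P i ≤ Subgroup.normalizer (P l : Set G)
  nF : ∀ i l, i ≤ l → l ≤ m → P i ≤ Subgroup.normalizer (F l : Set G)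
  nK : ∀ i l, i ≤ l → l ≤ m → P i ≤ Subgroup.normalizer (K l : Set G)
  leF : ∀ i ≤ m, F i ≤ P i
  leK : ∀ i ≤ m, K i ≤ F i
  proper : ∀ i ≤ m, ¬ P i ≤ F i
  comm : ∀ i ≤ m, ∀ a ∈ P i, ∀ b ∈ P i, b * a * b⁻¹ * a⁻¹ ∈ F i
  pow : ∀ i ≤ m, ∀ a ∈ P i, a ^ p i ∈ F i
  cen : ∀ i ≤ m, ⁅F i, P i⁆ ≤ K i
  hgen : ∀ i ≤ m, ∀ L, L ≤ P i → P i ≤ L ⊔ F i → P i ≤ L ⊔ K i
  ne : ∀ i < m, p i ≠ p (i + 1)
  cenF : ∀ i < m, ⁅F (i + 1), P i⁆ ≤ K (i + 1)
  kerK : ∀ i < m, ∀ x, x ∈ K i ↔ x ∈ P i ∧ ∀ y ∈ P (i + 1), ⁅y, x⁆ ∈ F (i + 1)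
  gen : ∀ i < m, P (i + 1) ≤ ⁅P (i + 1), P i⁆ ⊔ F (i + 1)
  irred : ∀ i < m, ∀ L, L ≤ P (i + 1) → F (i + 1) ≤ L → A ≤ Subgroup.normalizer (L : Set G) →
    (∀ l ≤ i, P l ≤ Subgroup.normalizer (L : Set G)) → L = P (i + 1) ∨ L ≤ F (i + 1)

/-- Acting non-trivially: on the next section, or at the top outside the kernel. -/
def Nt (T K : ℕ → Subgroup G) : ℕ → Subgroup G → Prop
  | 0, L => ¬ L ≤ K 0
  | i + 1, L => ¬ ⁅L, T i⁆ ≤ K (i + 1)

/-- A minimal choice at one level. -/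
def Good (A : Subgroup G) (P K T : ℕ → Subgroup G) (i : ℕ) : Prop :=
  T i ≤ P i ∧ A ≤ Subgroup.normalizer (T i : Set G) ∧
    (∀ l < i, T l ≤ Subgroup.normalizer (T i : Set G)) ∧ Nt T K i (T i) ∧
    ∀ L, L ≤ T i → A ≤ Subgroup.normalizer (L : Set G) →
      (∀ l < i, T l ≤ Subgroup.normalizer (L : Set G)) → Nt T K i L → L = T i

theorem Nt_congr {T T' K : ℕ → Subgroup G} {n : ℕ} (h : ∀ l < n, T l = T' l) (L : Subgroup G) :
    Nt T K n L ↔ Nt T' K n L := by
  rcases n with _ | i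
  · exact Iff.rfl
  · show ¬ _ ↔ ¬ _
    rw [h i (Nat.lt_succ_self i)]

theorem not_le_K {A X : Subgroup G} {m : ℕ} {P K : ℕ → Subgroup G} {p : ℕ → ℕ}
    (hs : Seq A X m P K p) {T : ℕ → Subgroup G} {i : ℕ} (hi : i ≤ m)
    (hT : ∀ l < i, T l ≤ P l) {L : Subgroup G} (h : Nt T K i L) : ¬ L ≤ K i := by
  rcases i with _ | i
  · exact h
  · intro hle
    refine h (Subgroup.commutator_le.2 fun a ha b hb => ?_)
    rw [commutatorElement_def]
    exact comm_mem_of_mem_normalizer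
      (hs.nK i (i + 1) (Nat.le_succ i) hi (hT i (Nat.lt_succ_self i) hb)) (hle ha)

variable [Finite G]

theorem exists_good {A X : Subgroup G} {m : ℕ} {P K : ℕ → Subgroup G} {p : ℕ → ℕ}
    (hs : Seq A X m P K p) :
    ∀ n ≤ m + 1, ∃ T : ℕ → Subgroup G, ∀ i < n, Good A P K T i
  | 0, _ => ⟨P, fun i hi => absurd hi (Nat.not_lt_zero i)⟩
  | n + 1, hn => by
    classical
    obtain ⟨T, hT⟩ := exists_good hs n (Nat.le_of_succ_le hn)
    have hTle : ∀ l < n, T l ≤ P l := fun l hl => (hT l hl).1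
    obtain ⟨L, hL, hmin⟩ := Finite.exists_le_minimal (p := fun L : Subgroup G => L ≤ P n ∧
        A ≤ Subgroup.normalizer (L : Set G) ∧ (∀ l < n, T l ≤ Subgroup.normalizer (L : Set G)) ∧
        Nt T K n L) (a := P n) ⟨le_rfl, hs.aP n (Nat.le_of_succ_le_succ hn), fun l hl =>
      (hTle l hl).trans (hs.nP l n hl.le (Nat.le_of_succ_le_succ hn)), by
      rcases n with _ | i
      · exact hs.proper 0 (Nat.zero_le _)
      · intro hle
        have him : i < m := by omega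
        refine not_le_K hs him.le (fun l hl => hTle l (by omega)) (hT i (Nat.lt_succ_self i)).2.2.2.1 ?_
        rw [hs.kerK i him]
        refine le_inf (hTle i (Nat.lt_succ_self i)) fun x hx => mem_modCent.2
          ⟨hs.nK i (i + 1) (Nat.le_succ i) him ((hTle i (Nat.lt_succ_self i)) hx), fun y hy =>
            hle (Subgroup.commutator_mem_commutator hy hx)⟩⟩
    refine ⟨Function.update T n L, fun i hi => ?_⟩
    have hagree : ∀ l < n, Function.update T n L l = T l := fun l hl =>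
      Function.update_of_ne (Nat.ne_of_lt hl) _ _
    rcases eq_or_lt_of_le (Nat.lt_succ_iff.1 hi) with rfl | hlt
    · obtain ⟨h1, h2, h3, h4⟩ := hmin.1
      have h0 : Function.update T i L i = L := Function.update_self i L T
      refine ⟨h0.symm ▸ h1, h0.symm ▸ h2, fun l hl => ?_, ?_, fun L' hL' ha hl' hnt => ?_⟩
      · rw [hagree l hl, h0]; exact h3 l hl
      · rw [h0]; exact (Nt_congr hagree L).2 h4
      · rw [h0] at hL' ⊢
        exact le_antisymm hL' (hmin.2 ⟨hL'.trans h1, ha,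
          fun l hl => hagree l hl ▸ hl' l hl, (Nt_congr hagree L').1 hnt⟩ hL')
    · obtain ⟨h1, h2, h3, h4, h5⟩ := hT i hlt
      have hi' : ∀ l < i, Function.update T n L l = T l := fun l hl => hagree l (hl.trans hlt)
      refine ⟨(hagree i hlt).symm ▸ h1, (hagree i hlt).symm ▸ h2, fun l hl => ?_, ?_,
        fun L' hL' ha hl' hnt => ?_⟩
      · rw [hi' l hl, hagree i hlt]; exact h3 l hl
      · rw [hagree i hlt]; exact (Nt_congr hi' _).2 h4
      · rw [hagree i hlt] at hL' ⊢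
        exact h5 L' hL' ha (fun l hl => hi' l hl ▸ hl' l hl) ((Nt_congr hi' L').1 hnt)

/-- Every tower yields an irreducible chain. -/
theorem exists_chain {A X : Subgroup G} {m : ℕ} {P K : ℕ → Subgroup G} {p : ℕ → ℕ}
    (hs : Seq A X m P K p) : ∃ (T F K' : ℕ → Subgroup G), Chain A X m T F K' p := by
  classical
  obtain ⟨T, hT'⟩ := exists_good hs (m + 1) le_rfl
  have hT : ∀ i ≤ m, Good A P K T i := fun i hi => hT' i (Nat.lt_succ_of_le hi)
  have hTP : ∀ i ≤ m, T i ≤ P i := fun i hi => (hT i hi).1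
  have hgrp : ∀ i ≤ m, IsPGroup (p i) (T i) := fun i hi => (hs.grp i hi).to_le (hTP i hi)
  have hnT : ∀ i l, i ≤ l → l ≤ m → T i ≤ Subgroup.normalizer (T l : Set G) := by
    intro i l hil hl
    rcases eq_or_lt_of_le hil with rfl | hlt
    · exact Subgroup.le_normalizer
    · exact (hT l hl).2.2.1 i hlt
  obtain ⟨W, hW⟩ : ∃ W : ℕ → Subgroup G, W = fun i => K i ⊓ T i := ⟨_, rfl⟩
  obtain ⟨F, hF⟩ : ∃ F : ℕ → Subgroup G, F = fun i => W i ⊔ phiOf (T i) := ⟨_, rfl⟩
  have hnW : ∀ i l, i ≤ l → l ≤ m → T i ≤ Subgroup.normalizer (W l : Set G) := fun i l hil hl => by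
    rw [hW]; exact normalizer_smul_inf ((hTP i (hil.trans hl)).trans (hs.nK i l hil hl)) (hnT i l hil hl)
  have hnF : ∀ i l, i ≤ l → l ≤ m → T i ≤ Subgroup.normalizer (F l : Set G) := fun i l hil hl => by
    rw [hF]; exact normalizer_smul_sup (hnW i l hil hl) fun g hg => norm_phiOf (hnT i l hil hl hg)
  have haW : ∀ i ≤ m, A ≤ Subgroup.normalizer (W i : Set G) := fun i hi => by
    rw [hW]; exact normalizer_smul_inf (hs.aK i hi) (hT i hi).2.1
  have haF : ∀ i ≤ m, A ≤ Subgroup.normalizer (F i : Set G) := fun i hi => by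
    rw [hF]; exact normalizer_smul_sup (haW i hi) fun g hg => norm_phiOf ((hT i hi).2.1 hg)
  have hFT : ∀ i, F i ≤ T i := fun i => by
    rw [hF, hW]; exact sup_le inf_le_right (phiOf_le _)
  have hWF : ∀ i, W i ≤ F i := fun i => by rw [hF]; exact le_sup_left
  have hnot : ∀ i ≤ m, ¬ T i ≤ K i := fun i hi => not_le_K hs hi
    (fun l hl => hTP l (hl.le.trans hi)) (hT i hi).2.2.2.1
  have hprop : ∀ i ≤ m, ¬ T i ≤ F i := fun i hi h => by
    refine hnot i hi ?_
    have h1 : W i = T i := nongen (hW ▸ inf_le_right) (h.trans (le_of_eq (by rw [hF])))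
    rw [hW] at h1
    exact h1 ▸ inf_le_left
  have hcomm : ∀ i ≤ m, ∀ a ∈ T i, ∀ b ∈ T i, b * a * b⁻¹ * a⁻¹ ∈ F i := fun i hi a ha b hb => by
    haveI := Fact.mk (hs.prime i hi)
    rw [hF]
    exact Subgroup.mem_sup_right ⟨⁅(⟨b, hb⟩ : T i), ⟨a, ha⟩⁆,
      commutatorElement_mem_frattini (hgrp i hi) _ _, rfl⟩
  have hpow : ∀ i ≤ m, ∀ a ∈ T i, a ^ p i ∈ F i := fun i hi a ha => by
    haveI := Fact.mk (hs.prime i hi)
    rw [hF]
    exact Subgroup.mem_sup_right ⟨(⟨a, ha⟩ : T i) ^ p i, pow_mem_frattini (hgrp i hi) _, rfl⟩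
  -- proper invariant subgroups act trivially
  have hsmall : ∀ i < m, ∀ L, L ≤ T (i + 1) → A ≤ Subgroup.normalizer (L : Set G) →
      (∀ l ≤ i, T l ≤ Subgroup.normalizer (L : Set G)) → L ≠ T (i + 1) → ⁅L, T i⁆ ≤ K (i + 1) :=
    fun i hi L hL ha hl hne => by_contra fun h => hne ((hT (i + 1) hi).2.2.2.2 L hL ha
      (fun l hl' => hl l (Nat.le_of_lt_succ hl')) h)
  have hcenF : ∀ i < m, ⁅F (i + 1), T i⁆ ≤ W (i + 1) := fun i hi => by
    rw [hW]
    refine le_inf (hsmall i hi _ (hFT _) (haF _ hi) (fun l hl => hnF l _ (by omega) hi)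
      fun h => hprop _ hi h.ge) ((Subgroup.commutator_mono (hFT _) le_rfl).trans ?_)
    exact Subgroup.commutator_le.2 fun a ha b hb => by
      rw [commutatorElement_def]
      exact comm_mem_of_mem_normalizer (hnT i (i + 1) (Nat.le_succ i) hi hb) ha
  have hcop : ∀ i < m, (Nat.card (T i)).Coprime (Nat.card (T (i + 1))) := fun i hi => by
    haveI := Fact.mk (hs.prime i hi.le)
    haveI := Fact.mk (hs.prime (i + 1) hi)
    exact SSF.card_coprime_of_ne (hs.prime i hi.le) (hs.prime (i + 1) hi) (hs.ne i hi) (hgrp i hi.le)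
      (hgrp (i + 1) hi)
  have hgen : ∀ i < m, T (i + 1) ≤ ⁅T (i + 1), T i⁆ ⊔ W (i + 1) := by
    intro i hi
    by_contra hne
    haveI := Fact.mk (hs.prime i hi.le)
    haveI : Group.IsNilpotent (T i) := (hgrp i hi.le).isNilpotent
    have hN := hnT i (i + 1) (Nat.le_succ i) hi
    refine (hT (i + 1) hi).2.2.2.1 ?_
    rw [← commutator_commutator_eq hN (hcop i hi) (Or.inl inferInstance)]
    refine le_trans (Subgroup.commutator_mono le_sup_left le_rfl) (hsmall i hi (⁅T (i + 1), T i⁆ ⊔ W (i + 1))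
      (sup_le (commutator_normal_in hN).1 (hW ▸ inf_le_right)) ?_ (fun l hl => ?_)
      fun h => hne h.ge)
    · refine normalizer_smul_sup (fun a ha => ?_) (haW _ hi)
      refine mem_normalizer_of_conj_smul ?_
      rw [conj_smul_eq_map, Subgroup.map_commutator, ← conj_smul_eq_map, ← conj_smul_eq_map,
        conj_smul_of_mem_normalizer ((hT (i + 1) hi).2.1 ha),
        conj_smul_of_mem_normalizer ((hT i hi.le).2.1 ha)]
    · refine normalizer_smul_sup (fun a ha => ?_) (hnW l _ (by omega) hi)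
      refine mem_normalizer_of_conj_smul ?_
      rw [conj_smul_eq_map, Subgroup.map_commutator, ← conj_smul_eq_map, ← conj_smul_eq_map,
        conj_smul_of_mem_normalizer (hnT l (i + 1) (by omega) hi ha),
        conj_smul_of_mem_normalizer (hnT l i hl hi.le ha)]
  have hirred : ∀ i < m, ∀ L, L ≤ T (i + 1) → F (i + 1) ≤ L → A ≤ Subgroup.normalizer (L : Set G) →
      (∀ l ≤ i, T l ≤ Subgroup.normalizer (L : Set G)) → L = T (i + 1) ∨ L ≤ F (i + 1) := by
    intro i hi L hL _ ha hl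
    refine or_iff_not_imp_left.2 fun hne y hy => ?_
    refine le_of_gen (hs.prime (i + 1) hi) (hnT i (i + 1) (Nat.le_succ i) hi)
      (hnF i (i + 1) (Nat.le_succ i) hi) (hFT _) (hcomm _ hi) (hpow _ hi) ?_
      ((hgen i hi).trans (sup_le_sup le_rfl (hWF _))) (hL hy) fun b hb => hWF _ ?_
    · haveI := Fact.mk (hs.prime i hi.le)
      obtain ⟨e, he⟩ := IsPGroup.iff_card.1 (hgrp i hi.le)
      rw [he]
      exact ((Nat.coprime_primes (hs.prime (i + 1) hi) (hs.prime i hi.le)).2 (hs.ne i hi).symm).pow_right e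
    · rw [hW]
      refine ⟨hsmall i hi L hL ha hl hne (Subgroup.commutator_mem_commutator hy hb), ?_⟩
      rw [commutatorElement_def]
      exact comm_mem_of_mem_normalizer (hnT i (i + 1) (Nat.le_succ i) hi hb) (hL hy)
  obtain ⟨K', hK'⟩ : ∃ K' : ℕ → Subgroup G, K' = fun i =>
      if i < m then T i ⊓ modCent (T (i + 1)) (F (i + 1)) else F i := ⟨_, rfl⟩
  have hK'lt : ∀ i < m, K' i = T i ⊓ modCent (T (i + 1)) (F (i + 1)) := fun i hi => by
    rw [hK']; exact if_pos hi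
  have hK'eq : ∀ i, ¬ i < m → K' i = F i := fun i hi => by rw [hK']; exact if_neg hi
  have hnK' : ∀ (i l : ℕ) (g : G), l ≤ m → i ≤ m → g ∈ Subgroup.normalizer (T l : Set G) →
      (∀ j, l ≤ j → j ≤ m → g ∈ Subgroup.normalizer (T j : Set G) ∧
        g ∈ Subgroup.normalizer (F j : Set G)) → g ∈ Subgroup.normalizer (K' l : Set G) := by
    intro i l g hl _ hg hall
    by_cases hlm : l < m
    · rw [hK'lt l hlm]
      exact normalizer_smul_inf (A := Subgroup.zpowers g) (Subgroup.zpowers_le.2 hg)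
        (Subgroup.zpowers_le.2 (le_normalizer_modCent (hall (l + 1) (by omega) hlm).1
          (hall (l + 1) (by omega) hlm).2)) (Subgroup.mem_zpowers g)
    · rw [hK'eq l hlm]; exact (hall l le_rfl hl).2
  have haK' : ∀ i ≤ m, A ≤ Subgroup.normalizer (K' i : Set G) := fun i hi a ha =>
    hnK' i i a hi hi ((hT i hi).2.1 ha) fun j _ hj => ⟨(hT j hj).2.1 ha, haF j hj ha⟩
  have hTK' : ∀ i l, i ≤ l → l ≤ m → T i ≤ Subgroup.normalizer (K' l : Set G) := fun i l hil hl a ha =>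
    hnK' i l a hl (hil.trans hl) (hnT i l hil hl ha)
      fun j hlj hj => ⟨hnT i j (hil.trans hlj) hj ha, hnF i j (hil.trans hlj) hj ha⟩
  have hWK' : ∀ i ≤ m, W i ≤ K' i := by
    intro i hi x hx
    by_cases him : i < m
    · rw [hW] at hx
      obtain ⟨hxK, hxT⟩ := Subgroup.mem_inf.1 hx
      rw [hK'lt i him]
      refine ⟨hxT, mem_modCent.2 ⟨hnF i (i + 1) (Nat.le_succ i) him hxT, fun y hy => hWF _ ?_⟩⟩
      rw [hs.kerK i him] at hxK
      rw [hW]
      refine ⟨(mem_modCent.1 hxK.2).2 y (hTP _ him hy), ?_⟩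
      rw [commutatorElement_def]
      exact comm_mem_of_mem_normalizer (hnT i (i + 1) (Nat.le_succ i) him hxT) hy
    · rw [hK'eq i him]; exact hWF i hx
  have hK'F : ∀ i ≤ m, K' i ≤ F i := by
    intro i hi
    by_cases him : i < m
    swap
    · rw [hK'eq i him]
    have hne : K' i ≠ T i := fun h => by
      refine hprop (i + 1) him ((hgen i him).trans (sup_le ?_ (hWF _)))
      refine Subgroup.commutator_le.2 fun y hy x hx => ?_
      rw [hK'lt i him] at h
      exact (mem_modCent.1 (h.ge hx).2).2 y hy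
    have hKT : K' i ≤ T i := by rw [hK'lt i him]; exact inf_le_left
    rcases i with _ | i
    · refine le_trans ?_ (hWF 0)
      rw [hW]
      exact le_inf (by_contra fun h => hne ((hT 0 hi).2.2.2.2 _ hKT (haK' 0 hi)
        (fun l hl => absurd hl (Nat.not_lt_zero l)) h)) hKT
    · rcases hirred i hi (K' (i + 1) ⊔ F (i + 1)) (sup_le hKT (hFT _)) le_sup_right
        (normalizer_smul_sup (haK' _ hi) (haF _ hi))
        (fun l hl => normalizer_smul_sup (hTK' l _ (by omega) hi) (hnF l _ (by omega) hi)) with h | h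
      · refine absurd (nongen hKT (h.ge.trans (sup_le le_sup_left ?_))) hne
        conv_lhs => rw [hF]
        exact sup_le ((hWK' _ hi).trans le_sup_left) le_sup_right
      · exact le_sup_left.trans h
  refine ⟨T, F, K',
    { prime := hs.prime, grp := hgrp, le := fun i hi => (hTP i hi).trans (hs.le i hi)
      aP := fun i hi => (hT i hi).2.1, aF := haF, aK := haK', nP := hnT, nF := hnF, nK := hTK'
      leF := fun i _ => hFT i, leK := hK'F, proper := hprop, comm := hcomm, pow := hpow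
      cen := fun i hi => ?_, hgen := fun i hi L hL hle => ?_, ne := hs.ne
      cenF := fun i hi => (hcenF i hi).trans (hWK' _ hi)
      kerK := fun i hi x => ?_, gen := fun i hi => (hgen i hi).trans (sup_le_sup le_rfl (hWF _))
      irred := hirred }⟩
  · refine le_trans ?_ (hWK' i hi)
    have hTT : ⁅F i, T i⁆ ≤ T i := Subgroup.commutator_le.2 fun a ha b hb => by
      rw [commutatorElement_def]
      exact mul_mem (mul_mem (mul_mem (hFT i ha) hb) (inv_mem (hFT i ha))) (inv_mem hb)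
    rcases i with _ | i
    · rw [hW]
      refine le_inf ?_ hTT
      have hF0 : F 0 ≤ K 0 := by_contra fun h => hprop 0 hi
        ((hT 0 hi).2.2.2.2 _ (hFT 0) (haF 0 hi) (fun l hl => absurd hl (Nat.not_lt_zero l)) h).ge
      refine Subgroup.commutator_le.2 fun a ha b hb => ?_
      rw [commutatorElement_def]
      exact comm_mem_of_mem_normalizer (hs.nK 0 0 le_rfl hi (hTP 0 hi hb)) (hF0 ha)
    have him : i < m := hi
    have hTn := hnW (i + 1) (i + 1) le_rfl hi
    have hX : ⁅T (i + 1), F (i + 1)⁆ ≤ F (i + 1) := Subgroup.commutator_le.2 fun a ha b hb => by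
      rw [commutatorElement_def]
      exact mul_mem (conj_mem_of_mem_normalizer (hnF _ _ le_rfl hi ha) hb) (inv_mem hb)
    have e3 : ⁅⁅T i, T (i + 1)⁆, F (i + 1)⁆ ≤ W (i + 1) := by
      refine three_mod (hnW i _ (Nat.le_succ i) hi) hTn ((hFT _).trans hTn) ?_ ?_
      · exact (Subgroup.commutator_mono hX le_rfl).trans (hcenF i him)
      · refine (Subgroup.commutator_mono (hcenF i him) le_rfl).trans ?_
        exact Subgroup.commutator_le.2 fun a ha b hb => by
          rw [commutatorElement_def]; exact comm_mem_of_mem_normalizer (hTn hb) ha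
    have hmc : T (i + 1) ≤ modCent (F (i + 1)) (W (i + 1)) := by
      refine (hgen i him).trans (sup_le ?_ fun w hw => mem_modCent.2
        ⟨Subgroup.le_normalizer hw, fun y hy => ?_⟩)
      · intro g hg
        refine mem_modCent.2 ⟨hTn ((commutator_normal_in (hnT i (i + 1) (Nat.le_succ i) hi)).1 hg),
          fun y hy => ?_⟩
        rw [← commutatorElement_inv]
        exact inv_mem (e3 (Subgroup.commutator_mem_commutator
          ((Subgroup.commutator_comm (T (i + 1)) (T i)) ▸ hg) hy))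
      · rw [commutatorElement_def]
        exact mul_mem (conj_mem_of_mem_normalizer (hTn (hFT _ hy)) hw) (inv_mem hw)
    exact Subgroup.commutator_le.2 fun a ha b hb => (mem_modCent.1 (hmc hb)).2 a ha
  · refine (nongen (sup_le hL ((hK'F i hi).trans (hFT i)))
      (hle.trans (sup_le (le_sup_left.trans le_sup_left) ?_))).ge
    conv_lhs => rw [hF]
    exact sup_le ((hWK' i hi).trans (le_sup_right.trans le_sup_left)) le_sup_right
  · rw [hK'lt i hi, Subgroup.mem_inf, mem_modCent]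
    exact ⟨fun h => ⟨h.1, h.2.2⟩, fun h => ⟨h.1, hnF i (i + 1) (Nat.le_succ i) hi h.1, h.2⟩⟩

end Cfsg.Agent.Solv.FHeight
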