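import Cfsg.Agent.Lib.Solv.FHeight.Weights

/-!
Groups of class two modulo scalars: the two stages of decomposition of a representation.
-/

set_option autoImplicit false
set_option linter.unusedSectionVars false
set_option linter.style.haveILetI false

namespace Cfsg.Agent.Solv.FHeight

open Module Cfsg.Agent.Perm.WeightIdem

variable {k : Type*} [Field k] {M : Type*} [AddCommGroup M] [Module k M] {U : Type*} [Group U]

/-! ### A subgroup with commuting image -/

section AbLift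

variable (ρ : U →* Module.End k M) (H : Subgroup U)
  (hc : ∀ a ∈ H, ∀ b ∈ H, ρ a * ρ b = ρ b * ρ a)

include hc in
theorem commutator_le_ker : commutator H ≤ (ρ.comp H.subtype).ker := by
  rw [commutator_def, Subgroup.commutator_le]
  intro a _ b _
  rw [MonoidHom.mem_ker, commutatorElement_def, map_mul, map_mul, map_mul]
  simp only [MonoidHom.comp_apply, Subgroup.coe_subtype, Subgroup.coe_inv]
  rw [hc _ a.2 _ b.2, mul_assoc (ρ (b : U)), ← map_mul ρ (a : U), mul_inv_cancel, map_one, mul_one,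
    ← map_mul, mul_inv_cancel, map_one]

/-- The image of a subgroup with commuting image, as a homomorphism of an abelian group. -/
noncomputable def abLift : Abelianization H →* Module.End k M :=
  QuotientGroup.lift (commutator H) (ρ.comp H.subtype) (commutator_le_ker ρ H hc)

theorem abLift_of (x : H) : abLift ρ H hc (Abelianization.of x) = ρ x := rfl

end AbLift

/-- The automorphism induced on the abelianisation of an invariant subgroup. -/
def abAut (φ : MulAut U) (H : Subgroup U) (hφ : ∀ u, φ u ∈ H ↔ u ∈ H) : MulAut (Abelianization H) :=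
  MulEquiv.abelianizationCongr (autRes φ H hφ)

theorem abAut_of (φ : MulAut U) (H : Subgroup U) (hφ : ∀ u, φ u ∈ H ↔ u ∈ H) (x : H) :
    abAut φ H hφ (Abelianization.of x) = Abelianization.of (autRes φ H hφ x) := rfl

theorem ab_of_surjective (H : Subgroup U) (b : Abelianization H) :
    ∃ x : H, Abelianization.of x = b := QuotientGroup.mk'_surjective _ b

theorem abAut_pow (φ : MulAut U) (H : Subgroup U) (hφ : ∀ u, φ u ∈ H ↔ u ∈ H) (n : ℕ) (x : H) :
    ((abAut φ H hφ) ^ n) (Abelianization.of x) = Abelianization.of (((autRes φ H hφ) ^ n) x) := by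
  induction n with
  | zero => rfl
  | succ n ih => rw [pow_succ', MulAut.mul_apply, ih, abAut_of, pow_succ', MulAut.mul_apply]

theorem abAut_comm {φ ψ : MulAut U} {H : Subgroup U} (hφ : ∀ u, φ u ∈ H ↔ u ∈ H)
    (hψ : ∀ u, ψ u ∈ H ↔ u ∈ H) (hc : φ * ψ = ψ * φ) :
    abAut φ H hφ * abAut ψ H hψ = abAut ψ H hψ * abAut φ H hφ := by
  refine MulEquiv.ext fun b => ?_
  obtain ⟨x, rfl⟩ := ab_of_surjective H b
  rw [MulAut.mul_apply, MulAut.mul_apply, abAut_of, abAut_of, abAut_of, abAut_of,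
    ← MulAut.mul_apply, ← MulAut.mul_apply, autRes_comm hφ hψ hc]

theorem abLift_intw (ρ : U →* Module.End k M) (H : Subgroup U)
    (hc : ∀ a ∈ H, ∀ b ∈ H, ρ a * ρ b = ρ b * ρ a) {φ : MulAut U} (hφ : ∀ u, φ u ∈ H ↔ u ∈ H)
    {E : Module.End k M} (hE : ∀ v, E * ρ v = ρ (φ v) * E) (b : Abelianization H) :
    E * abLift ρ H hc b = abLift ρ H hc (abAut φ H hφ b) * E := by
  obtain ⟨x, rfl⟩ := ab_of_surjective H b
  rw [abLift_of, abAut_of, abLift_of]
  exact hE _

theorem mem_iff_of_forward [Finite U] {φ : MulAut U} {H : Subgroup U} (h : ∀ u ∈ H, φ u ∈ H)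
    (u : U) : φ u ∈ H ↔ u ∈ H := by
  refine ⟨fun hu => ?_, h u⟩
  obtain ⟨⟨x, hx⟩, he⟩ := Finite.surjective_of_injective (f := fun x : H => (⟨φ x, h x x.2⟩ : H))
    (fun a b hab => Subtype.ext (φ.injective (congrArg Subtype.val hab))) ⟨φ u, hu⟩
  have h1 : x = u := φ.injective (congrArg Subtype.val he)
  exact h1 ▸ hx

/-! ### The radical -/

/-- The elements whose image is central in the image. -/
def rad (ρ : U →* Module.End k M) : Subgroup U where
  carrier := {u | ∀ v, ρ v * ρ u = ρ u * ρ v}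
  one_mem' := fun v => by rw [map_one, mul_one, one_mul]
  mul_mem' := fun {a b} ha hb v => by
    rw [map_mul, ← mul_assoc, ha v, mul_assoc, hb v, mul_assoc]
  inv_mem' := fun {a} ha v => by
    have h1 := congrArg (fun x => ρ a⁻¹ * x * ρ a⁻¹) (ha v)
    rw [← mul_assoc (ρ a⁻¹) (ρ v), mul_assoc (ρ a⁻¹ * ρ v), ← map_mul ρ a, mul_inv_cancel, map_one,
      mul_one, ← mul_assoc (ρ a⁻¹) (ρ a), ← map_mul ρ a⁻¹ a, inv_mul_cancel, map_one, one_mul] at h1
    exact h1.symm

theorem mem_rad {ρ : U →* Module.End k M} {u : U} : u ∈ rad ρ ↔ ∀ v, ρ v * ρ u = ρ u * ρ v :=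
  Iff.rfl

theorem rad_comm (ρ : U →* Module.End k M) : ∀ a ∈ rad ρ, ∀ b ∈ rad ρ, ρ a * ρ b = ρ b * ρ a :=
  fun a _ _ hb => hb a

theorem rho_comm_iff (ρ : U →* Module.End k M) (u v : U) :
    ρ v * ρ u = ρ u * ρ v ↔ ρ (v * u * v⁻¹ * u⁻¹) = 1 := by
  rw [← map_mul, ← map_mul]
  constructor
  · intro h
    rw [map_mul _ _ u⁻¹, map_mul _ (v * u) v⁻¹, h, ← map_mul, ← map_mul, mul_inv_cancel_right,
      mul_inv_cancel, map_one]
  · intro h
    conv_lhs => rw [show v * u = v * u * v⁻¹ * u⁻¹ * (u * v) by group, map_mul, h, one_mul]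

/-- An automorphism fixing the images of commutators preserves the radical. -/
theorem rad_fwd {ρ : U →* Module.End k M} {Z : Subgroup U}
    (hcomm : ∀ u v : U, v * u * v⁻¹ * u⁻¹ ∈ Z) {e : MulAut U} (hfix : ∀ z ∈ Z, ρ (e z) = ρ z)
    {u : U} (hu : u ∈ rad ρ) : e u ∈ rad ρ := fun w => by
  obtain ⟨v, rfl⟩ := e.surjective w
  rw [rho_comm_iff, ← map_inv, ← map_inv, ← map_mul, ← map_mul, ← map_mul, hfix _ (hcomm u v),
    ← rho_comm_iff]
  exact hu v

variable [Fintype U]

/-! ### The setting -/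

/-- `σ` is free modulo `Z`, whose image is central, and commutators lie in `Z`. -/
structure Two (ρ : U →* Module.End k M) (Z : Subgroup U) (σ : MulAut U) (S : Module.End k M)
    (r : ℕ) : Prop where
  card : (Nat.card U : k) ≠ 0
  prime : r.Prime
  rk : (r : k) ≠ 0
  cop : r.Coprime (Nat.card U)
  pow : σ ^ r = 1
  Spow : S ^ r = 1
  Scomm : ∀ v, S * ρ v = ρ (σ v) * S
  mem : ∀ u, σ u ∈ Z ↔ u ∈ Z
  comm : ∀ u v : U, v * u * v⁻¹ * u⁻¹ ∈ Z
  cen : Z ≤ rad ρ
  free : ∀ u, u⁻¹ * σ u ∈ Z → u ∈ Z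

/-- `U` is generated by the quotients `u⁻¹ * σ u`. -/
def Gen (σ : MulAut U) : Prop := Subgroup.closure (Set.range fun u => u⁻¹ * σ u) = ⊤

/-- Only zero is fixed by the group. -/
def NoU (ρ : U →* Module.End k M) : Prop := ∀ v : M, (∀ u, ρ u v = v) → v = 0

/-- `Z` acts by scalars fixed by `σ`. -/
def Scal (ρ : U →* Module.End k M) (Z : Subgroup U) (σ : MulAut U) : Prop :=
  ∀ z ∈ Z, (∃ c : k, ρ z = c • 1) ∧ ρ (σ z) = ρ z

/-- A multiplicative function with value one on the generators is one. -/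
theorem Gen.eq_one {σ : MulAut U} (hg : Gen σ) {A : Type*} [Monoid A] (φ : U →* A)
    (h : ∀ u, φ (u⁻¹ * σ u) = 1) (u : U) : φ u = 1 := by
  have h1 : Subgroup.closure (Set.range fun u => u⁻¹ * σ u) ≤ φ.ker :=
    (Subgroup.closure_le _).2 (by rintro _ ⟨v, rfl⟩; exact h v)
  rw [hg] at h1
  exact h1 (Subgroup.mem_top u)

namespace Two

variable {ρ : U →* Module.End k M} {Z : Subgroup U} {σ : MulAut U} {S : Module.End k M} {r : ℕ}

theorem comm_Z (h : Two ρ Z σ S r) : ∀ a ∈ Z, ∀ b ∈ Z, ρ a * ρ b = ρ b * ρ a :=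
  fun a _ _ hb => h.cen hb a

theorem card_sub (h : Two ρ Z σ S r) (H : Subgroup U) : (Nat.card (Abelianization H) : k) ≠ 0 ∧
    r.Coprime (Nat.card (Abelianization H)) := by
  have hd : Nat.card (Abelianization H) ∣ Nat.card U :=
    (Subgroup.card_quotient_dvd_card _).trans (Subgroup.card_subgroup_dvd_card H)
  refine ⟨fun h0 => ?_, h.cop.coprime_dvd_right hd⟩
  obtain ⟨c, hc⟩ := hd
  exact h.card (by rw [hc, Nat.cast_mul, h0, zero_mul])

/-- The weights of an invariant subgroup with commuting image. -/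
theorem wts (h : Two ρ Z σ S r) {H : Subgroup U} [Fintype (Abelianization H)]
    (hH : ∀ u, σ u ∈ H ↔ u ∈ H) (hc : ∀ a ∈ H, ∀ b ∈ H, ρ a * ρ b = ρ b * ρ a) :
    Wts (abLift ρ H hc) (abAut σ H hH) S r where
  card := (h.card_sub H).1
  prime := h.prime
  rk := h.rk
  cop := (h.card_sub H).2
  pow := MulEquiv.ext fun b => by
    obtain ⟨x, rfl⟩ := ab_of_surjective H b
    rw [abAut_pow]
    exact congrArg Abelianization.of (Subtype.ext (by rw [coe_autRes_pow, h.pow]; rfl))
  Spow := h.Spow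
  comm := abLift_intw ρ H hc hH h.Scomm

/-- Restriction to an invariant subspace. -/
theorem restrict (h : Two ρ Z σ S r) {W : Submodule k M} (hW : Inv ρ W)
    (hS : ∀ w ∈ W, S w ∈ W) : Two (restr ρ hW) Z σ (S.restrict hS) r where
  card := h.card
  prime := h.prime
  rk := h.rk
  cop := h.cop
  pow := h.pow
  Spow := LinearMap.ext fun w => Subtype.ext (by rw [pow_restrict, h.Spow]; rfl)
  Scomm v := LinearMap.ext fun w => Subtype.ext (DFunLike.congr_fun (h.Scomm v) (w : M))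
  mem := h.mem
  comm := h.comm
  cen := fun z hz v => LinearMap.ext fun w => Subtype.ext (DFunLike.congr_fun (h.cen hz v) (w : M))
  free := h.free

theorem sigma_rad (h : Two ρ Z σ S r) (hs : Scal ρ Z σ) (u : U) : σ u ∈ rad ρ ↔ u ∈ rad ρ :=
  mem_iff_of_forward (fun _ hu => rad_fwd h.comm (fun z hz => (hs z hz).2) hu) u

end Two

theorem NoU.restrict {ρ : U →* Module.End k M} (h : NoU ρ) {W : Submodule k M} (hW : Inv ρ W) :
    NoU (restr ρ hW) := fun v hv =>
  Subtype.ext (h v fun u => congrArg Subtype.val (hv u))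

theorem Pert.restrictSpace {ρ : U →* Module.End k M} {Z : Subgroup U} {σ : MulAut U}
    {S : Module.End k M} {e : MulAut U} {E : Module.End k M} (hP : Pert ρ Z σ S e E)
    {W : Submodule k M} (hW : Inv ρ W) (hS : ∀ w ∈ W, S w ∈ W) (hE : ∀ w ∈ W, E w ∈ W) :
    Pert (restr ρ hW) Z σ (S.restrict hS) e (E.restrict hE) where
  fix z hz := LinearMap.ext fun w => Subtype.ext (DFunLike.congr_fun (hP.fix z hz) (w : M))
  mem := hP.mem
  comm := hP.comm
  intw v := LinearMap.ext fun w => Subtype.ext (DFunLike.congr_fun (hP.intw v) (w : M))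
  commS := LinearMap.ext fun w => Subtype.ext (DFunLike.congr_fun hP.commS (w : M))

/-! ### A single weight -/

section Weight

variable {B : Type*} [CommGroup B] [Fintype B]

/-- The range of a weight idempotent. -/
noncomputable def wspace (f : B →* Module.End k M) (χ : B →* kˣ) : Submodule k M :=
  LinearMap.range (idem f χ)

variable {f : B →* Module.End k M} {τ : MulAut B} {S : Module.End k M} {r : ℕ} [IsAlgClosed k]

theorem Wts.mem_wspace (h : Wts f τ S r) {χ : B →* kˣ} {v : M} :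
    v ∈ wspace f χ ↔ idem f χ v = v := by
  refine ⟨?_, fun hv => ⟨v, hv⟩⟩
  rintro ⟨x, rfl⟩
  exact h.idem_idem χ x

theorem Wts.idem_mem (χ : B →* kˣ) (v : M) : idem f χ v ∈ wspace f χ := ⟨v, rfl⟩

theorem Wts.wspace_smul (h : Wts f τ S r) {χ : B →* kˣ} {v : M} (hv : v ∈ wspace f χ) (b : B) :
    f b v = (χ b : k) • v := by
  rw [← h.mem_wspace.1 hv, Wts.apply_comp]

/-- An endomorphism commuting with the abelian group preserves a weight space. -/
theorem Wts.map_wspace (h : Wts f τ S r) {E : Module.End k M} (hE : ∀ b, Commute E (f b))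
    {χ : B →* kˣ} {v : M} (hv : v ∈ wspace f χ) : E v ∈ wspace f χ := by
  rw [h.mem_wspace] at hv ⊢
  rw [← Module.End.mul_apply, ← (commute_idem f χ hE).eq, Module.End.mul_apply, hv]

theorem Wts.S_wspace (h : Wts f τ S r) {χ : B →* kˣ} (hχ : FixedChar τ χ) {v : M}
    (hv : v ∈ wspace f χ) : S v ∈ wspace f χ := by
  rw [h.mem_wspace] at hv ⊢
  rw [h.comp_comm hχ, hv]

theorem wspace_ne_bot {χ : B →* kˣ} {v : M} (hv : idem f χ v ≠ 0) : wspace f χ ≠ ⊥ := fun hb =>
  hv ((Submodule.mem_bot k).1 (hb ▸ Wts.idem_mem χ v))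

end Weight

namespace Two

variable [IsAlgClosed k] {ρ : U →* Module.End k M} {Z : Subgroup U} {σ : MulAut U}
  {S : Module.End k M} {r : ℕ}

theorem inv_wspace (h : Two ρ Z σ S r) {H : Subgroup U} [Fintype (Abelianization H)]
    (hH : ∀ u, σ u ∈ H ↔ u ∈ H) (hle : H ≤ rad ρ)
    (χ : Abelianization H →* kˣ) :
    Inv ρ (wspace (abLift ρ H fun a _ b hb => hle hb a) χ) := fun v w hw => by
  refine (h.wts hH _).map_wspace (fun b => ?_) hw
  obtain ⟨x, rfl⟩ := ab_of_surjective H b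
  exact hle x.2 v

/-- On a fixed weight space of `Z`, the centre acts by fixed scalars. -/
theorem scal_wspace (h : Two ρ Z σ S r) [Fintype (Abelianization Z)]
    {χ : Abelianization Z →* kˣ} (hχ : FixedChar (abAut σ Z h.mem) χ) :
    Scal (restr ρ (h.inv_wspace h.mem h.cen χ)) Z σ := fun z hz => by
  have key : ∀ x : Z, ∀ w : wspace (abLift ρ Z _) χ,
      restr ρ (h.inv_wspace h.mem h.cen χ) x w = (χ (Abelianization.of x) : k) • w := fun x w =>
    Subtype.ext (by
      rw [coe_restr, Submodule.coe_smul]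
      exact (h.wts h.mem _).wspace_smul w.2 (Abelianization.of x))
  refine ⟨⟨_, LinearMap.ext fun w => key ⟨z, hz⟩ w⟩, LinearMap.ext fun w => ?_⟩
  rw [key ⟨σ z, (h.mem z).2 hz⟩ w, key ⟨z, hz⟩ w]
  rw [show (Abelianization.of (⟨σ z, (h.mem z).2 hz⟩ : Z)) = abAut σ Z h.mem
    (Abelianization.of ⟨z, hz⟩) from rfl, hχ]

/-- Fixed weights of the radical are determined by their values on `Z`. -/
theorem fixed_ext (h : Two ρ Z σ S r) (hs : Scal ρ Z σ)
    {θ θ' : Abelianization (rad ρ) →* kˣ} (hθ : FixedChar (abAut σ (rad ρ) (h.sigma_rad hs)) θ)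
    (hθ' : FixedChar (abAut σ (rad ρ) (h.sigma_rad hs)) θ')
    (hZ : ∀ z (hz : z ∈ Z),
      θ (Abelianization.of ⟨z, h.cen hz⟩) = θ' (Abelianization.of ⟨z, h.cen hz⟩)) : θ = θ' := by
  have hn : Z.Normal := ⟨fun z hz v => by
    have h1 := mul_mem (h.comm z v) hz
    rwa [inv_mul_cancel_right] at h1⟩
  refine MonoidHom.ext fun b => ?_
  obtain ⟨⟨w, hw⟩, rfl⟩ := ab_of_surjective _ b
  obtain ⟨z, hz, hzw⟩ := exists_delta hn σ h.mem (fun v hv => (h.sigma_rad hs v).2 hv)
    (fun v _ => h.free v) hw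
  have key : ∀ φ : Abelianization (rad ρ) →* kˣ, FixedChar (abAut σ (rad ρ) (h.sigma_rad hs)) φ →
      φ (Abelianization.of ⟨w, hw⟩) = φ (Abelianization.of ⟨_, h.cen hzw⟩) := fun φ hφ => by
    have e1 : (⟨w, hw⟩ : rad ρ) = (⟨z, hz⟩ : rad ρ)⁻¹ * autRes σ (rad ρ) (h.sigma_rad hs) ⟨z, hz⟩ *
        ⟨_, h.cen hzw⟩ := Subtype.ext (show w = z⁻¹ * σ z * ((z⁻¹ * σ z)⁻¹ * w) by
          rw [mul_inv_cancel_left])
    rw [e1, map_mul, map_mul, map_mul, map_mul, map_inv, map_inv, ← abAut_of, hφ, inv_mul_cancel,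
      one_mul]
  rw [key θ hθ, key θ' hθ', hZ _ hzw]

/-- The value on `Z` of a weight that occurs. -/
theorem weight_val (h : Two ρ Z σ S r) [Fintype (Abelianization (rad ρ))]
    {θ : Abelianization (rad ρ) →* kˣ} {x : M}
    (hx : idem (abLift ρ (rad ρ) (rad_comm ρ)) θ x ≠ 0) {z : U} (hz : z ∈ rad ρ) {c : k}
    (hc : ρ z = c • 1) : (θ (Abelianization.of ⟨z, hz⟩) : k) = c := by
  have h1 := Wts.apply_comp (f := abLift ρ (rad ρ) (rad_comm ρ)) θ (Abelianization.of ⟨z, hz⟩) x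
  rw [abLift_of] at h1
  change ρ z _ = _ at h1
  rw [hc, LinearMap.smul_apply, Module.End.one_apply] at h1
  exact (smul_left_injective k hx h1).symm

/-- When `Z` is scalar, all fixed weights of the radical agree. -/
theorem fixed_eq (h : Two ρ Z σ S r) (hs : Scal ρ Z σ) [Fintype (Abelianization (rad ρ))]
    {θ θ' : Abelianization (rad ρ) →* kˣ} (hθ : FixedChar (abAut σ (rad ρ) (h.sigma_rad hs)) θ)
    (hθ' : FixedChar (abAut σ (rad ρ) (h.sigma_rad hs)) θ') {x y : M}
    (hx : idem (abLift ρ (rad ρ) (rad_comm ρ)) θ x ≠ 0)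
    (hy : idem (abLift ρ (rad ρ) (rad_comm ρ)) θ' y ≠ 0) : θ = θ' :=
  h.fixed_ext hs hθ hθ' fun z hz => by
    obtain ⟨c, hc⟩ := (hs z hz).1
    exact Units.ext ((h.weight_val hx _ hc).trans (h.weight_val hy _ hc).symm)

/-- On the fixed weight space of the radical `σ` acts freely on a twisted group algebra. -/
theorem act_core (h : Two ρ Z σ S r) (hs : Scal ρ Z σ) [Fintype (Abelianization (rad ρ))]
    {θ : Abelianization (rad ρ) →* kˣ} (hθ : FixedChar (abAut σ (rad ρ) (h.sigma_rad hs)) θ)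
    (hne : wspace (abLift ρ (rad ρ) (rad_comm ρ)) θ ≠ ⊥) :
    Act (restr ρ (h.inv_wspace (h.sigma_rad hs) le_rfl θ)) (rad ρ) σ
      (S.restrict fun _ hw => (h.wts (h.sigma_rad hs) (rad_comm ρ)).S_wspace hθ hw) r := by
  have hn : Z.Normal := ⟨fun z hz v => by
    have h1 := mul_mem (h.comm z v) hz
    rwa [inv_mul_cancel_right] at h1⟩
  haveI := (Submodule.nontrivial_iff_ne_bot
    (p := wspace (abLift ρ (rad ρ) (rad_comm ρ)) θ)).2 hne
  haveI : Nontrivial M := by
    obtain ⟨x, hx, hx0⟩ := Submodule.ne_bot_iff _ |>.1 hne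
    exact nontrivial_of_ne x 0 hx0
  have hZ : Z ≤ rad ρ := h.cen
  have key : ∀ x : rad ρ, ∀ w : wspace (abLift ρ (rad ρ) (rad_comm ρ)) θ,
      restr ρ (h.inv_wspace (h.sigma_rad hs) le_rfl θ) x w =
        (θ (Abelianization.of x) : k) • w := fun x w =>
    Subtype.ext (by
      rw [coe_restr, Submodule.coe_smul]
      exact (h.wts (h.sigma_rad hs) _).wspace_smul w.2 (Abelianization.of x))
  refine
    { toNd :=
      { card := h.card
        scal := fun z hz => ⟨_, LinearMap.ext fun w => key ⟨z, hz⟩ w⟩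
        comm := fun u v => hZ (h.comm u v)
        nd := fun u hu => ?_ }
      prime := h.prime
      rk := h.rk
      fix := fun z hz => LinearMap.ext fun w => ?_
      mem := h.sigma_rad hs
      free := fun u hu => free_mod hn σ h.mem hZ (fun v hv => (h.sigma_rad hs v).2 hv) h.free hu
      pow := h.pow
      Spow := LinearMap.ext fun w => Subtype.ext (by rw [pow_restrict, h.Spow]; rfl)
      Scomm := fun v => LinearMap.ext fun w => Subtype.ext
        (DFunLike.congr_fun (h.Scomm v) (w : M)) }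
  · simp only [mem_rad, not_forall] at hu
    obtain ⟨v, hv⟩ := hu
    obtain ⟨c, hc⟩ := (hs _ (h.comm u v)).1
    refine ⟨v, c, fun h1 => hv ((rho_comm_iff ρ u v).2 (by rw [hc, h1, one_smul])),
      LinearMap.ext fun w => Subtype.ext ?_⟩
    rw [coe_restr, LinearMap.smul_apply, Submodule.coe_smul, coe_restr,
      show v * u * v⁻¹ = v * u * v⁻¹ * u⁻¹ * u by group, map_mul, hc, smul_mul_assoc, one_mul]
    rfl
  · rw [key ⟨σ z, (h.sigma_rad hs z).2 hz⟩ w, key ⟨z, hz⟩ w,
      show (Abelianization.of (⟨σ z, (h.sigma_rad hs z).2 hz⟩ : rad ρ)) =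
        abAut σ (rad ρ) (h.sigma_rad hs) (Abelianization.of ⟨z, hz⟩) from rfl, hθ]

/-- If the radical is everything, a fixed weight space is killed by generation. -/
theorem core_proper (h : Two ρ Z σ S r) (hs : Scal ρ Z σ) (hg : Gen σ) (hN : NoU ρ)
    [Fintype (Abelianization (rad ρ))]
    {θ : Abelianization (rad ρ) →* kˣ} (hθ : FixedChar (abAut σ (rad ρ) (h.sigma_rad hs)) θ)
    (hne : wspace (abLift ρ (rad ρ) (rad_comm ρ)) θ ≠ ⊥) : rad ρ ≠ ⊤ := by
  intro htop
  obtain ⟨w, hw, hw0⟩ := Submodule.ne_bot_iff _ |>.1 hne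
  let φ : U →* Abelianization (rad ρ) := Abelianization.of.comp
    ((MonoidHom.id U).codRestrict (rad ρ) fun u => htop ▸ Subgroup.mem_top u)
  have h1 : ∀ u, θ (φ u) = 1 := hg.eq_one (θ.comp φ) fun u => by
    show θ (φ (u⁻¹ * σ u)) = 1
    rw [map_mul, map_inv, map_mul, map_inv, inv_mul_eq_one]
    exact (hθ (φ u)).symm
  refine hw0 (hN w fun u => ?_)
  have h2 := (h.wts (h.sigma_rad hs) (rad_comm ρ)).wspace_smul hw (φ u)
  rw [h1, Units.val_one, one_smul] at h2
  exact h2

end Two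

end Cfsg.Agent.Solv.FHeight
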