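import Cfsg.Agent.Lib.Solv.FHeight.Sect
import Cfsg.Agent.Lib.Solv.CoprimeHall

/-!
The layer lemma and the linking lemma for sections of a finite group.
-/

set_option autoImplicit false
set_option linter.unusedSectionVars false
set_option linter.style.haveILetI false

open scoped commutatorElement Pointwise

namespace Cfsg.Agent.Solv.FHeight

universe u

variable {Γ : Type u} [Group Γ]

theorem mem_normalizer_commutator {A B : Subgroup Γ} {g : Γ}
    (hA : g ∈ Subgroup.normalizer (A : Set Γ)) (hB : g ∈ Subgroup.normalizer (B : Set Γ)) :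
    g ∈ Subgroup.normalizer ((⁅A, B⁆ : Subgroup Γ) : Set Γ) := by
  refine mem_normalizer_of_conj_smul ?_
  rw [conj_smul_eq_map, Subgroup.map_commutator, ← conj_smul_eq_map, ← conj_smul_eq_map,
    conj_smul_of_mem_normalizer hA, conj_smul_of_mem_normalizer hB]

theorem mem_normalizer_sup {A B : Subgroup Γ} {g : Γ}
    (hA : g ∈ Subgroup.normalizer (A : Set Γ)) (hB : g ∈ Subgroup.normalizer (B : Set Γ)) :
    g ∈ Subgroup.normalizer ((A ⊔ B : Subgroup Γ) : Set Γ) := by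
  refine mem_normalizer_of_conj_smul ?_
  rw [Subgroup.smul_sup, conj_smul_of_mem_normalizer hA, conj_smul_of_mem_normalizer hB]

theorem mem_normalizer_inf {A B : Subgroup Γ} {g : Γ}
    (hA : g ∈ Subgroup.normalizer (A : Set Γ)) (hB : g ∈ Subgroup.normalizer (B : Set Γ)) :
    g ∈ Subgroup.normalizer ((A ⊓ B : Subgroup Γ) : Set Γ) := by
  refine mem_normalizer_of_conj_smul ?_
  rw [Subgroup.smul_inf, conj_smul_of_mem_normalizer hA, conj_smul_of_mem_normalizer hB]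

/-- An element normalising `⟨s⟩`. -/
theorem mem_normalizer_zpowers {s g : Γ} (h : g * s = s * g) :
    g ∈ Subgroup.normalizer (Subgroup.zpowers s : Set Γ) :=
  Subgroup.centralizer_le_normalizer (Subgroup.zpowers s : Set Γ)
    (Subgroup.mem_centralizer_iff.2 fun x hx => by
      obtain ⟨i, rfl⟩ := hx
      exact (Commute.zpow_left (show Commute s g from h.symm) i).eq)

namespace Act2

variable [Finite Γ] {s : Γ} {r p t : ℕ} {U Z P F T : Subgroup Γ}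

/-- The conditions on a group acting on the whole setting. -/
structure Nice (h : Act2 s r U Z P F p) (T : Subgroup Γ) : Prop where
  tn : T ≤ nn P F
  tU : T ≤ Subgroup.normalizer (U : Set Γ)
  tZ : T ≤ Subgroup.normalizer (Z : Set Γ)
  ts : ∀ e ∈ T, e * s = s * e

theorem cof (h : Act2 s r U Z P F p) (hN : h.Nice T) {k : Type*} [Field k] [CharP k p]
    (hT : IsPGroup t T)
    (hfix : ∀ e ∈ T, ∀ z ∈ U, z ∈ Z → ∀ y ∈ P, ⁅y, e * z * e⁻¹ * z⁻¹⁆ ∈ F)
    (htriv : ∀ e ∈ T, ∀ d ∈ P, d * s = s * d → ⁅d, e⁆ ∈ F) (a : T) :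
    Cof (h.rep k) (Z.subgroupOf U) (cjOn U s h.sU) (srep k P F ⟨s, h.sn⟩) t
      (cjOn U a (hN.tU a.2)) (srep k P F ⟨a, hN.tn a.2⟩) where
  pert := h.pert (hN.tn a.2) (hN.tU a.2) (hN.tZ a.2) (hN.ts a a.2) (hfix a a.2)
  ord := by
    obtain ⟨n, hn⟩ := hT a
    exact ⟨n, cjOn_pow U (hN.tU a.2) (by rw [← SubmonoidClass.coe_pow, hn]; rfl)⟩
  triv v hv := fix_of_comm h.sec h.hr h.rp (s := ⟨s, h.sn⟩) (e := ⟨a, hN.tn a.2⟩) h.hs (hN.ts a a.2)
    hv (htriv a a.2)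

theorem of_still (h : Act2 s r U Z P F p) (hN : h.Nice T) {k : Type*} [Field k] [CharP k p] {e : Γ}
    (he : e ∈ T) (hs : Still (h.rep k) (cjOn U e (hN.tU he))) {u : Γ} (hu : u ∈ U) {y : Γ}
    (hy : y ∈ P) : ⁅y, e * u * e⁻¹ * u⁻¹⁆ ∈ F := by
  have h1 : h.rep k (cjOn U e (hN.tU he) ⟨u, hu⟩ * (⟨u, hu⟩ : U)⁻¹) = 1 := by
    rw [map_mul, hs, ← map_mul, mul_inv_cancel, map_one]
  exact h.sec.mem_of_srep (k := k) h1 hy

/-- A group of odd prime power order fixing the fixed elements is trivial on the image. -/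
theorem still_odd (h : Act2 s r U Z P F p) (hN : h.Nice T) (ht : t.Prime) (ht2 : t ≠ 2) (htr : t ≠ r)
    (htU : t.Coprime (Nat.card U)) (hT : IsPGroup t T)
    (hfix : ∀ e ∈ T, ∀ z ∈ U, z ∈ Z → ∀ y ∈ P, ⁅y, e * z * e⁻¹ * z⁻¹⁆ ∈ F)
    (htriv : ∀ e ∈ T, ∀ d ∈ P, d * s = s * d → ⁅d, e⁆ ∈ F) {e u y : Γ} (he : e ∈ T) (hu : u ∈ U)
    (hy : y ∈ P) : ⁅y, e * u * e⁻¹ * u⁻¹⁆ ∈ F := by
  haveI := Fact.mk h.sec.prime
  haveI := Fintype.ofFinite U
  haveI : CharP (AlgebraicClosure (ZMod p)) p :=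
    charP_of_injective_algebraMap (algebraMap (ZMod p) (AlgebraicClosure (ZMod p))).injective p
  refine h.of_still hN (k := AlgebraicClosure (ZMod p)) he ?_ hu hy
  rcases (h.two (k := AlgebraicClosure (ZMod p))).link_elem (h.cof hN hT hfix htriv ⟨e, he⟩) ht htr htU
    with h1 | ⟨h2, -⟩
  · exact h1
  · exact absurd h2 ht2

/-- A group fixing the fixed elements, generated by commutators with a second group whose
commutators with fixed elements of `Z` fix the fixed elements, is trivial on the image. -/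
theorem still_group (h : Act2 s r U Z P F p) (hN : h.Nice T) (ht : t.Prime) (htr : t ≠ r)
    (htU : t.Coprime (Nat.card U)) (hT : IsPGroup t T)
    (hfix : ∀ e ∈ T, ∀ z ∈ U, z ∈ Z → ∀ y ∈ P, ⁅y, e * z * e⁻¹ * z⁻¹⁆ ∈ F)
    (htriv : ∀ e ∈ T, ∀ d ∈ P, d * s = s * d → ⁅d, e⁆ ∈ F) {T₂ : Subgroup Γ} (hN₂ : h.Nice T₂)
    (h₂T : T₂ ≤ Subgroup.normalizer (T : Set Γ)) (hgen : T ≤ ⁅T₂, T⁆)
    (hmove : ∀ y ∈ T₂, ∀ z ∈ U, z ∈ Z → z * s = s * z → ∀ d ∈ P, d * s = s * d →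
      ⁅d, z⁻¹ * (y * z * y⁻¹)⁆ ∈ F)
    {e u y : Γ} (he : e ∈ T) (hu : u ∈ U) (hy : y ∈ P) : ⁅y, e * u * e⁻¹ * u⁻¹⁆ ∈ F := by
  haveI := Fact.mk h.sec.prime
  haveI := Fintype.ofFinite U
  haveI : CharP (AlgebraicClosure (ZMod p)) p :=
    charP_of_injective_algebraMap (algebraMap (ZMod p) (AlgebraicClosure (ZMod p))).injective p
  refine h.of_still hN (k := AlgebraicClosure (ZMod p)) he ?_ hu hy
  let φ : T₂ → T → T := fun y a => ⟨y * a * (y : Γ)⁻¹, conj_mem_of_mem_normalizer (h₂T y.2) a.2⟩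
  let Eo : T →* Module.End (AlgebraicClosure (ZMod p)) (funs (AlgebraicClosure (ZMod p)) (F.subgroupOf P)) :=
    (srep (AlgebraicClosure (ZMod p)) P F).comp (Subgroup.inclusion hN.tn)
  let ε : T →* MulAut U := (Subgroup.normalizerMonoidHom U).comp (Subgroup.inclusion hN.tU)
  refine (h.two (k := AlgebraicClosure (ZMod p))).link_group ε Eo ht htr htU
    (fun a => h.cof hN hT hfix htriv a) (fun y : T₂ => cjOn U y (hN₂.tU y.2))
    (fun y => srep (AlgebraicClosure (ZMod p)) P F ⟨y, hN₂.tn y.2⟩) φ ?_ ?_ ?_ ?_ ?_ ?_ ?_ ⟨e, he⟩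
  · intro y a b hab
    have h1 := congrArg (srep (AlgebraicClosure (ZMod p)) P F (⟨y, hN₂.tn y.2⟩⁻¹)) hab
    rwa [← Module.End.mul_apply, ← Module.End.mul_apply, ← map_mul, inv_mul_cancel, map_one] at h1
  · intro y
    refine MulEquiv.ext fun v => Subtype.ext ?_
    show (y : Γ) * (s * v * s⁻¹) * (y : Γ)⁻¹ = s * (y * v * (y : Γ)⁻¹) * s⁻¹
    rw [show (y : Γ) * (s * v * s⁻¹) * (y : Γ)⁻¹ = y * s * v * (y * s)⁻¹ by group, hN₂.ts y y.2]
    group
  · intro y v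
    rw [Subgroup.mem_subgroupOf, Subgroup.mem_subgroupOf, coe_cjOn]
    exact (Subgroup.mem_normalizer_iff.1 (hN₂.tZ y.2) _).symm
  · intro y v
    show srep _ P F _ * srep _ P F _ = srep _ P F _ * srep _ P F _
    rw [← map_mul, ← map_mul]
    refine congrArg _ (Subtype.ext ?_)
    show (y : Γ) * (v : Γ) = y * v * (y : Γ)⁻¹ * y
    group
  · intro y a
    refine MulEquiv.ext fun v => Subtype.ext ?_
    show (y : Γ) * a * (y : Γ)⁻¹ * ((y : Γ) * v * (y : Γ)⁻¹) * ((y : Γ) * a * (y : Γ)⁻¹)⁻¹ =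
      y * (a * v * (a : Γ)⁻¹) * (y : Γ)⁻¹
    group
  · refine eq_top_iff.2 fun a _ => ?_
    have hle : ⁅T₂, T⁆ ≤ (Subgroup.closure (Set.range fun x : T₂ × T => φ x.1 x.2 * x.2⁻¹)).map
        T.subtype := by
      refine Subgroup.commutator_le.2 fun y hy b hb => ⟨_, Subgroup.subset_closure ⟨(⟨y, hy⟩, ⟨b, hb⟩), rfl⟩, ?_⟩
      show y * b * y⁻¹ * b⁻¹ = ⁅y, b⁆
      rw [commutatorElement_def]
    obtain ⟨b, hb, hba⟩ := hle (hgen a.2)
    exact T.subtype_injective hba ▸ hb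
  · intro y z hz hzσ v hv
    have hzs : (z : Γ) * s = s * z := by
      have h1 : s * (z : Γ) * s⁻¹ = z := congrArg Subtype.val hzσ
      calc (z : Γ) * s = s * z * s⁻¹ * s := by rw [h1]
        _ = s * z := by group
    exact fix_of_comm h.sec h.hr h.rp (s := ⟨s, h.sn⟩)
      (e := Subgroup.inclusion h.un (z⁻¹ * cjOn U y (hN₂.tU y.2) z)) h.hs
      (by
        show (z : Γ)⁻¹ * (y * z * (y : Γ)⁻¹) * s = s * ((z : Γ)⁻¹ * (y * z * (y : Γ)⁻¹))
        exact (((show Commute (z : Γ) s from hzs).inv_left).mul_left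
          (((show Commute (y : Γ) s from hN₂.ts y y.2).mul_left hzs).mul_left
            (show Commute (y : Γ) s from hN₂.ts y y.2).inv_left)).eq)
      hv (hmove y y.2 z z.2 hz hzs)

end Act2

/-! ### The layer -/

/-- The next section: the part of the section moved by the moved part of `Q`. -/
def nxt (s : Γ) (Q P FP : Subgroup Γ) : Subgroup Γ := ⁅P, ⁅Q, Subgroup.zpowers s⁆⁆ ⊔ FP

/-- Three sections in a row. -/
structure Lay (s : Γ) (r : ℕ) (U Z Q FQ P FP : Subgroup Γ) (p q : ℕ) : Prop where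
  act : Act2 s r U Z Q FQ p
  sec : Sec P FP q
  rq : r ≠ q
  pq : p ≠ q
  sn : s ∈ nn P FP
  UP : U ≤ nn P FP
  QP : Q ≤ nn P FP
  cen : ∀ z ∈ FQ, ∀ x ∈ Q, ∀ y ∈ P, ⁅y, x * z * x⁻¹ * z⁻¹⁆ ∈ FP
  ker : ∀ x ∈ Q, (∀ y ∈ P, ⁅y, x⁆ ∈ FP) → x ∈ FQ
  afix : ∀ u ∈ U, ∀ z ∈ FQ, ∀ y ∈ P, ⁅y, u * z * u⁻¹ * z⁻¹⁆ ∈ FP

namespace Lay

variable [Finite Γ] {s : Γ} {r p q : ℕ} {U Z Q FQ P FP : Subgroup Γ}

theorem layerData (h : Lay s r U Z Q FQ P FP p q) [Fintype Q] [Fintype U] (k : Type*) [Field k]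
    [CharP k q] :
    LayerData ((srep k P FP).comp (Subgroup.inclusion h.QP)) (FQ.subgroupOf Q)
      (cj Q FQ ⟨s, h.act.sn⟩) (srep k P FP ⟨s, h.sn⟩) r p
      ((cj Q FQ).comp (Subgroup.inclusion h.act.un)) (Z.subgroupOf U) (cjOn U s h.act.sU)
      ((srep k P FP).comp (Subgroup.inclusion h.UP)) where
  card := cast_card_ne h.sec.prime h.act.sec.grp h.act.sec.prime h.pq.symm
  pk := cast_prime_ne h.sec.prime h.act.sec.prime h.pq.symm
  prime := h.act.hr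
  rk := cast_prime_ne h.sec.prime h.act.hr h.rq.symm
  cop := h.act.sec.cop h.act.hr h.act.rp
  rp := h.act.rp
  pp := h.act.sec.prime
  grp := h.act.sec.grp
  expp a := by rw [Subgroup.mem_subgroupOf, SubmonoidClass.coe_pow]; exact h.act.sec.pow a a.2
  pow := by
    rw [← map_pow, show (⟨s, h.act.sn⟩ : nn Q FQ) ^ r = 1 from
      Subtype.ext (by rw [SubmonoidClass.coe_pow]; exact h.act.hs), map_one]
  Spow := by
    rw [← map_pow, show (⟨s, h.sn⟩ : nn P FP) ^ r = 1 from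
      Subtype.ext (by rw [SubmonoidClass.coe_pow]; exact h.act.hs), map_one]
  Scomm v := by
    show srep k P FP _ * srep k P FP _ = srep k P FP _ * srep k P FP _
    rw [← map_mul, ← map_mul]
    refine congrArg _ (Subtype.ext ?_)
    show s * (v : Γ) = s * v * s⁻¹ * s
    group
  mem x := by
    rw [Subgroup.mem_subgroupOf, Subgroup.mem_subgroupOf, coe_cj]
    exact (Subgroup.mem_normalizer_iff.1 h.act.sn.2 _).symm
  comm a b := h.act.sec.comm a a.2 b b.2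
  cen z hz x := by
    show srep k P FP _ * srep k P FP _ = srep k P FP _ * srep k P FP _
    have h1 : srep k P FP (Subgroup.inclusion h.QP (x * z * x⁻¹ * z⁻¹)) = 1 :=
      srep_eq_one fun y hy => h.cen z hz x x.2 y hy
    rw [← map_mul, ← map_mul, ← map_mul, ← map_mul,
      show x * z = x * z * x⁻¹ * z⁻¹ * (z * x) by group,
      map_mul _ _ (z * x), map_mul (srep k P FP), h1, one_mul]
  ker x hx := h.ker x x.2 fun y hy => h.sec.mem_of_srep (k := k) hx hy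
  inter u v := by
    show srep k P FP _ * srep k P FP _ = srep k P FP _ * srep k P FP _
    rw [← map_mul, ← map_mul]
    refine congrArg _ (Subtype.ext ?_)
    show (u : Γ) * (v : Γ) = u * v * (u : Γ)⁻¹ * u
    group
  amem u x hx := cj_mem Q FQ _ x hx
  afix u z hz := by
    show srep k P FP (Subgroup.inclusion h.QP _) = srep k P FP (Subgroup.inclusion h.QP z)
    obtain ⟨w, hw⟩ : ∃ w, w = (cj Q FQ (Subgroup.inclusion h.act.un u)) z := ⟨_, rfl⟩
    have h1 : srep k P FP (Subgroup.inclusion h.QP (w * z⁻¹)) = 1 :=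
      srep_eq_one fun y hy => by rw [hw]; exact h.afix u u.2 z hz y hy
    show srep k P FP (Subgroup.inclusion h.QP ((cj Q FQ (Subgroup.inclusion h.act.un u)) z)) = _
    rw [← hw, ← inv_mul_cancel_right w z, map_mul, map_mul (srep k P FP), h1, one_mul]
  atau u x := Subtype.ext (by
    show s * (u : Γ) * s⁻¹ * (s * x * s⁻¹) * (s * (u : Γ) * s⁻¹)⁻¹ = s * (u * x * (u : Γ)⁻¹) * s⁻¹
    group)
  agen := by
    refine eq_top_iff.2 fun a _ => ?_
    obtain ⟨C, hC⟩ : ∃ C, C = Subgroup.closure ((FQ.subgroupOf Q : Set Q) ∪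
      {y | ∃ (u : U) (x : Q), y = x⁻¹ * cj Q FQ (Subgroup.inclusion h.act.un u) x}) := ⟨_, rfl⟩
    show a ∈ Subgroup.closure _
    have hle : Q ≤ C.map Q.subtype := h.act.genP.trans (sup_le (Subgroup.commutator_le.2
      fun x hx u hu => ?_) fun x hx => ⟨⟨x, h.act.sec.le hx⟩,
        hC ▸ Subgroup.subset_closure (Or.inl hx), rfl⟩)
    · obtain ⟨b, hb, hba⟩ := hle a.2
      exact hC ▸ (Q.subtype_injective hba ▸ hb)
    · refine ⟨(⟨x, hx⟩⁻¹ : Q)⁻¹ * cj Q FQ (Subgroup.inclusion h.act.un ⟨u, hu⟩) (⟨x, hx⟩⁻¹),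
        hC ▸ Subgroup.subset_closure (Or.inr ⟨⟨u, hu⟩, _, rfl⟩), ?_⟩
      show x⁻¹⁻¹ * (u * x⁻¹ * u⁻¹) = ⁅x, u⁆
      rw [commutatorElement_def]; group
  ucop := h.act.rU
  pcop := h.act.pU
  upow := cjOn_pow U h.act.sU h.act.hs
  umem := h.act.sZU
  ucomm a b := h.act.comm a a.2 b b.2
  ucen z hz u x := by
    rw [Subgroup.mem_subgroupOf]
    show ((z : Γ) * u * x * ((z : Γ) * u)⁻¹)⁻¹ * ((u : Γ) * z * x * ((u : Γ) * z)⁻¹) ∈ FQ
    obtain ⟨a, ha⟩ : ∃ a, a = (u : Γ) * z * x * ((u : Γ) * z)⁻¹ := ⟨_, rfl⟩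
    have haQ : a ∈ Q := ha ▸ conj_mem_of_mem_normalizer (h.act.un (mul_mem u.2 z.2)).1 x.2
    have h1 := h.act.cen z z.2 hz u u.2 _ (inv_mem haQ)
    obtain ⟨w, hw⟩ : ∃ w, w = (z : Γ) * u * (z : Γ)⁻¹ * (u : Γ)⁻¹ := ⟨_, rfl⟩
    rw [← hw] at h1
    have he : (z : Γ) * u * x * ((z : Γ) * u)⁻¹ = w * a * w⁻¹ := by rw [ha, hw]; group
    rw [← ha, he, show (w * a * w⁻¹)⁻¹ * a = w * a⁻¹ * w⁻¹ * a by group]
    have hwn : w ∈ nn Q FQ := hw ▸ h.act.un
      (mul_mem (mul_mem (mul_mem z.2 u.2) (inv_mem z.2)) (inv_mem u.2))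
    rw [show ⁅a⁻¹, w⁆ = a⁻¹ * w * a * w⁻¹ by rw [commutatorElement_def]; group] at h1
    have h2 := inv_mem h1
    rw [show (a⁻¹ * w * a * w⁻¹)⁻¹ = w * a⁻¹ * w⁻¹ * a by group] at h2
    exact h2
  ufree := h.act.free'
  ugen := h.act.gen'

theorem sec_nxt (h : Lay s r U Z Q FQ P FP p q) : nxt s Q P FP ≤ P ∧ Sec (nxt s Q P FP) FP q := by
  have hle : nxt s Q P FP ≤ P := sup_le ((commutator_normal_in (fun g hg => (h.QP
    ((commutator_normal_in (K := Q) (A := Subgroup.zpowers s)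
      (Subgroup.zpowers_le.2 h.act.sn.1)).1 hg)).1)).1) h.sec.le
  exact ⟨hle,
    { prime := h.sec.prime, grp := h.sec.grp.to_le hle, le := le_sup_right
      comm := fun a ha b hb => h.sec.comm a (hle ha) b (hle hb)
      pow := fun a ha => h.sec.pow a (hle ha) }⟩

theorem mem_nn_nxt (h : Lay s r U Z Q FQ P FP p q) {g : Γ} (hP : g ∈ nn P FP)
    (hQ : g ∈ Subgroup.normalizer (Q : Set Γ)) (hgs : g * s = s * g) : g ∈ nn (nxt s Q P FP) FP :=
  ⟨mem_normalizer_sup (mem_normalizer_commutator hP.1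
    (mem_normalizer_commutator hQ (mem_normalizer_zpowers hgs))) hP.2, hP.2⟩

/-- A fixed element which is not a killer moves fixed elements of the next section. -/
theorem of_not_killer (h : Lay s r U Z Q FQ P FP p q) [Fintype Q] {k : Type*} [Field k] [CharP k q]
    {x : Q} (hxs : (x : Γ) * s = s * x)
    (hk : ¬ Killer ((srep k P FP).comp (Subgroup.inclusion h.QP)) (cj Q FQ ⟨s, h.act.sn⟩)
      (srep k P FP ⟨s, h.sn⟩) x) :
    ∃ d ∈ nxt s Q P FP, d * s = s * d ∧ ⁅d, (x : Γ)⁆ ∉ FP := by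
  by_contra hno
  push Not at hno
  obtain ⟨hle, hN⟩ := h.sec_nxt
  refine hk ⟨Subtype.ext (by
    show s * (x : Γ) * s⁻¹ = x
    rw [← hxs]; group), fun v hv w => ?_⟩
  obtain ⟨g, hg⟩ : ∃ g, g = srep k P FP (Subgroup.inclusion h.QP x) v - v := ⟨_, rfl⟩
  have hv' : ∀ y ∈ P, ev v (s⁻¹ * y * s) = ev v y := fun y hy => by
    rw [← ev_srep (⟨s, h.sn⟩ : nn P FP) v hy, hv]
  -- the function vanishes on the next section
  let v' : funs k (FP.subgroupOf (nxt s Q P FP)) := ⟨fun y => ev v (y : Γ),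
    fun a b => ev_mul v (hle a.2) (hle b.2), fun a ha => ev_zero v (hle a.2) ha⟩
  have hev : ∀ y ∈ nxt s Q P FP, ev v' y = ev v y := fun y hy => ev_coe v' ⟨y, hy⟩
  have hsn := h.mem_nn_nxt h.sn h.act.sn.1 rfl
  have hxn := h.mem_nn_nxt (h.QP x.2) (Subgroup.le_normalizer x.2) hxs
  have hconj : ∀ {e y : Γ}, e ∈ nn (nxt s Q P FP) FP → y ∈ nxt s Q P FP →
      e⁻¹ * y * e ∈ nxt s Q P FP := fun {e y} he hy => by
    have h1 := conj_mem_of_mem_normalizer (inv_mem he.1) hy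
    rwa [inv_inv] at h1
  have hvfix : srep k (nxt s Q P FP) FP ⟨s, hsn⟩ v' = v' := ev_ext fun y hy => by
    rw [ev_srep _ _ hy, hev _ (hconj hsn hy), hev y hy, hv' y (hle hy)]
  have hxv := fix_of_comm hN h.act.hr h.rq (s := ⟨s, hsn⟩) (e := ⟨x, hxn⟩) h.act.hs hxs hvfix hno
  have hg0 : ∀ y ∈ nxt s Q P FP, ev g y = 0 := fun y hy => by
    rw [hg, ev_sub, ev_srep _ _ (hle hy)]
    show ev v ((x : Γ)⁻¹ * y * x) - ev v y = 0
    rw [← hev _ (hconj hxn hy), ← hev y hy, ← ev_srep (⟨x, hxn⟩ : nn (nxt s Q P FP) FP) v' hy, hxv,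
      sub_self]
  show srep k P FP (Subgroup.inclusion h.QP (w⁻¹ * cj Q FQ ⟨s, h.act.sn⟩ w))
    (srep k P FP (Subgroup.inclusion h.QP x) v - v) = srep k P FP (Subgroup.inclusion h.QP x) v - v
  rw [← hg]
  obtain ⟨c, hc⟩ : ∃ c, c = Subgroup.inclusion h.QP (w⁻¹ * cj Q FQ ⟨s, h.act.sn⟩ w) := ⟨_, rfl⟩
  rw [← hc]
  refine ev_ext fun y hy => ?_
  rw [ev_srep c g hy]
  have hy' : (c : Γ)⁻¹ * y * c ∈ P := by
    have h1 := conj_mem_of_mem_normalizer (inv_mem c.2.1) hy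
    rwa [inv_inv] at h1
  have hcQ : (c : Γ) ∈ ⁅Q, Subgroup.zpowers s⁆ := by
    rw [hc]
    show (w : Γ)⁻¹ * (s * w * s⁻¹) ∈ _
    rw [show (w : Γ)⁻¹ * (s * w * s⁻¹) = ⁅(w : Γ)⁻¹, s⁆ by rw [commutatorElement_def]; group]
    exact Subgroup.commutator_mem_commutator (inv_mem w.2) (Subgroup.mem_zpowers s)
  have h2 : (c : Γ)⁻¹ * y * c * y⁻¹ ∈ nxt s Q P FP := Subgroup.mem_sup_left (by
    rw [show (c : Γ)⁻¹ * y * c * y⁻¹ = ⁅y, (c : Γ)⁻¹⁆⁻¹ by rw [commutatorElement_def]; group]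
    exact inv_mem (Subgroup.commutator_mem_commutator hy (inv_mem hcQ)))
  have h3 := hg0 _ h2
  rwa [ev_mul g hy' (inv_mem hy), ev_inv g hy, add_neg_eq_zero] at h3

/-- Fixed elements outside `FQ` move fixed elements of the next section. -/
theorem push_fixed (h : Lay s r U Z Q FQ P FP p q) {d₀ : Γ} (hd₀ : d₀ ∈ Q) (hd₀s : d₀ * s = s * d₀)
    (hd₀F : d₀ ∉ FQ) :
    ∃ d₁ ∈ Q, d₁ * s = s * d₁ ∧ ∃ d ∈ nxt s Q P FP, d * s = s * d ∧ ⁅d, d₁⁆ ∉ FP := by
  haveI := Fact.mk h.act.sec.prime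
  haveI := Fact.mk h.sec.prime
  haveI := Fintype.ofFinite Q
  haveI := Fintype.ofFinite U
  haveI : CharP (AlgebraicClosure (ZMod q)) q :=
    charP_of_injective_algebraMap (algebraMap (ZMod q) (AlgebraicClosure (ZMod q))).injective q
  haveI : CharP (AlgebraicClosure (ZMod p)) p :=
    charP_of_injective_algebraMap (algebraMap (ZMod p) (AlgebraicClosure (ZMod p))).injective p
  by_contra hno
  push Not at hno
  have hL := h.layerData (AlgebraicClosure (ZMod q))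
  have h1 := hL.main (k' := AlgebraicClosure (ZMod p)) (fun x => x) (fun d hd => hd)
    (fun l a b => map_mul l a b) (fun l x => rfl) (eU := 1) (E := 0)
    (fun f y => eq_comm) ⟨fun _ _ => rfl, fun _ => Iff.rfl, by rw [one_mul, mul_one],
      fun v => by rw [zero_mul, mul_zero], by rw [zero_mul, mul_zero]⟩
    (Or.inl fun u => by rw [MulAut.one_apply, inv_mul_cancel]; exact one_mem _)
    (fun d hd => by
      have hds : (d : Γ) * s = s * d := by
        have h2 : s * (d : Γ) * s⁻¹ = d := congrArg Subtype.val hd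
        calc (d : Γ) * s = s * d * s⁻¹ * s := by rw [h2]
          _ = s * d := by group
      by_contra hk
      obtain ⟨e, he, hes, heF⟩ := h.of_not_killer hds hk
      exact heF (hno d d.2 hds e he hes))
    (d := ⟨d₀, hd₀⟩) (Subtype.ext (by show s * d₀ * s⁻¹ = d₀; rw [← hd₀s]; group))
  exact hd₀F h1

/-- Commutators with an element moving fixed elements move fixed elements of the next section. -/
theorem push_comm (h : Lay s r U Z Q FQ P FP p q) {e : Γ} (he : e ∈ nn Q FQ)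
    (heU : e ∈ Subgroup.normalizer (U : Set Γ)) (heZ : e ∈ Subgroup.normalizer (Z : Set Γ))
    (hes : e * s = s * e) (hfix : ∀ z ∈ U, z ∈ Z → ∀ y ∈ Q, ⁅y, e⁻¹ * z * e * z⁻¹⁆ ∈ FQ)
    (htame : (∀ u ∈ U, u⁻¹ * (e⁻¹ * u * e) ∈ Z) ∨
      ∃ t n, t.Prime ∧ t ≠ r ∧ t.Coprime (Nat.card U) ∧ e ^ t ^ n = 1)
    {d₀ : Γ} (hd₀ : d₀ ∈ Q) (hd₀s : d₀ * s = s * d₀) (hd₀F : ⁅d₀, e⁆ ∉ FQ) :
    ∃ d₁ ∈ Q, d₁ * s = s * d₁ ∧ ∃ d ∈ nxt s Q P FP, d * s = s * d ∧ ⁅d, ⁅d₁, e⁆⁆ ∉ FP := by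
  haveI := Fact.mk h.act.sec.prime
  haveI := Fact.mk h.sec.prime
  haveI := Fintype.ofFinite Q
  haveI := Fintype.ofFinite U
  haveI : CharP (AlgebraicClosure (ZMod q)) q :=
    charP_of_injective_algebraMap (algebraMap (ZMod q) (AlgebraicClosure (ZMod q))).injective q
  haveI : CharP (AlgebraicClosure (ZMod p)) p :=
    charP_of_injective_algebraMap (algebraMap (ZMod p) (AlgebraicClosure (ZMod p))).injective p
  by_contra hno
  push Not at hno
  have hL := h.layerData (AlgebraicClosure (ZMod q))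
  obtain ⟨c, hcdef⟩ : ∃ c, c = cj Q FQ ⟨e, he⟩ := ⟨_, rfl⟩
  have hcc : ∀ x : Q, ((c x : Q) : Γ) = e * x * e⁻¹ := fun x => by rw [hcdef, coe_cj]
  have hfixed : ∀ {d : Q}, cj Q FQ ⟨s, h.act.sn⟩ d = d → (d : Γ) * s = s * d := fun {d} hd => by
    have h2 : s * (d : Γ) * s⁻¹ = d := congrArg Subtype.val hd
    calc (d : Γ) * s = s * d * s⁻¹ * s := by rw [h2]
      _ = s * d := by group
  have hP := h.act.pert (k := AlgebraicClosure (ZMod p)) (inv_mem he) (inv_mem heU) (inv_mem heZ)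
    (show e⁻¹ * s = s * e⁻¹ from ((show Commute e s from hes).inv_left).eq)
    (fun z hz hzZ y hy => by rw [inv_inv]; exact hfix z hz hzZ y hy)
  have hS : funPull (AlgebraicClosure (ZMod p)) (cj Q FQ ⟨s, h.act.sn⟩) hL.symm_mem =
      srep (AlgebraicClosure (ZMod p)) Q FQ ⟨s, h.act.sn⟩ := LinearMap.ext fun f => funs_ext fun x => by
    rw [funPull_apply, srep, funRep_apply, map_inv]
    rfl
  rw [← hS] at hP
  have h1 := hL.main (k' := AlgebraicClosure (ZMod p)) (fun x => x⁻¹ * c x) (fun d hd => ?_)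
    (fun l a b => ?_) (fun l x => ?_) (eU := cjOn U e⁻¹ (inv_mem heU))
    (E := srep (AlgebraicClosure (ZMod p)) Q FQ ⟨e⁻¹, inv_mem he⟩) (fun f y => ?_) hP ?_
    (fun d hd => ?_) (d := ⟨d₀, hd₀⟩⁻¹)
    (Subtype.ext (by
      show s * d₀⁻¹ * s⁻¹ = d₀⁻¹
      rw [← ((show Commute d₀ s from hd₀s).inv_left).eq]; group))
  · rw [Subgroup.mem_subgroupOf] at h1
    refine hd₀F ?_
    have h2 : ((⟨d₀, hd₀⟩ : Q)⁻¹ : Q)⁻¹.val * (c (⟨d₀, hd₀⟩ : Q)⁻¹ : Q).val ∈ FQ := h1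
    rw [hcc] at h2
    show ⁅d₀, e⁆ ∈ FQ
    rw [commutatorElement_def, show d₀ * e * d₀⁻¹ * e⁻¹ = d₀⁻¹⁻¹ * (e * d₀⁻¹ * e⁻¹) by group]
    exact h2
  · refine Subtype.ext ?_
    show s * ((d : Γ)⁻¹ * (c d : Q)) * s⁻¹ = (d : Γ)⁻¹ * (c d : Q)
    rw [hcc]
    have hc : Commute ((d : Γ)⁻¹ * (e * d * e⁻¹)) s :=
      ((show Commute (d : Γ) s from hfixed hd).inv_left).mul_left
        (((show Commute e s from hes).mul_left (hfixed hd)).mul_left
          (show Commute e s from hes).inv_left)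
    rw [← hc.eq]; group
  · simp only [map_mul, map_inv, mul_inv_rev]
    ac_rfl
  · simp only [map_mul, map_inv, Finset.prod_mul_distrib]
    congr 1
    refine Fintype.prod_equiv (cjOn U e heU).toEquiv _ _ fun w => congrArg l (Subtype.ext ?_)
    show ((c ((cj Q FQ (Subgroup.inclusion h.act.un w)) x) : Q) : Γ) =
      (e * w * e⁻¹) * (c x : Q) * (e * w * e⁻¹)⁻¹
    rw [hcc, hcc, coe_cj, Subgroup.coe_inclusion]
    group
  · have hE : ((srep (AlgebraicClosure (ZMod p)) Q FQ ⟨e⁻¹, inv_mem he⟩ f : _) : Q → _) y =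
        (f : Q → AlgebraicClosure (ZMod p)) (c y) := by
      rw [srep, funRep_apply, hcdef]
      exact congrArg _ (Subtype.ext (by rw [coe_cj, coe_cj]; simp))
    rw [hE, funs_mul, funs_inv, neg_add_eq_zero]
    exact eq_comm
  · rcases htame with hin | ⟨t, n, ht, htr, htU, hord⟩
    · left
      intro u
      rw [Subgroup.mem_subgroupOf]
      show (u : Γ)⁻¹ * (e⁻¹ * u * e⁻¹⁻¹) ∈ Z
      rw [inv_inv]
      exact hin u u.2
    · exact Or.inr ⟨t, n, ht, htr, htU, fun u => by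
        rw [cjOn_pow U (inv_mem heU) (n := t ^ n) (by rw [inv_pow, hord, inv_one]), MulAut.one_apply]⟩
  · by_contra hk
    have hxs : ((d⁻¹ * c d : Q) : Γ) * s = s * ((d⁻¹ * c d : Q) : Γ) := by
      rw [Subgroup.coe_mul, Subgroup.coe_inv, hcc]
      exact (((show Commute (d : Γ) s from hfixed hd).inv_left).mul_left
        (((show Commute e s from hes).mul_left (hfixed hd)).mul_left
          (show Commute e s from hes).inv_left)).eq
    obtain ⟨b, hb, hbs, hbF⟩ := h.of_not_killer hxs hk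
    refine hbF ?_
    have h3 := hno (d : Γ)⁻¹ (inv_mem d.2) ((show Commute (d : Γ) s from hfixed hd).inv_left).eq b hb hbs
    rwa [show ⁅(d : Γ)⁻¹, e⁆ = ((d⁻¹ * c d : Q) : Γ) by
      rw [Subgroup.coe_mul, Subgroup.coe_inv, hcc, commutatorElement_def]; group] at h3

end Lay

end Cfsg.Agent.Solv.FHeight
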