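import Cfsg.Agent.Lib.Solv.FHeight.Chain
import Cfsg.Agent.Lib.Solv.FHeight.Lay

/-!
Climbing along a chain: the fixed points of an element of prime order have long residual series.
-/

set_option autoImplicit false
set_option linter.unusedSectionVars false
set_option linter.style.haveILetI false

open scoped commutatorElement Pointwise

namespace Cfsg.Agent.Solv.FHeight

open Cfsg.Agent.Solv.FitTower

universe u

variable {Γ : Type u} [Group Γ]

theorem comm_mul_left (a b c : Γ) : ⁅a * b, c⁆ = a * ⁅b, c⁆ * a⁻¹ * ⁅a, c⁆ := by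
  simp only [commutatorElement_def]; group

theorem mem_Cs {s g : Γ} : g ∈ Subgroup.centralizer ({s} : Set Γ) ↔ g * s = s * g :=
  Subgroup.mem_centralizer_singleton_iff

theorem centralizer_zpowers_le (s : Γ) :
    Subgroup.centralizer (Subgroup.zpowers s : Set Γ) ≤ Subgroup.centralizer ({s} : Set Γ) :=
  Subgroup.centralizer_le (Set.singleton_subset_iff.2 (Subgroup.mem_zpowers s))

/-- Elements of `K` normalise the residuals of `K`. -/
theorem conj_mem_R [Finite Γ] {K : Subgroup Γ} {g x : Γ} (hg : g ∈ K) {i : ℕ} (hx : x ∈ R i K) :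
    g * x * g⁻¹ ∈ R i K := by
  have h1 := map_R (MulAut.conj g).toMonoidHom K i
  rw [← conj_smul_eq_map g K, Subgroup.conj_smul_eq_self_of_mem hg] at h1
  exact h1 ▸ ⟨x, hx, rfl⟩

/-- The setting of the climb. -/
structure Clb (s : Γ) (r : ℕ) (X : Subgroup Γ) (n : ℕ) (P F K : ℕ → Subgroup Γ) (p : ℕ → ℕ) : Prop where
  hr : r.Prime
  hs : s ^ r = 1
  hco : ¬ r ∣ Nat.card X
  ch : Chain (Subgroup.zpowers s) X (n + 2) P F K p
  hC : R n (X ⊓ Subgroup.centralizer ({s} : Set Γ)) = ⊥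

/-- The covering subgroups of the centralised part. -/
def cov (s : Γ) (P : ℕ → Subgroup Γ) : ℕ → Subgroup Γ
  | 0 => P 0 ⊓ Subgroup.centralizer ({s} : Set Γ)
  | i + 1 => ⁅P (i + 1) ⊓ Subgroup.centralizer ({s} : Set Γ), cov s P i⁆

/-- The sections moved by `s`, from level `j` on. -/
def mov (s : Γ) (P F : ℕ → Subgroup Γ) (j : ℕ) : ℕ → Subgroup Γ
  | 0 => P j
  | l + 1 => nxt s (mov s P F j l) (P (j + (l + 1))) (F (j + (l + 1)))

namespace Clb

variable [Finite Γ] {s : Γ} {r n : ℕ} {X : Subgroup Γ} {P F K : ℕ → Subgroup Γ} {p : ℕ → ℕ}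

theorem sP (h : Clb s r X n P F K p) {i : ℕ} (hi : i ≤ n + 2) :
    s ∈ Subgroup.normalizer (P i : Set Γ) := h.ch.aP i hi (Subgroup.mem_zpowers s)

theorem sF (h : Clb s r X n P F K p) {i : ℕ} (hi : i ≤ n + 2) :
    s ∈ Subgroup.normalizer (F i : Set Γ) := h.ch.aF i hi (Subgroup.mem_zpowers s)

theorem rp (h : Clb s r X n P F K p) {i : ℕ} (hi : i ≤ n + 2) : r ≠ p i := fun he => by
  haveI := Fact.mk (h.ch.prime i hi)
  obtain ⟨e, he'⟩ := IsPGroup.iff_card.1 (h.ch.grp i hi)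
  refine h.hco (dvd_trans ?_ (Subgroup.card_dvd_of_le (h.ch.le i hi)))
  rw [he', he]
  refine dvd_pow_self _ fun h0 => h.ch.proper i hi ?_
  rw [h0, pow_zero, Subgroup.card_eq_one] at he'
  rw [he']; exact bot_le

theorem secP (h : Clb s r X n P F K p) {i : ℕ} (hi : i ≤ n + 2) : Sec (P i) (F i) (p i) :=
  { prime := h.ch.prime i hi, grp := h.ch.grp i hi, le := h.ch.leF i hi
    comm := h.ch.comm i hi, pow := h.ch.pow i hi }

theorem coA (h : Clb s r X n P F K p) {i : ℕ} (hi : i ≤ n + 2) {H : Subgroup Γ} (hH : H ≤ P i) :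
    (Nat.card (Subgroup.zpowers s)).Coprime (Nat.card H) := by
  refine Nat.Coprime.coprime_dvd_left ?_ (coprime_pgroup ((h.ch.grp i hi).to_le hH) (h.ch.prime i hi)
    ((Nat.coprime_primes h.hr (h.ch.prime i hi)).2 (h.rp hi)))
  rw [Nat.card_zpowers]
  exact orderOf_dvd_of_pow_eq_one h.hs

theorem coNext (h : Clb s r X n P F K p) {i : ℕ} (hi : i < n + 2) {H L : Subgroup Γ} (hH : H ≤ P i)
    (hL : L ≤ P (i + 1)) : (Nat.card H).Coprime (Nat.card L) := by
  haveI := Fact.mk (h.ch.prime i hi.le)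
  haveI := Fact.mk (h.ch.prime (i + 1) hi)
  exact SSF.card_coprime_of_ne (h.ch.prime i hi.le) (h.ch.prime (i + 1) hi) (h.ch.ne i hi)
    ((h.ch.grp i hi.le).to_le hH) ((h.ch.grp (i + 1) hi).to_le hL)

theorem nil (h : Clb s r X n P F K p) {i : ℕ} (hi : i ≤ n + 2) {H : Subgroup Γ} (hH : H ≤ P i) :
    Group.IsNilpotent H := by
  haveI := Fact.mk (h.ch.prime i hi)
  exact ((h.ch.grp i hi).to_le hH).isNilpotent

theorem le_C (h : Clb s r X n P F K p) {i : ℕ} (hi : i ≤ n + 2) {H : Subgroup Γ}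
    (hH : H ≤ P i ⊓ Subgroup.centralizer ({s} : Set Γ)) :
    H ≤ X ⊓ Subgroup.centralizer ({s} : Set Γ) :=
  hH.trans (inf_le_inf_right _ (h.ch.le i hi))

theorem nnP (h : Clb s r X n P F K p) {i l : ℕ} (hil : i ≤ l) (hl : l ≤ n + 2) :
    P i ≤ nn (P l) (F l) := le_inf (h.ch.nP i l hil hl) (h.ch.nF i l hil hl)

/-- Commutators with `F i` act trivially on the next section. -/
theorem trivial_next (h : Clb s r X n P F K p) {i : ℕ} (hi : i < n + 2) {x y : Γ} (hx : x ∈ K i)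
    (hy : y ∈ P (i + 1)) : ⁅y, x⁆ ∈ F (i + 1) := ((h.ch.kerK i hi x).1 hx).2 y hy

/-! ### The centralised levels -/

theorem cov_spec (h : Clb s r X n P F K p) : ∀ i ≤ n + 2,
    cov s P i ≤ P i ⊓ Subgroup.centralizer ({s} : Set Γ) ∧
      cov s P i ≤ R i (X ⊓ Subgroup.centralizer ({s} : Set Γ))
  | 0, hi => ⟨le_rfl, by rw [R_zero]; exact h.le_C hi le_rfl⟩
  | i + 1, hi => by
    obtain ⟨h1, h2⟩ := h.cov_spec i (Nat.le_of_succ_le hi)
    obtain ⟨D, hD⟩ : ∃ D, D = P (i + 1) ⊓ Subgroup.centralizer ({s} : Set Γ) := ⟨_, rfl⟩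
    have hn : cov s P i ≤ Subgroup.normalizer (D : Set Γ) := fun t ht => hD ▸
      mem_normalizer_inf (h.ch.nP i (i + 1) (Nat.le_succ i) hi (h1 ht).1) (Subgroup.le_normalizer (h1 ht).2)
    have hle : ⁅D, cov s P i⁆ ≤ D := (commutator_normal_in hn).1
    haveI := h.nil (Nat.le_of_succ_le hi) (h1.trans inf_le_left)
    have he := commutator_commutator_eq hn
      (h.coNext hi (h1.trans inf_le_left) (hD.le.trans inf_le_left)) (Or.inl inferInstance)
    refine ⟨show ⁅P (i + 1) ⊓ Subgroup.centralizer ({s} : Set Γ), cov s P i⁆ ≤ _ from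
      hD ▸ hle, ?_⟩
    show ⁅P (i + 1) ⊓ Subgroup.centralizer ({s} : Set Γ), cov s P i⁆ ≤ _
    rw [← hD]
    exact le_R_of_commutator h2 (hle.trans (h.le_C hi hD.le)) he (i + 1) le_rfl

theorem cov_le (h : Clb s r X n P F K p) : ∀ i ≤ n + 2,
    (∀ l ≤ i, ⁅P l, Subgroup.zpowers s⁆ ≤ K l) → P i ≤ cov s P i ⊔ K i
  | 0, hi, hA => by
    have hAP := h.ch.aP 0 hi
    refine (commutator_sup_fixed hAP (h.coA hi le_rfl) (Or.inr (by
      haveI := h.nil hi (le_refl (P 0)); infer_instance))).ge.trans ?_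
    exact sup_le ((hA 0 le_rfl).trans le_sup_right)
      ((inf_le_inf_left _ (centralizer_zpowers_le s)).trans le_sup_left)
  | i + 1, hi, hA => by
    have ih := h.cov_le i (Nat.le_of_succ_le hi) fun l hl => hA l (hl.trans (Nat.le_succ i))
    obtain ⟨h1, -⟩ := h.cov_spec i (Nat.le_of_succ_le hi)
    obtain ⟨h1', -⟩ := h.cov_spec (i + 1) hi
    refine h.ch.hgen (i + 1) hi _ (h1'.trans inf_le_left) ((h.ch.gen i hi).trans (sup_le ?_ le_sup_right))
    obtain ⟨W, hW⟩ : ∃ W, W = cov s P (i + 1) ⊔ F (i + 1) := ⟨_, rfl⟩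
    rw [← hW]
    have hWP : W ≤ P (i + 1) := hW ▸ sup_le (h1'.trans inf_le_left) (h.ch.leF _ hi)
    have hFW : F (i + 1) ≤ W := hW ▸ le_sup_right
    have hM : cov s P i ⊔ K i ≤ modCent (P (i + 1)) W := by
      refine sup_le (fun t ht => mem_modCent.2 ⟨?_, fun y hy => ?_⟩) fun x hx => mem_modCent.2 ⟨?_, ?_⟩
      · rw [hW]
        exact mem_normalizer_sup (mem_normalizer_commutator (mem_normalizer_inf
          (h.ch.nP i (i + 1) (Nat.le_succ i) hi (h1 ht).1) (Subgroup.le_normalizer (h1 ht).2))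
            (Subgroup.le_normalizer ht)) (h.ch.nF i (i + 1) (Nat.le_succ i) hi (h1 ht).1)
      · haveI := h.nil hi (le_refl (P (i + 1)))
        obtain ⟨v, hv, c, hc, rfl⟩ := exists_commutator_mul_fixed (h.ch.aP (i + 1) hi) (h.coA hi le_rfl)
          (Or.inr inferInstance) hy
        have hvK := hA (i + 1) le_rfl hv
        have hvP : v ∈ P (i + 1) := h.ch.leF _ hi (h.ch.leK _ hi hvK)
        rw [comm_mul_left]
        refine mul_mem ?_ (hFW ?_)
        · have hct : ⁅c, t⁆ ∈ W := hW ▸ Subgroup.mem_sup_left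
            (Subgroup.commutator_mem_commutator ⟨hc.1, centralizer_zpowers_le s hc.2⟩ ht)
          have h2 := mul_mem (hFW (h.ch.comm (i + 1) hi _ (hWP hct) v hvP)) hct
          rwa [inv_mul_cancel_right] at h2
        · exact h.ch.leK _ hi (h.ch.cenF i hi
            (Subgroup.commutator_mem_commutator (h.ch.leK _ hi hvK) (h1 ht).1))
      · refine Subgroup.mem_normalizer_iff.2 fun w => ?_
        have key : ∀ x ∈ K i, ∀ w ∈ W, x * w * x⁻¹ ∈ W := fun x hx w hw => by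
          have h2 := mul_mem (inv_mem (hFW (h.trivial_next hi hx (hWP hw)))) hw
          rwa [show ⁅w, x⁆⁻¹ * w = x * w * x⁻¹ by rw [commutatorElement_def]; group] at h2
        refine ⟨key x hx w, fun hw => ?_⟩
        have h2 := key x⁻¹ (inv_mem hx) _ hw
        rwa [show x⁻¹ * (x * w * x⁻¹) * x⁻¹⁻¹ = w by group] at h2
      · exact fun y hy => hFW (h.trivial_next hi hx hy)
    exact Subgroup.commutator_le.2 fun y hy x hx => (mem_modCent.1 (hM (ih hx))).2 y hy

theorem exists_first (h : Clb s r X n P F K p) : ∃ j ≤ n, ¬ ⁅P j, Subgroup.zpowers s⁆ ≤ K j ∧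
    ∀ l < j, ⁅P l, Subgroup.zpowers s⁆ ≤ K l := by
  classical
  obtain ⟨l, hl, hl'⟩ : ∃ l ≤ n, ¬ ⁅P l, Subgroup.zpowers s⁆ ≤ K l := by
    by_contra hno
    push Not at hno
    refine h.ch.proper n (by omega) ((h.cov_le n (by omega) hno).trans (sup_le ?_ (h.ch.leK n (by omega))))
    exact ((h.cov_spec n (by omega)).2.trans h.hC.le).trans bot_le
  have hex : ∃ l, ¬ ⁅P l, Subgroup.zpowers s⁆ ≤ K l := ⟨l, hl'⟩
  exact ⟨Nat.find hex, (Nat.find_min' hex hl').trans hl, Nat.find_spec hex,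
    fun i hi => not_not.1 (Nat.find_min hex hi)⟩

/-! ### The moved levels -/

variable {j : ℕ}

theorem mov_normalized {g : Γ} (hgs : g * s = s * g) : ∀ l,
    (∀ i, i ≤ j + l → j ≤ i → g ∈ nn (P i) (F i)) →
    g ∈ Subgroup.normalizer (mov s P F j l : Set Γ)
  | 0, hg => (hg j le_rfl le_rfl).1
  | l + 1, hg => mem_normalizer_sup (mem_normalizer_commutator (hg _ le_rfl (Nat.le_add_right j _)).1
      (mem_normalizer_commutator (mov_normalized hgs l fun i hi hji => hg i (by omega) hji)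
        (mem_normalizer_zpowers hgs))) (hg _ le_rfl (Nat.le_add_right j _)).2

theorem s_mov (h : Clb s r X n P F K p) {l : ℕ} (hl : j + l ≤ n + 2) :
    s ∈ Subgroup.normalizer (mov s P F j l : Set Γ) :=
  mov_normalized rfl l fun _ hi _ => ⟨h.sP (hi.trans hl), h.sF (hi.trans hl)⟩

theorem mov_le (h : Clb s r X n P F K p) : ∀ l, j + l ≤ n + 2 → mov s P F j l ≤ P (j + l)
  | 0, _ => le_rfl
  | l + 1, hl => by
    have hQ : mov s P F j l ≤ P (j + l) := h.mov_le l (by omega)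
    refine sup_le ((commutator_normal_in fun g hg => ?_).1) (h.ch.leF _ hl)
    exact h.ch.nP (j + l) (j + (l + 1)) (by omega) hl (hQ ((commutator_normal_in
      (Subgroup.zpowers_le.2 (h.s_mov (l := l) (by omega)))).1 hg))

theorem F_le_mov (h : Clb s r X n P F K p) : ∀ l, j + l ≤ n + 2 → F (j + l) ≤ mov s P F j l
  | 0, hl => h.ch.leF j hl
  | _ + 1, _ => le_sup_right

/-- The moved part of a moved level. -/
theorem U_le (h : Clb s r X n P F K p) {l : ℕ} (hl : j + l ≤ n + 2) :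
    ⁅mov s P F j l, Subgroup.zpowers s⁆ ≤ mov s P F j l :=
  (commutator_normal_in (Subgroup.zpowers_le.2 (h.s_mov hl))).1

theorem U_gen (h : Clb s r X n P F K p) {l : ℕ} (hl : j + l ≤ n + 2) :
    ⁅⁅mov s P F j l, Subgroup.zpowers s⁆, Subgroup.zpowers s⁆ =
      ⁅mov s P F j l, Subgroup.zpowers s⁆ := by
  haveI := h.nil hl (h.mov_le l hl)
  exact commutator_commutator_eq (Subgroup.zpowers_le.2 (h.s_mov hl)) (h.coA hl (h.mov_le l hl))
    (Or.inr inferInstance)

theorem U_normalizes (h : Clb s r X n P F K p) {l : ℕ} (hl : j + l < n + 2) :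
    ⁅mov s P F j l, Subgroup.zpowers s⁆ ≤ nn (mov s P F j (l + 1)) (F (j + (l + 1))) := fun u hu => by
  have hn := h.nnP (i := j + l) (l := j + (l + 1)) (by omega) hl
    (h.mov_le l hl.le (h.U_le hl.le hu))
  exact ⟨mem_normalizer_sup (mem_normalizer_commutator hn.1 (Subgroup.le_normalizer hu)) hn.2, hn.2⟩

theorem genP (h : Clb s r X n P F K p) {l : ℕ} (hl : j + l < n + 2) :
    mov s P F j (l + 1) ≤ ⁅mov s P F j (l + 1), ⁅mov s P F j l, Subgroup.zpowers s⁆⁆ ⊔
      F (j + (l + 1)) := by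
  have hU := (h.U_le hl.le).trans (h.mov_le l hl.le)
  haveI := h.nil hl.le hU
  refine sup_le ?_ le_sup_right
  rw [← commutator_commutator_eq
    (hU.trans ((h.ch.nP (j + l) (j + (l + 1)) (by omega) hl)))
    (h.coNext hl hU le_rfl) (Or.inl inferInstance)]
  exact (Subgroup.commutator_mono le_sup_left le_rfl).trans le_sup_left

theorem moved (h : Clb s r X n P F K p) (hj : ¬ ⁅P j, Subgroup.zpowers s⁆ ≤ K j) :
    ∀ l, j + l ≤ n + 2 → ¬ ⁅mov s P F j l, Subgroup.zpowers s⁆ ≤ F (j + l)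
  | 0, hl => fun hle => by
    have hA := h.ch.aP j hl
    haveI := h.nil hl (le_refl (P j))
    refine hj ?_
    have h1 := h.ch.hgen j hl (P j ⊓ Subgroup.centralizer (Subgroup.zpowers s : Set Γ)) inf_le_left
      ((commutator_sup_fixed hA (h.coA hl le_rfl) (Or.inr inferInstance)).ge.trans
        (sup_le (hle.trans le_sup_right) le_sup_left))
    have h2 : P j ≤ modCent (Subgroup.zpowers s) (K j) := h1.trans (sup_le
      (fun c hc => mem_modCent.2 ⟨h.ch.nK j j le_rfl hl hc.1, fun a ha => by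
        rw [show ⁅a, c⁆ = 1 from commutatorElement_eq_one_iff_mul_comm.2
          (Subgroup.mem_centralizer_iff.1 hc.2 a ha)]
        exact one_mem _⟩)
      fun k hk => mem_modCent.2 ⟨Subgroup.le_normalizer hk, fun a ha => by
        rw [commutatorElement_def]
        exact mul_mem (conj_mem_of_mem_normalizer (h.ch.aK j hl ha) hk) (inv_mem hk)⟩)
    exact Subgroup.commutator_le.2 fun x hx a ha => by
      rw [← commutatorElement_inv]; exact inv_mem ((mem_modCent.1 (h2 hx)).2 a ha)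
  | l + 1, hl => fun hle => by
    have hl' : j + l < n + 2 := by omega
    have ih := h.moved hj l hl'.le
    obtain ⟨U, hU⟩ : ∃ U, U = ⁅mov s P F j l, Subgroup.zpowers s⁆ := ⟨_, rfl⟩
    rw [← hU] at ih
    have hUn : U ≤ nn (mov s P F j (l + 1)) (F (j + (l + 1))) := hU ▸ h.U_normalizes hl'
    have hUP : U ≤ P (j + l) := hU ▸ (h.U_le hl'.le).trans (h.mov_le l hl'.le)
    -- the next level is not inside `F`
    obtain ⟨u, hu, huF⟩ := SetLike.not_le_iff_exists.1 ih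
    obtain ⟨y, hy, hyF⟩ : ∃ y ∈ P (j + (l + 1)), ⁅y, u⁆ ∉ F (j + (l + 1)) := by
      by_contra hno
      push Not at hno
      exact huF (h.ch.leK _ hl'.le ((h.ch.kerK _ hl' u).2 ⟨hUP hu, hno⟩))
    have hQF : ¬ mov s P F j (l + 1) ≤ F (j + (l + 1)) := fun hQ =>
      hyF (hQ (Subgroup.mem_sup_left (Subgroup.commutator_mem_commutator hy (hU ▸ hu))))
    refine hQF ((h.genP hl').trans (sup_le ?_ le_rfl))
    rw [← hU]
    have hFn : F (j + (l + 1)) ≤ Subgroup.normalizer (F (j + (l + 1)) : Set Γ) := Subgroup.le_normalizer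
    have hQA : ⁅mov s P F j (l + 1), Subgroup.zpowers s⁆ ≤ F (j + (l + 1)) := hle
    have h3 : ⁅⁅U, Subgroup.zpowers s⁆, mov s P F j (l + 1)⁆ ≤ F (j + (l + 1)) := by
      refine three_mod (hUn.trans inf_le_right) (h.ch.aF _ hl)
        ((h.mov_le _ hl).trans (h.ch.nF _ _ le_rfl hl)) ?_ ?_
      · rw [Subgroup.commutator_comm (Subgroup.zpowers s)]
        refine (Subgroup.commutator_mono hQA le_rfl).trans ?_
        exact (commutator_normal_in (hUn.trans inf_le_right)).1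
      · refine (Subgroup.commutator_mono ?_ le_rfl).trans hQA
        exact (commutator_normal_in (hUn.trans inf_le_left)).1
    rw [hU, h.U_gen hl'.le] at h3
    rw [Subgroup.commutator_comm, hU]
    exact h3

theorem mov_not_le (h : Clb s r X n P F K p) (hj : ¬ ⁅P j, Subgroup.zpowers s⁆ ≤ K j) {l : ℕ}
    (hl : j + l ≤ n + 2) : ¬ mov s P F j l ≤ F (j + l) := fun hle =>
  h.moved hj l hl ((h.U_le hl).trans hle)

theorem act2 (h : Clb s r X n P F K p) {l : ℕ} (hl : j + l < n + 2) :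
    Act2 s r ⁅mov s P F j l, Subgroup.zpowers s⁆ (F (j + l)) (mov s P F j (l + 1))
      (F (j + (l + 1))) (p (j + (l + 1))) where
  hr := h.hr
  hs := h.hs
  rp := h.rp (show j + (l + 1) ≤ n + 2 by omega)
  sec :=
    { prime := h.ch.prime _ hl
      grp := (h.ch.grp _ hl).to_le (h.mov_le (l + 1) hl)
      le := h.F_le_mov (l + 1) hl
      comm := fun a ha b hb => h.ch.comm _ hl a (h.mov_le _ hl ha) b (h.mov_le _ hl hb)
      pow := fun a ha => h.ch.pow _ hl a (h.mov_le _ hl ha) }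
  sU := mem_normalizer_commutator (h.s_mov hl.le) (mem_normalizer_zpowers rfl)
  sZ := h.sF hl.le
  sn := ⟨h.s_mov (l := l + 1) hl, h.sF hl⟩
  un := h.U_normalizes hl
  rU := coprime_pgroup ((h.ch.grp _ hl.le).to_le ((h.U_le hl.le).trans (h.mov_le l hl.le)))
    (h.ch.prime _ hl.le) ((Nat.coprime_primes h.hr (h.ch.prime _ hl.le)).2 (h.rp hl.le))
  pU := coprime_pgroup ((h.ch.grp _ hl.le).to_le ((h.U_le hl.le).trans (h.mov_le l hl.le)))
    (h.ch.prime _ hl.le) ((Nat.coprime_primes (h.ch.prime _ hl) (h.ch.prime _ hl.le)).2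
      (h.ch.ne _ hl).symm)
  comm a ha b hb := h.ch.comm _ hl.le a (h.mov_le l hl.le (h.U_le hl.le ha)) b
    (h.mov_le l hl.le (h.U_le hl.le hb))
  cen z _ hz u hu y hy := h.trivial_next hl
    (by
      rw [show z * u * z⁻¹ * u⁻¹ = ⁅z, u⁆ from (commutatorElement_def z u).symm]
      exact h.ch.cen _ hl.le (Subgroup.commutator_mem_commutator hz (h.mov_le l hl.le (h.U_le hl.le hu))))
    (h.mov_le (l + 1) hl hy)
  gen := (h.U_gen hl.le).ge
  genP := h.genP hl

theorem lay (h : Clb s r X n P F K p) {l : ℕ} (hl : j + l + 1 < n + 2) :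
    Lay s r ⁅mov s P F j l, Subgroup.zpowers s⁆ (F (j + l)) (mov s P F j (l + 1))
      (F (j + (l + 1))) (P (j + (l + 1 + 1))) (F (j + (l + 1 + 1))) (p (j + (l + 1)))
      (p (j + (l + 1 + 1))) where
  act := h.act2 (by omega)
  sec := h.secP (by omega)
  rq := h.rp (by omega)
  pq := h.ch.ne (j + (l + 1)) (show j + (l + 1) < n + 2 by omega)
  sn := ⟨h.sP (by omega), h.sF (by omega)⟩
  UP := ((h.U_le (by omega)).trans (h.mov_le l (by omega))).trans (h.nnP (by omega) (by omega))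
  QP := (h.mov_le (l + 1) (by omega)).trans (h.nnP (by omega) (by omega))
  cen z hz x hx y hy := h.trivial_next (i := j + (l + 1)) (by omega)
    (by
      rw [show x * z * x⁻¹ * z⁻¹ = ⁅z, x⁆⁻¹ by rw [commutatorElement_def]; group]
      exact inv_mem (h.ch.cen _ (by omega)
        (Subgroup.commutator_mem_commutator hz (h.mov_le (l + 1) (by omega) hx)))) hy
  ker x hx hfix := h.ch.leK _ (by omega)
    ((h.ch.kerK (j + (l + 1)) (by omega) x).2 ⟨h.mov_le (l + 1) (by omega) hx, hfix⟩)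
  afix u hu z hz y hy := h.trivial_next (i := j + (l + 1)) (by omega)
    (by
      rw [show u * z * u⁻¹ * z⁻¹ = ⁅z, u⁆⁻¹ by rw [commutatorElement_def]; group]
      exact inv_mem (h.ch.cenF (j + l) (by omega)
        (Subgroup.commutator_mem_commutator hz (h.mov_le l (by omega) (h.U_le (by omega) hu))))) hy

/-! ### The states -/

/-- A residual part of the fixed elements at a level, moving fixed elements of the next one. -/
def St (s : Γ) (X : Subgroup Γ) (n : ℕ) (P F : ℕ → Subgroup Γ) (j l : ℕ) : Prop :=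
  ∃ E : Subgroup Γ, E ≤ mov s P F j l ⊓ Subgroup.centralizer ({s} : Set Γ) ∧
    E ≤ R (j + l - 2) (X ⊓ Subgroup.centralizer ({s} : Set Γ)) ∧ ¬ E ≤ F (j + l) ∧
    (j + l < n + 2 → ¬ ⁅mov s P F j (l + 1) ⊓ Subgroup.centralizer ({s} : Set Γ), E⁆ ≤ F (j + (l + 1)))

/-- The conditions on a fixed subgroup acting at a level. -/
theorem nn_mov (h : Clb s r X n P F K p) {g : Γ} (hgs : g * s = s * g) {i l : ℕ} (hg : g ∈ P i)
    (hi : i ≤ j) (hl : j + l ≤ n + 2) : g ∈ nn (mov s P F j l) (F (j + l)) :=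
  ⟨mov_normalized hgs l fun a ha hja => h.nnP (hi.trans hja) (ha.trans hl) hg,
    h.ch.nF i (j + l) (by omega) hl hg⟩

theorem nn_mov_self (h : Clb s r X n P F K p) {g : Γ} (hgs : g * s = s * g) {l : ℕ}
    (hg : g ∈ mov s P F j l) (hl : j + l < n + 2) :
    g ∈ nn (mov s P F j (l + 1)) (F (j + (l + 1))) := by
  have hn := h.nnP (i := j + l) (l := j + (l + 1)) (by omega) hl (h.mov_le l hl.le hg)
  exact ⟨mem_normalizer_sup (mem_normalizer_commutator hn.1
    (mem_normalizer_commutator (Subgroup.le_normalizer hg) (mem_normalizer_zpowers hgs))) hn.2, hn.2⟩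

theorem st_step (h : Clb s r X n P F K p) {l : ℕ} (hl : j + l < n + 2) (hS : St s X n P F j l) :
    St s X n P F j (l + 1) := by
  obtain ⟨E, hE, hER, -, hpush⟩ := hS
  obtain ⟨D, hD⟩ : ∃ D, D = mov s P F j (l + 1) ⊓ Subgroup.centralizer ({s} : Set Γ) := ⟨_, rfl⟩
  have hpush' := hpush hl
  rw [← hD] at hpush'
  have hEn : E ≤ Subgroup.normalizer (D : Set Γ) := fun e he => hD ▸ mem_normalizer_inf
    (h.nn_mov_self (mem_Cs.1 (hE he).2) (hE he).1 hl).1 (Subgroup.le_normalizer (hE he).2)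
  have hle : ⁅D, E⁆ ≤ D := (commutator_normal_in hEn).1
  have hEP : E ≤ P (j + l) := (hE.trans inf_le_left).trans (h.mov_le l hl.le)
  have hDP : D ≤ P (j + (l + 1)) := (hD.le.trans inf_le_left).trans (h.mov_le (l + 1) hl)
  haveI := h.nil hl.le hEP
  have he := commutator_commutator_eq hEn (h.coNext hl hEP hDP) (Or.inl inferInstance)
  refine ⟨⁅D, E⁆, hle.trans hD.le, ?_, hpush', fun hl1 hbad => hpush' ?_⟩
  · exact le_R_of_commutator hER (hle.trans (h.le_C hl (le_inf hDP (hD.le.trans inf_le_right)))) he _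
      (by omega)
  refine Subgroup.commutator_le.2 fun d₀ hd₀ e heE => ?_
  by_contra hne
  rw [hD] at hd₀
  have hes : e * s = s * e := mem_Cs.1 (hE heE).2
  have heQ := (hE heE).1
  have heU : e ∈ Subgroup.normalizer ((⁅mov s P F j l, Subgroup.zpowers s⁆ : Subgroup Γ) : Set Γ) :=
    mem_normalizer_commutator (Subgroup.le_normalizer heQ) (mem_normalizer_zpowers hes)
  obtain ⟨d₁, hd₁, hd₁s, d, hd, hds, hdF⟩ := (h.lay hl1).push_comm (h.nn_mov_self hes heQ hl) heU
    (h.ch.nF _ _ le_rfl hl.le (hEP heE)) hes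
    (fun z hzU hzF y hy => h.trivial_next hl (by
      rw [show e⁻¹ * z * e * z⁻¹ = ⁅z, e⁻¹⁆⁻¹ by rw [commutatorElement_def]; group]
      exact inv_mem (h.ch.cen _ hl.le (Subgroup.commutator_mem_commutator hzF (inv_mem (hEP heE)))))
      (h.mov_le (l + 1) hl hy))
    (Or.inl fun u hu => by
      rw [show u⁻¹ * (e⁻¹ * u * e) = u⁻¹ * e⁻¹ * u⁻¹⁻¹ * e⁻¹⁻¹ by group]
      exact h.ch.comm _ hl.le _ (inv_mem (hEP heE)) _
        (inv_mem (h.mov_le l hl.le (h.U_le hl.le hu))))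
    hd₀.1 (mem_Cs.1 hd₀.2) hne
  exact hdF (hbad (Subgroup.commutator_mem_commutator ⟨hd, mem_Cs.2 hds⟩
    (Subgroup.commutator_mem_commutator (hD ▸ ⟨hd₁, mem_Cs.2 hd₁s⟩) heE)))

theorem no_st (h : Clb s r X n P F K p) : ∀ d l, j + l + d = n + 2 → ¬ St s X n P F j l
  | 0, l, hd, hS => by
    obtain ⟨E, -, hER, hEF, -⟩ := hS
    rw [show j + l - 2 = n by omega, h.hC] at hER
    exact hEF (hER.trans bot_le)
  | d + 1, l, hd, hS => h.no_st d (l + 1) (by omega) (h.st_step (by omega) hS)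

/-- Starting with the fixed elements of a level moved by a group of odd order. -/
theorem st_fixed (h : Clb s r X n P F K p) (hj : ¬ ⁅P j, Subgroup.zpowers s⁆ ≤ K j) {l : ℕ}
    (hl : j + l < n + 2) (hodd : p (j + l) ≠ 2) (hlow : j + l ≤ 1) : St s X n P F j (l + 1) := by
  haveI := Fact.mk (h.ch.prime _ hl.le)
  have hodd' : Odd (Nat.card (⁅mov s P F j l, Subgroup.zpowers s⁆ : Subgroup Γ)) := by
    obtain ⟨e, he⟩ := IsPGroup.iff_card.1
      ((h.ch.grp _ hl.le).to_le ((h.U_le hl.le).trans (h.mov_le l hl.le)))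
    rw [he]; exact ((h.ch.prime _ hl.le).odd_of_ne_two hodd).pow
  obtain ⟨d₀, hd₀, hd₀s, hd₀F⟩ := (h.act2 hl).exists_fixed_notMem hodd'
    (h.mov_not_le hj (l := l + 1) hl)
  refine ⟨mov s P F j (l + 1) ⊓ Subgroup.centralizer ({s} : Set Γ), le_rfl, ?_,
    fun hle => hd₀F (hle ⟨hd₀, mem_Cs.2 hd₀s⟩), fun hl1 hbad => ?_⟩
  · rw [show j + (l + 1) - 2 = 0 by omega, R_zero]
    exact h.le_C hl (inf_le_inf_right _ (h.mov_le (l + 1) hl))
  obtain ⟨d₁, hd₁, hd₁s, d, hd, hds, hdF⟩ := (h.lay hl1).push_fixed hd₀ hd₀s hd₀F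
  exact hdF (hbad (Subgroup.commutator_mem_commutator ⟨hd, mem_Cs.2 hds⟩ ⟨hd₁, mem_Cs.2 hd₁s⟩))

/-- Starting with commutators of a subgroup moving fixed elements. -/
theorem st_comm (h : Clb s r X n P F K p) (hjn : j ≤ n) {W : Subgroup Γ} {i : ℕ} (hij : i ≤ j)
    (hW : W ≤ P i) (hWs : W ≤ Subgroup.centralizer ({s} : Set Γ))
    (hfix : ∀ e ∈ W, ∀ z ∈ (⁅P j, Subgroup.zpowers s⁆ : Subgroup Γ), z ∈ F j →
      e⁻¹ * z * e * z⁻¹ ∈ K j)
    (htame : (∀ e ∈ W, ∀ u ∈ (⁅P j, Subgroup.zpowers s⁆ : Subgroup Γ), u⁻¹ * (e⁻¹ * u * e) ∈ F j) ∨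
      (p i).Coprime (Nat.card (⁅P j, Subgroup.zpowers s⁆ : Subgroup Γ)))
    (hER : ⁅mov s P F j 1 ⊓ Subgroup.centralizer ({s} : Set Γ), W⁆ ≤
      R (j + 1 - 2) (X ⊓ Subgroup.centralizer ({s} : Set Γ)))
    (hmove : ¬ ⁅mov s P F j 1 ⊓ Subgroup.centralizer ({s} : Set Γ), W⁆ ≤ F (j + 1)) :
    St s X n P F j 1 := by
  have hWn : W ≤ Subgroup.normalizer
      ((mov s P F j 1 ⊓ Subgroup.centralizer ({s} : Set Γ) : Subgroup Γ) : Set Γ) := fun e he =>
    mem_normalizer_inf (h.nn_mov (mem_Cs.1 (hWs he)) (hW he) hij (l := 1) (by omega)).1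
      (Subgroup.le_normalizer (hWs he))
  refine ⟨_, (commutator_normal_in hWn).1, hER, hmove, fun hl1 hbad => hmove ?_⟩
  refine Subgroup.commutator_le.2 fun d₀ hd₀ e he => ?_
  by_contra hne
  have hes : e * s = s * e := mem_Cs.1 (hWs he)
  obtain ⟨d₁, hd₁, hd₁s, d, hd, hds, hdF⟩ := (h.lay (l := 0) hl1).push_comm
    (h.nn_mov hes (hW he) hij (l := 1) (by omega))
    (mem_normalizer_commutator (h.ch.nP i j hij (by omega) (hW he)) (mem_normalizer_zpowers hes))
    (h.ch.nF i (j + 0) (by omega) (by omega) (hW he)) hes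
    (fun z hzU hzF y hy => h.trivial_next (i := j) (by omega) (hfix e he z hzU hzF)
      (h.mov_le (j := j) 1 (by omega) hy))
    (by
      rcases htame with hin | hco
      · exact Or.inl fun u hu => hin e he u hu
      · obtain ⟨m, hm⟩ := (h.ch.grp i (by omega)).to_le hW ⟨e, he⟩
        exact Or.inr ⟨p i, m, h.ch.prime i (by omega), (h.rp (by omega)).symm, hco,
          congrArg Subtype.val hm⟩)
    hd₀.1 (mem_Cs.1 hd₀.2) hne
  exact hdF (hbad (Subgroup.commutator_mem_commutator ⟨hd, mem_Cs.2 hds⟩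
    (Subgroup.commutator_mem_commutator ⟨hd₁, mem_Cs.2 hd₁s⟩ he)))

/-- A centralised level cannot act trivially on the first moved one. -/
theorem not_still {a : ℕ} (h : Clb s r X n P F K p) (hj : ¬ ⁅P (a + 1), Subgroup.zpowers s⁆ ≤ K (a + 1))
    (hlow : ∀ l < a + 1, ⁅P l, Subgroup.zpowers s⁆ ≤ K l) (ha : a + 1 ≤ n)
    (hst : ∀ e ∈ cov s P a, ∀ u ∈ (⁅P (a + 1), Subgroup.zpowers s⁆ : Subgroup Γ),
      ∀ y ∈ mov s P F (a + 1) 1, ⁅y, e * u * e⁻¹ * u⁻¹⁆ ∈ F (a + 1 + 1)) : False := by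
  obtain ⟨h1, -⟩ := h.cov_spec a (by omega)
  have hcov := h.cov_le a (by omega) fun l hl => hlow l (by omega)
  obtain ⟨U, hU⟩ : ∃ U, U = (⁅P (a + 1), Subgroup.zpowers s⁆ : Subgroup Γ) := ⟨_, rfl⟩
  have hUP : U ≤ P (a + 1) := hU ▸ (commutator_normal_in (h.ch.aP _ (by omega))).1
  have hK : ∀ e ∈ cov s P a, ∀ u ∈ U, e * u * e⁻¹ * u⁻¹ ∈ K (a + 1) := by
    intro e he u hu
    have heU : e ∈ Subgroup.normalizer (U : Set Γ) := hU ▸ mem_normalizer_commutator
      (h.ch.nP a (a + 1) (by omega) (by omega) (h1 he).1) (mem_normalizer_zpowers (mem_Cs.1 (h1 he).2))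
    obtain ⟨w, hw⟩ : ∃ w, w = e * u * e⁻¹ * u⁻¹ := ⟨_, rfl⟩
    have hwU : w ∈ U := hw ▸ mul_mem (conj_mem_of_mem_normalizer heU hu) (inv_mem hu)
    rw [← hw, h.ch.kerK (a + 1) (by omega)]
    refine ⟨hUP hwU, fun y hy => ?_⟩
    haveI := h.nil (show a + 1 ≤ n + 2 by omega) hUP
    obtain ⟨v, hv, c, hc, rfl⟩ := exists_commutator_mul_fixed
      (hUP.trans (h.ch.nP (a + 1) (a + 1 + 1) (by omega) (by omega)))
      (h.coNext (i := a + 1) (by omega) hUP le_rfl) (Or.inl inferInstance) hy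
    rw [comm_mul_left, show ⁅c, w⁆ = 1 from commutatorElement_eq_one_iff_mul_comm.2
      (Subgroup.mem_centralizer_iff.1 hc.2 w hwU).symm, mul_one, mul_inv_cancel, one_mul, hw]
    exact hst e he u (hU ▸ hu) v (Subgroup.mem_sup_left (show v ∈ ⁅P (a + 1 + 1), _⁆ from hU ▸ hv))
  refine h.moved hj 0 (by omega) fun u hu => ?_
  show u ∈ F (a + 1)
  have huU : u ∈ U := hU ▸ hu
  haveI := Fact.mk (h.ch.prime a (by omega))
  refine le_of_gen (h.ch.prime _ (by omega)) (h.ch.nP a (a + 1) (by omega) (by omega))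
    (h.ch.nF a (a + 1) (by omega) (by omega)) (h.ch.leF _ (by omega)) (h.ch.comm _ (by omega))
    (h.ch.pow _ (by omega)) ?_ (h.ch.gen a (by omega)) (hUP huU) fun b hb => ?_
  · obtain ⟨e, he⟩ := IsPGroup.iff_card.1 (h.ch.grp a (by omega))
    rw [he]
    exact ((Nat.coprime_primes (h.ch.prime _ (by omega)) (h.ch.prime a (by omega))).2
      (h.ch.ne a (by omega)).symm).pow_right e
  have hM : P a ≤ modCent U (F (a + 1)) := hcov.trans (sup_le
    (fun e he => mem_modCent.2 ⟨h.ch.nF a (a + 1) (by omega) (by omega) (h1 he).1, fun x hx => by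
      rw [show ⁅x, e⁆ = (e * x * e⁻¹ * x⁻¹)⁻¹ by rw [commutatorElement_def]; group]
      exact inv_mem (h.ch.leK _ (by omega) (hK e he x hx))⟩)
    fun k hk => mem_modCent.2 ⟨h.ch.nF a (a + 1) (by omega) (by omega)
      (((h.ch.kerK a (by omega) k).1 hk).1), fun x hx => h.trivial_next (by omega) hk (hUP hx)⟩)
  exact (mem_modCent.1 (hM hb)).2 u huU

theorem nice {a : ℕ} (h : Clb s r X n P F K p) {i : ℕ} (hi : i ≤ a + 1) (ha : a + 1 ≤ n)
    {T : Subgroup Γ} (hT : T ≤ P i ⊓ Subgroup.centralizer ({s} : Set Γ)) :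
    (h.act2 (j := a + 1) (l := 0) (by omega)).Nice T where
  tn e he := h.nn_mov (mem_Cs.1 (hT he).2) (hT he).1 hi (by omega)
  tU e he := mem_normalizer_commutator (h.ch.nP i (a + 1) hi (by omega) (hT he).1)
    (mem_normalizer_zpowers (mem_Cs.1 (hT he).2))
  tZ e he := h.ch.nF i (a + 1) hi (by omega) (hT he).1
  ts e he := mem_Cs.1 (hT he).2

/-- The climb always starts, and cannot end. -/
theorem false (h : Clb s r X n P F K p) : False := by
  obtain ⟨j, hjn, hj, hlow⟩ := h.exists_first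
  rcases j with _ | a
  · by_cases h2 : p 0 = 2
    · have h21 : p 1 ≠ 2 := fun h1 => h.ch.ne 0 (by omega) (h2.trans h1.symm)
      exact h.no_st n 2 (by omega) (h.st_fixed hj (j := 0) (l := 1) (by omega) h21 (by omega))
    · exact h.no_st (n + 1) 1 (by omega) (h.st_fixed hj (j := 0) (l := 0) (by omega) h2 (by omega))
  obtain ⟨hT, hTR⟩ := h.cov_spec a (by omega)
  refine h.no_st (j := a + 1) (n - a) 1 (by omega) ?_
  by_cases hm : ⁅mov s P F (a + 1) 1 ⊓ Subgroup.centralizer ({s} : Set Γ), cov s P a⁆ ≤ F (a + 1 + 1)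
  swap
  · refine h.st_comm hjn (Nat.le_succ a) (hT.trans inf_le_left) (hT.trans inf_le_right) ?_
      (Or.inr (coprime_pgroup ((h.ch.grp _ (by omega)).to_le
          (commutator_normal_in (h.ch.aP _ (by omega))).1) (h.ch.prime _ (by omega))
        ((Nat.coprime_primes (h.ch.prime a (by omega)) (h.ch.prime _ (by omega))).2
          (h.ch.ne a (by omega))))) ?_ hm
    · intro e he z _ hz
      rw [show e⁻¹ * z * e * z⁻¹ = ⁅z, e⁻¹⁆⁻¹ by rw [commutatorElement_def]; group]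
      exact inv_mem (h.ch.cenF a (by omega)
        (Subgroup.commutator_mem_commutator hz (inv_mem (hT he).1)))
    · rw [show a + 1 + 1 - 2 = a by omega]
      refine Subgroup.commutator_le.2 fun d hd w hw => ?_
      rw [commutatorElement_def]
      exact mul_mem (conj_mem_R (h.le_C (show a + 1 + 1 ≤ n + 2 by omega)
        (inf_le_inf_right _ (h.mov_le (j := a + 1) 1 (by omega))) hd) (hTR hw)) (inv_mem (hTR hw))
  have hA := h.act2 (j := a + 1) (l := 0) (by omega)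
  have htriv : ∀ e ∈ cov s P a, ∀ d ∈ mov s P F (a + 1) 1, d * s = s * d →
      ⁅d, e⁆ ∈ F (a + 1 + 1) := fun e he d hd hds =>
    hm (Subgroup.commutator_mem_commutator ⟨hd, mem_Cs.2 hds⟩ he)
  have hfixT : ∀ e ∈ cov s P a, ∀ z ∈ (⁅P (a + 1), Subgroup.zpowers s⁆ : Subgroup Γ), z ∈ F (a + 1) →
      ∀ y ∈ mov s P F (a + 1) 1, ⁅y, e * z * e⁻¹ * z⁻¹⁆ ∈ F (a + 1 + 1) := fun e he z _ hz y hy =>
    h.trivial_next (by omega) (by
      rw [show e * z * e⁻¹ * z⁻¹ = ⁅z, e⁆⁻¹ by rw [commutatorElement_def]; group]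
      exact inv_mem (h.ch.cenF a (by omega) (Subgroup.commutator_mem_commutator hz (hT he).1)))
      (h.mov_le (j := a + 1) 1 (by omega) hy)
  have htU : (p a).Coprime (Nat.card (⁅P (a + 1), Subgroup.zpowers s⁆ : Subgroup Γ)) :=
    coprime_pgroup ((h.ch.grp _ (by omega)).to_le (commutator_normal_in (h.ch.aP _ (by omega))).1)
      (h.ch.prime _ (by omega))
      ((Nat.coprime_primes (h.ch.prime a (by omega)) (h.ch.prime _ (by omega))).2 (h.ch.ne a (by omega)))
  have hTp := (h.ch.grp a (by omega)).to_le (hT.trans inf_le_left)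
  rcases a with _ | b
  · by_cases h21 : p 1 = 2
    · exfalso
      exact h.not_still hj hlow hjn fun e he u hu y hy =>
        hA.still_odd (h.nice (a := 0) (i := 0) (by omega) hjn hT) (h.ch.prime 0 (by omega))
          (fun h0 => h.ch.ne 0 (by omega) (h0.trans h21.symm)) (h.rp (by omega)).symm htU hTp
          hfixT htriv he hu hy
    · exact h.st_fixed hj (j := 1) (l := 0) (by omega) h21 (by omega)
  -- the second kind of commutators
  obtain ⟨W, hW⟩ : ∃ W, W = (⁅P (b + 1 + 1), Subgroup.zpowers s⁆ ⊓ F (b + 1 + 1) ⊓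
      Subgroup.centralizer ({s} : Set Γ)) ⊓ R b (X ⊓ Subgroup.centralizer ({s} : Set Γ)) := ⟨_, rfl⟩
  have hWF : W ≤ F (b + 1 + 1) := hW ▸ inf_le_left.trans (inf_le_left.trans inf_le_right)
  have hWP : W ≤ P (b + 1 + 1) := hWF.trans (h.ch.leF _ (by omega))
  have hWs : W ≤ Subgroup.centralizer ({s} : Set Γ) := hW ▸ inf_le_left.trans inf_le_right
  by_cases hm2 : ⁅mov s P F (b + 1 + 1) 1 ⊓ Subgroup.centralizer ({s} : Set Γ), W⁆ ≤ F (b + 1 + 1 + 1)
  swap
  · refine h.st_comm hjn le_rfl hWP hWs ?_ (Or.inl fun e he u hu => ?_) ?_ hm2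
    · intro e he z _ hz
      rw [show e⁻¹ * z * e * z⁻¹ = ⁅z, e⁻¹⁆⁻¹ by rw [commutatorElement_def]; group]
      exact inv_mem (h.ch.cen _ (by omega)
        (Subgroup.commutator_mem_commutator hz (inv_mem (hWP he))))
    · rw [show u⁻¹ * (e⁻¹ * u * e) = u⁻¹ * e⁻¹ * u⁻¹⁻¹ * e⁻¹⁻¹ by group]
      exact h.ch.comm _ (by omega) _ (inv_mem (hWP he)) _
        (inv_mem ((commutator_normal_in (h.ch.aP _ (by omega))).1 hu))
    · have hWn : W ≤ Subgroup.normalizer ((mov s P F (b + 1 + 1) 1 ⊓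
          Subgroup.centralizer ({s} : Set Γ) : Subgroup Γ) : Set Γ) := fun e he =>
        mem_normalizer_inf (h.nn_mov (mem_Cs.1 (hWs he)) (hWP he) le_rfl (l := 1) (by omega)).1
          (Subgroup.le_normalizer (hWs he))
      haveI := h.nil (show b + 1 + 1 ≤ n + 2 by omega) hWP
      have hDP : mov s P F (b + 1 + 1) 1 ⊓ Subgroup.centralizer ({s} : Set Γ) ≤
          P (b + 1 + 1 + 1) ⊓ Subgroup.centralizer ({s} : Set Γ) :=
        inf_le_inf_right _ (h.mov_le (j := b + 1 + 1) 1 (by omega))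
      exact le_R_of_commutator (hW ▸ inf_le_right) ((commutator_normal_in hWn).1.trans
          (h.le_C (show b + 1 + 1 + 1 ≤ n + 2 by omega) hDP))
        (commutator_commutator_eq hWn (h.coNext (i := b + 1 + 1) (by omega) hWP (hDP.trans inf_le_left))
          (Or.inl inferInstance)) _ (by omega)
  exfalso
  obtain ⟨hT₂, hT₂R⟩ := h.cov_spec b (by omega)
  have hn : cov s P b ≤ Subgroup.normalizer
      ((P (b + 1) ⊓ Subgroup.centralizer ({s} : Set Γ) : Subgroup Γ) : Set Γ) := fun t ht =>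
    mem_normalizer_inf (h.ch.nP b (b + 1) (by omega) (by omega) (hT₂ ht).1)
      (Subgroup.le_normalizer (hT₂ ht).2)
  haveI := h.nil (show b ≤ n + 2 by omega) (hT₂.trans inf_le_left)
  have hgen : cov s P (b + 1) ≤ ⁅cov s P b, cov s P (b + 1)⁆ := by
    rw [Subgroup.commutator_comm]
    exact (commutator_commutator_eq hn (h.coNext (i := b) (by omega) (hT₂.trans inf_le_left)
      inf_le_left) (Or.inl inferInstance)).ge
  refine h.not_still hj hlow hjn fun e he u hu y hy =>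
    hA.still_group (h.nice (by omega) hjn hT) (h.ch.prime _ (by omega)) (h.rp (by omega)).symm htU hTp
      hfixT htriv (h.nice (i := b) (by omega) hjn hT₂) (fun t ht => mem_normalizer_commutator (hn ht)
        (Subgroup.le_normalizer ht)) hgen (fun y hy z hzU hzF hzs d hd hds => ?_) he hu hy
  refine hm2 (Subgroup.commutator_mem_commutator ⟨hd, mem_Cs.2 hds⟩ ?_)
  have hyn : y ∈ Subgroup.normalizer ((⁅P (b + 1 + 1), Subgroup.zpowers s⁆ ⊓ F (b + 1 + 1) ⊓
      Subgroup.centralizer ({s} : Set Γ) : Subgroup Γ) : Set Γ) :=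
    mem_normalizer_inf (mem_normalizer_inf (mem_normalizer_commutator
      (h.ch.nP b _ (by omega) (by omega) (hT₂ hy).1) (mem_normalizer_zpowers (mem_Cs.1 (hT₂ hy).2)))
      (h.ch.nF b _ (by omega) (by omega) (hT₂ hy).1)) (Subgroup.le_normalizer (hT₂ hy).2)
  have hzA : z ∈ ⁅P (b + 1 + 1), Subgroup.zpowers s⁆ ⊓ F (b + 1 + 1) ⊓
      Subgroup.centralizer ({s} : Set Γ) := ⟨⟨hzU, hzF⟩, mem_Cs.2 hzs⟩
  rw [hW]
  refine Subgroup.mem_inf.2 ⟨Subgroup.mul_mem _ (Subgroup.inv_mem _ hzA)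
    (conj_mem_of_mem_normalizer hyn hzA), ?_⟩
  have hzC : z ∈ X ⊓ Subgroup.centralizer ({s} : Set Γ) := ⟨h.ch.le _ (by omega)
    (h.ch.leF _ (show b + 1 + 1 + 0 ≤ n + 2 by omega) hzF), mem_Cs.2 hzs⟩
  have h1 := mul_mem (conj_mem_R (inv_mem hzC) (hT₂R hy)) (inv_mem (hT₂R hy))
  rwa [show z⁻¹ * y * z⁻¹⁻¹ * y⁻¹ = z⁻¹ * (y * z * y⁻¹) by group] at h1

end Clb

end Cfsg.Agent.Solv.FHeight
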