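import Cfsg.Agent.Lib.Solv.FHeight.Irred

/-!
A fixed-point-free automorphism of prime order on a twisted group algebra: the eigenvalues of the
operator realising it, and automorphisms commuting with it that centralise its fixed vectors.
-/

set_option autoImplicit false
set_option linter.unusedSectionVars false
set_option linter.style.haveILetI false

namespace Cfsg.Agent.Solv.FHeight

open Module

variable {k : Type*} [Field k] {M : Type*} [AddCommGroup M] [Module k M] {U : Type*} [Group U]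
  [Fintype U]

namespace Nd

variable {ρ : U →* Module.End k M} {Z : Subgroup U}

theorem mem_of_rho_eq_one [Nontrivial M] (h : Nd ρ Z) {u : U} (hu : ρ u = 1) : u ∈ Z := by
  by_contra hne
  obtain ⟨v, c, hc, hv⟩ := h.nd _ hne
  rw [map_mul, map_mul, hu, mul_one, ← map_mul, mul_inv_cancel, map_one] at hv
  have h2 : (c - 1) • (1 : Module.End k M) = 0 := by rw [sub_smul, ← hv, one_smul, sub_self]
  exact hc (sub_eq_zero.1 ((smul_eq_zero.1 h2).resolve_right one_ne_zero))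

end Nd

section Free

variable {Z : Subgroup U}

theorem fix_pow (φ : MulAut U) (hmem : ∀ u, φ u ∈ Z ↔ u ∈ Z) {u : U} (hu : u⁻¹ * φ u ∈ Z) :
    ∀ n, u⁻¹ * (φ ^ n) u ∈ Z
  | 0 => by simp
  | n + 1 => by
    have h1 := mul_mem hu ((hmem _).2 (fix_pow φ hmem hu n))
    rwa [map_mul, map_inv, mul_assoc, mul_inv_cancel_left, ← MulAut.mul_apply, ← pow_succ'] at h1

theorem mem_pow_iff (φ : MulAut U) (hmem : ∀ u, φ u ∈ Z ↔ u ∈ Z) : ∀ n u, (φ ^ n) u ∈ Z ↔ u ∈ Z
  | 0, _ => Iff.rfl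
  | n + 1, u => by rw [pow_succ', MulAut.mul_apply, hmem, mem_pow_iff φ hmem n u]

/-- Freeness for all powers from freeness at one, for a prime period. -/
theorem free_of_prime (φ : MulAut U) {t : ℕ} (ht : t.Prime) (hmem : ∀ u, φ u ∈ Z ↔ u ∈ Z)
    (hper : ∀ u, u⁻¹ * (φ ^ t) u ∈ Z) (hfree : ∀ u, u⁻¹ * φ u ∈ Z → u ∈ Z) (i : ℕ) (hi : ¬ t ∣ i)
    (u : U) (hu : u⁻¹ * (φ ^ i) u ∈ Z) : u ∈ Z := by
  obtain ⟨l, -, hl⟩ := Nat.exists_mul_mod_eq_one_of_coprime
    ((Nat.Prime.coprime_iff_not_dvd ht).2 hi).symm ht.one_lt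
  have h1 : u⁻¹ * (φ ^ (i * l)) u ∈ Z := by
    rw [pow_mul]
    exact fix_pow _ (mem_pow_iff φ hmem i) hu l
  have h2 : (φ u)⁻¹ * (φ ^ (i * l)) u ∈ Z := by
    have hq : ∀ q, (φ u)⁻¹ * (φ ^ (t * q)) (φ u) ∈ Z := fun q => by
      rw [pow_mul]
      exact fix_pow _ (mem_pow_iff φ hmem t) (hper (φ u)) q
    have h3 := hq (i * l / t)
    rwa [← MulAut.mul_apply, ← pow_succ, add_comm, ← hl, Nat.mod_add_div] at h3
  refine hfree u ?_
  have h3 := mul_mem h1 (inv_mem h2)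
  rwa [mul_inv_rev, inv_inv, mul_assoc, mul_inv_cancel_left] at h3

end Free

/-- A fixed-point-free automorphism `σ` of prime order `r` of `U ⧸ Z`, realised by `S`. -/
structure Act (ρ : U →* Module.End k M) (Z : Subgroup U) (σ : MulAut U) (S : Module.End k M)
    (r : ℕ) : Prop where
  toNd : Nd ρ Z
  prime : r.Prime
  rk : (r : k) ≠ 0
  fix : ∀ z ∈ Z, ρ (σ z) = ρ z
  mem : ∀ u, σ u ∈ Z ↔ u ∈ Z
  free : ∀ u, u⁻¹ * σ u ∈ Z → u ∈ Z
  pow : σ ^ r = 1
  Spow : S ^ r = 1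
  Scomm : ∀ v, S * ρ v = ρ (σ v) * S

namespace Act

variable {ρ : U →* Module.End k M} {Z : Subgroup U} {σ : MulAut U} {S : Module.End k M} {r : ℕ}

theorem free_pow (h : Act ρ Z σ S r) (i : ℕ) (hi : ¬ r ∣ i) (u : U)
    (hu : u⁻¹ * (σ ^ i) u ∈ Z) : u ∈ Z :=
  free_of_prime σ h.prime h.mem (fun v => by simp [h.pow]) h.free i hi u hu

/-- The intertwiner realising `σ`. -/
theorem exists_X [IsAlgClosed k] [Nontrivial M] (h : Act ρ Z σ S r) :
    ∃ X ∈ alg ρ, X ^ r = 1 ∧ (∀ v, X * ρ (σ v) = ρ v * X) ∧ S * X = X * S ∧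
      (X * S) ^ r = 1 ∧ (∀ a ∈ alg ρ, X * S * a = a * (X * S)) ∧
      ∀ (E : Module.End k M) (e : MulAut U), (∀ v, E * ρ v = ρ (e v) * E) → e * σ = σ * e →
        E * X = X * E := by
  obtain ⟨X, hXm, hX, hXc, hXe⟩ := h.toNd.exists_intertwiner σ h.prime.pos h.fix h.free
    (fun u => by rw [h.pow]; rfl)
  have hSX : S * X = X * S := hXe S σ h.Scomm rfl
  refine ⟨X, hXm, hX, hXc, hSX, ?_, fun a ha => ?_, hXe⟩
  · rw [(show Commute X S from hSX.symm).mul_pow, hX, h.Spow, one_mul]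
  · induction ha using Submodule.span_induction with
    | mem x hx =>
      obtain ⟨u, rfl⟩ := hx
      rw [mul_assoc, h.Scomm, ← mul_assoc, hXc, mul_assoc]
    | zero => simp
    | add x y _ _ h1 h2 => rw [mul_add, add_mul, h1, h2]
    | smul c x _ h1 => rw [mul_smul_comm, smul_mul_assoc, h1]

end Act

/-- An element commuting with an operator with `b ^ n = 1` has an eigenvalue that is a root of unity. -/
theorem exists_eigen_root [IsAlgClosed k] [FiniteDimensional k M] [Nontrivial M]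
    {b : Module.End k M} {n : ℕ} (hn : 0 < n) (hb : b ^ n = 1) {ζ : k} (hζ : IsPrimitiveRoot ζ n) :
    ∃ j : Fin n, Module.End.eigenspace b (ζ ^ (j : ℕ)) ≠ ⊥ := by
  obtain ⟨ν, hν⟩ := Module.End.exists_eigenvalue b
  obtain ⟨v, hv⟩ := Module.End.HasEigenvalue.exists_hasEigenvector hν
  have hp : ∀ m, (b ^ m) v = ν ^ m • v := by
    intro m
    induction m with
    | zero => simp
    | succ m ih => rw [pow_succ', Module.End.mul_apply, ih, map_smul, hv.apply_eq_smul, smul_smul,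
        ← pow_succ]
  have h1 : ν ^ n = 1 := by
    have := hp n
    rw [hb, Module.End.one_apply] at this
    exact (smul_left_injective k hv.2 (this.symm.trans (one_smul k v).symm))
  haveI : NeZero n := ⟨hn.ne'⟩
  obtain ⟨i, hi, rfl⟩ := hζ.eq_pow_of_pow_eq_one h1
  exact ⟨⟨i, hi⟩, hν⟩

theorem exists_primitive [IsAlgClosed k] {n : ℕ} (hn : (n : k) ≠ 0) :
    ∃ ζ : k, IsPrimitiveRoot ζ n := by
  haveI : NeZero (n : k) := ⟨hn⟩
  exact HasEnoughRootsOfUnity.exists_primitiveRoot k n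

theorem eigenspace_restrict {W : Submodule k M} {f : Module.End k M} {hf : ∀ w ∈ W, f w ∈ W}
    {c : k} {w : W} :
    w ∈ Module.End.eigenspace (f.restrict hf) c ↔ (w : M) ∈ Module.End.eigenspace f c := by
  simp only [Module.End.mem_eigenspace_iff]
  exact ⟨fun h => congrArg Subtype.val h, fun h => Subtype.ext h⟩

theorem pow_restrict {W : Submodule k M} {f : Module.End k M} (hf : ∀ w ∈ W, f w ∈ W) (n : ℕ)
    (w : W) : (((f.restrict hf) ^ n) w : M) = (f ^ n) w := by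
  induction n with
  | zero => rfl
  | succ n ih => rw [pow_succ', pow_succ', Module.End.mul_apply, Module.End.mul_apply, ← ih]; rfl

namespace Act

variable [IsAlgClosed k] [FiniteDimensional k M] [Nontrivial M]
  {ρ : U →* Module.End k M} {Z : Subgroup U} {σ : MulAut U} {S : Module.End k M} {r : ℕ}

/-- An irreducible block on which `S` is a multiple of the inverse intertwiner. -/
theorem exists_block (h : Act ρ Z σ S r) {X : Module.End k M} {ζ : k} (hζ : IsPrimitiveRoot ζ r)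
    (hb : (X * S) ^ r = 1) (hbc : ∀ a ∈ alg ρ, X * S * a = a * (X * S)) :
    ∃ (j₀ : Fin r) (F : Submodule k M) (hF : Inv ρ F), F ≠ ⊥ ∧ alg (restr ρ hF) = ⊤ ∧
      ∀ w ∈ F, X (S w) = ζ ^ (j₀ : ℕ) • w := by
  obtain ⟨j₀, hj⟩ := exists_eigen_root h.prime.pos hb hζ
  have hinv : Inv ρ (Module.End.eigenspace (X * S) (ζ ^ (j₀ : ℕ))) := fun v w hw => by
    rw [Module.End.mem_eigenspace_iff] at hw ⊢
    rw [← Module.End.mul_apply, hbc _ (rho_mem_alg ρ v), Module.End.mul_apply, hw, map_smul]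
  obtain ⟨F, hFW, hF0, hF, hmin⟩ := exists_irred ρ hinv hj
  exact ⟨j₀, F, hF, hF0, restr_top ρ hF hF0 hmin,
    fun w hw => Module.End.mem_eigenspace_iff.1 (hFW hw)⟩

/-- Multiplicities of the intertwiner on an irreducible block. -/
theorem block_counts (h : Act ρ Z σ S r) {X : Module.End k M} (hXm : X ∈ alg ρ) (hX : X ^ r = 1)
    (hXc : ∀ v, X * ρ (σ v) = ρ v * X) {ζ : k} (hζ : IsPrimitiveRoot ζ r) {F : Submodule k M}
    (hF : Inv ρ F) (hF0 : F ≠ ⊥) (htop : alg (restr ρ hF) = ⊤) :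
    ∃ (m : Fin r → ℕ) (o : ℕ), ∑ j, m j = finrank k F ∧ ∑ j, m j ^ 2 = o + 1 ∧
      finrank k F * finrank k F = r * o + 1 ∧
      Nat.card (U ⧸ Z) = finrank k F * finrank k F ∧
      ∀ j, m j = finrank k (Module.End.eigenspace
        (X.restrict (fun w hw => alg_apply_mem hF hXm hw) : Module.End k F) (ζ ^ (j : ℕ))) := by
  haveI := (Submodule.nontrivial_iff_ne_bot (p := F)).2 hF0
  obtain ⟨m, c, o, o', h1, -, -, h4, h5, h6, -, -, h8, -⟩ := (h.toNd.restrict hF).counts htop σ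
    (r := r) (t := 1) h.prime.pos one_pos h.rk
    (fun z hz => LinearMap.ext fun w => Subtype.ext (by rw [coe_restr, coe_restr, h.fix z hz]))
    h.mem
    (fun i hi hir u hu => h.free_pow i (fun hd => absurd (Nat.le_of_dvd hi hd) (by omega)) u hu)
    (fun u => by rw [mul_one, h.pow]; rfl) (fun u => by rw [pow_one, h.pow]; rfl)
    (X := X.restrict fun w hw => alg_apply_mem hF hXm hw)
    (LinearMap.ext fun w => Subtype.ext (by rw [pow_restrict, mul_one, hX]; rfl))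
    (fun v => LinearMap.ext fun w => Subtype.ext (DFunLike.congr_fun (hXc v) (w : M)))
    (ζ := ζ) hζ
  refine ⟨m, o', h1, h4, h5, h6, fun j => ?_⟩
  rw [h8 j, pow_one]

theorem eq_one_of_card (h : Act ρ Z σ S r) (hc : Nat.card (U ⧸ Z) = 1) : Z = ⊤ :=
  Subgroup.index_eq_one.1 hc

/-- With odd index there is always a fixed vector. -/
theorem exists_fixed (h : Act ρ Z σ S r) (hodd : Odd (Nat.card (U ⧸ Z)))
    (hfix : ∀ v, S v = v → v = 0) : Z = ⊤ := by
  obtain ⟨X, hXm, hX, hXc, hSX, hb, hbc, -⟩ := h.exists_X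
  obtain ⟨ζ, hζ⟩ := exists_primitive (k := k) h.rk
  obtain ⟨j₀, F, hF, hF0, htop, hFb⟩ := h.exists_block hζ hb hbc
  obtain ⟨m, o, hd, ho, hdo, hcard, hm⟩ := h.block_counts hXm hX hXc hζ hF hF0 htop
  have hm0 : m j₀ = 0 := by
    rw [hm, Submodule.finrank_eq_zero, eq_bot_iff]
    intro w hw
    rw [eigenspace_restrict, Module.End.mem_eigenspace_iff] at hw
    have h1 : X (S (w : M)) = X (w : M) := (hFb _ w.2).trans hw.symm
    have hinj : ∀ y, (X ^ (r - 1)) (X y) = y := fun y => by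
      rw [← Module.End.mul_apply, ← pow_succ, Nat.sub_add_cancel h.prime.one_le, hX,
        Module.End.one_apply]
    exact (Submodule.mem_bot k).2 (Subtype.ext (hfix _ (by rw [← hinj (S w), h1, hinj])))
  refine h.eq_one_of_card ?_
  rw [hcard]
  rcases of_missing h.prime m j₀ hm0 hd ho hdo with h1 | h1
  · rw [h1]
  · rw [hcard, Nat.odd_mul] at hodd
    have hr2 : r = 2 := (h.prime.eq_one_or_self_of_dvd 2 (by
      rw [← h1]; exact even_iff_two_dvd.1 (Odd.add_one hodd.1))).resolve_left (by norm_num) |>.symm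
    have : finrank k F = 1 := by omega
    rw [this]

/-- Without fixed vectors the index is `(r - 1) ^ 2`. -/
theorem card_of_no_fixed (h : Act ρ Z σ S r) (hfix : ∀ v, S v = v → v = 0) :
    Z = ⊤ ∨ ∃ d, d + 1 = r ∧ Nat.card (U ⧸ Z) = d * d := by
  obtain ⟨X, hXm, hX, hXc, hSX, hb, hbc, -⟩ := h.exists_X
  obtain ⟨ζ, hζ⟩ := exists_primitive (k := k) h.rk
  obtain ⟨j₀, F, hF, hF0, htop, hFb⟩ := h.exists_block hζ hb hbc
  obtain ⟨m, o, hd, ho, hdo, hcard, hm⟩ := h.block_counts hXm hX hXc hζ hF hF0 htop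
  have hm0 : m j₀ = 0 := by
    rw [hm, Submodule.finrank_eq_zero, eq_bot_iff]
    intro w hw
    rw [eigenspace_restrict, Module.End.mem_eigenspace_iff] at hw
    have h1 : X (S (w : M)) = X (w : M) := (hFb _ w.2).trans hw.symm
    have hinj : ∀ y, (X ^ (r - 1)) (X y) = y := fun y => by
      rw [← Module.End.mul_apply, ← pow_succ, Nat.sub_add_cancel h.prime.one_le, hX,
        Module.End.one_apply]
    exact (Submodule.mem_bot k).2 (Subtype.ext (hfix _ (by rw [← hinj (S w), h1, hinj])))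
  rcases of_missing h.prime m j₀ hm0 hd ho hdo with h1 | h1
  · exact Or.inl (h.eq_one_of_card (by rw [hcard, h1]))
  · exact Or.inr ⟨_, h1, hcard⟩

/-- The fixed-point multiplicity cannot be the only repeated one. -/
theorem no_mult_one (h : Act ρ Z σ S r) (hr2 : r ≠ 2) (hodd : Odd (Nat.card (U ⧸ Z)))
    (hZ : Z ≠ ⊤) (hmult : ∀ μ : k, μ ≠ 1 → finrank k (Module.End.eigenspace S μ) ≤ 1) : False := by
  obtain ⟨X, hXm, hX, hXc, hSX, hb, hbc, -⟩ := h.exists_X
  obtain ⟨ζ, hζ⟩ := exists_primitive (k := k) h.rk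
  obtain ⟨j₀, F, hF, hF0, htop, hFb⟩ := h.exists_block hζ hb hbc
  obtain ⟨m, o, hd, ho, hdo, hcard, hm⟩ := h.block_counts hXm hX hXc hζ hF hF0 htop
  rw [hcard, Nat.odd_mul] at hodd
  have hu : ∀ i, ζ ^ i ≠ 0 := fun i => pow_ne_zero _ (hζ.ne_zero h.prime.ne_zero)
  have hne1 : finrank k F ≠ 1 := fun h1 => hZ (h.eq_one_of_card (by rw [hcard, h1]))
  have heven : finrank k F + 1 ≠ r := fun h1 => hr2 ((h.prime.eq_one_or_self_of_dvd 2 (by
    rw [← h1]; exact even_iff_two_dvd.1 (Odd.add_one hodd.1))).resolve_left (by norm_num)).symm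
  have hpos : ∀ j, m j ≠ 0 := fun j hj =>
    (of_missing h.prime m j hj hd ho hdo).elim hne1 heven
  have hinj : ∀ y, (X ^ (r - 1)) (X y) = y := fun y => by
    rw [← Module.End.mul_apply, ← pow_succ, Nat.sub_add_cancel h.prime.one_le, hX,
      Module.End.one_apply]
  have hone : ∀ j, j ≠ j₀ → m j = 1 := by
    intro j hj
    refine le_antisymm ?_ (Nat.one_le_iff_ne_zero.2 (hpos j))
    set μ := ζ ^ (j₀ : ℕ) * (ζ ^ (j : ℕ))⁻¹ with hμ
    have hμ1 : μ ≠ 1 := fun h1 => hj (Fin.ext (hζ.pow_inj j₀.2 j.2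
      ((mul_inv_eq_one₀ (hu _)).1 h1)).symm)
    rw [hm]
    refine le_trans ?_ (hmult μ hμ1)
    let E := Module.End.eigenspace
      (X.restrict (fun w hw => alg_apply_mem hF hXm hw) : Module.End k F) (ζ ^ (j : ℕ))
    have hsub : ∀ w : E, ((w : F) : M) ∈ Module.End.eigenspace S μ := fun w => by
      have h1 := hFb _ (w : F).2
      have h2 := Module.End.mem_eigenspace_iff.1 (eigenspace_restrict.1 w.2)
      rw [Module.End.mem_eigenspace_iff]
      rw [← hinj (S _), h1, hμ, map_smul, mul_smul]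
      congr 1
      conv_rhs => rw [← hinj ((w : F) : M), h2, map_smul, smul_smul, inv_mul_cancel₀ (hu _), one_smul]
    exact LinearMap.finrank_le_finrank_of_injective
      (f := LinearMap.codRestrict (Module.End.eigenspace S μ) (F.subtype.comp E.subtype) hsub)
      (fun a b hab => by
        have := congrArg Subtype.val hab
        exact Subtype.ext (Subtype.ext this))
  have hsum : ∀ f : ℕ → ℕ, ∑ j, f (m j) = f (m j₀) + (r - 1) * f 1 := fun f => by
    rw [← Finset.add_sum_erase _ _ (Finset.mem_univ j₀),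
      Finset.sum_congr rfl (fun j hj => by rw [hone j (Finset.ne_of_mem_erase hj)] :
        ∀ j ∈ Finset.univ.erase j₀, f (m j) = f 1),
      Finset.sum_const, Finset.card_erase_of_mem (Finset.mem_univ _), Finset.card_univ,
      Fintype.card_fin, smul_eq_mul]
  have hd' := hsum id
  simp only [id, hd, mul_one] at hd'
  have ho' := hsum (· ^ 2)
  simp only [ho, one_pow, mul_one] at ho'
  rcases of_mult_one h.prime (c := m j₀) (o := o) hd' ho'.symm hdo with h1 | h1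
  · exact hpos j₀ h1
  · obtain ⟨q, hq⟩ := hodd.1
    obtain ⟨i, hi⟩ := h.prime.odd_of_ne_two hr2
    omega

/-- The intertwiner of the product with a commuting free automorphism of prime order. -/
theorem exists_psi (h : Act ρ Z σ S r) {e : MulAut U} {E : Module.End k M} {t : ℕ}
    (ht : 2 ≤ t) (hcop : r.Coprime t) (hefix : ∀ z ∈ Z, ρ (e z) = ρ z)
    (hemem : ∀ u, e u ∈ Z ↔ u ∈ Z)
    (hefree : ∀ i, ¬ t ∣ i → ∀ u, u⁻¹ * (e ^ i) u ∈ Z → u ∈ Z)
    (het : ∀ u, ρ ((e ^ t) u) = ρ u) (hec : e * σ = σ * e) (hE : ∀ v, E * ρ v = ρ (e v) * E)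
    (hES : E * S = S * E) :
    ∃ (ψ : MulAut U) (X : Module.End k M), (∀ z ∈ Z, ρ (ψ z) = ρ z) ∧ (∀ u, ψ u ∈ Z ↔ u ∈ Z) ∧
      (∀ i, 0 < i → i < r * t → ∀ u, u⁻¹ * (ψ ^ i) u ∈ Z → u ∈ Z) ∧
      (∀ u, ρ ((ψ ^ (r * t)) u) = ρ u) ∧ X ∈ alg ρ ∧ X ^ (r * t) = 1 ∧
      (∀ v, X * ρ (ψ v) = ρ v * X) ∧ (∀ v, X ^ t * ρ ((σ ^ t) v) = ρ v * X ^ t) ∧
      (∀ a ∈ alg ρ, X ^ t * S ^ t * a = a * (X ^ t * S ^ t)) ∧ (X ^ t * S ^ t) ^ r = 1 ∧
      S * X = X * S ∧ ∀ a ∈ alg ρ, X * (E * S) * a = a * (X * (E * S)) := by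
  have hcomm : Commute e σ := hec
  obtain ⟨ψ, hψ⟩ : ∃ ψ, ψ = e * σ := ⟨_, rfl⟩
  have hψfix : ∀ z ∈ Z, ρ (ψ z) = ρ z := fun z hz => by
    rw [hψ, MulAut.mul_apply, hefix _ ((h.mem z).2 hz), h.fix z hz]
  have hψmem : ∀ u, ψ u ∈ Z ↔ u ∈ Z := fun u => by rw [hψ, MulAut.mul_apply, hemem, h.mem]
  have hepow : ∀ q u, ρ ((e ^ (t * q)) u) = ρ u := by
    intro q
    induction q with
    | zero => intro u; simp
    | succ q ih => intro u; rw [Nat.mul_succ, pow_add, MulAut.mul_apply, ih, het]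
  have hσr : ∀ q, σ ^ (r * q) = 1 := fun q => by rw [pow_mul, h.pow, one_pow]
  have hψN : ∀ u, ρ ((ψ ^ (r * t)) u) = ρ u := fun u => by
    rw [hψ, hcomm.mul_pow, hσr, mul_one, mul_comm r t, hepow]
  have heper : ∀ u, u⁻¹ * (e ^ t) u ∈ Z := fun u => h.toNd.mem_of_rho_eq_one (by
    rw [map_mul, het, ← map_mul, inv_mul_cancel, map_one])
  have hψfree : ∀ i, 0 < i → i < r * t → ∀ u, u⁻¹ * (ψ ^ i) u ∈ Z → u ∈ Z := by
    intro i hi hiN u hu
    rw [hψ, hcomm.mul_pow] at hu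
    by_cases hti : t ∣ i
    · refine h.free_pow i (fun hri => absurd (Nat.le_of_dvd hi (hcop.mul_dvd_of_dvd_of_dvd hri hti))
        (by omega)) u ?_
      rw [MulAut.mul_apply] at hu
      obtain ⟨q, rfl⟩ := hti
      have h2 : ((σ ^ (t * q)) u)⁻¹ * (e ^ (t * q)) ((σ ^ (t * q)) u) ∈ Z :=
        h.toNd.mem_of_rho_eq_one (by rw [map_mul, hepow, ← map_mul, inv_mul_cancel, map_one])
      have h3 := mul_mem hu (inv_mem h2)
      rwa [mul_inv_rev, inv_inv, mul_assoc, mul_inv_cancel_left] at h3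
    · refine hefree (i * r) ?_ u ?_
      · exact fun hd => hti (hcop.symm.dvd_of_dvd_mul_right hd)
      · have h2 := fix_pow ((e ^ i) * (σ ^ i)) (fun w => by
          rw [MulAut.mul_apply, mem_pow_iff e hemem, mem_pow_iff σ h.mem]) hu r
        rwa [(hcomm.pow_pow i i).mul_pow, ← pow_mul, ← pow_mul, mul_comm i r, hσr, mul_one,
          mul_comm r i] at h2
  obtain ⟨X, hXm, hX, hXc, hXe⟩ := h.toNd.exists_intertwiner ψ (Nat.mul_pos h.prime.pos (Nat.lt_of_lt_of_le two_pos ht))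
    hψfix (fun u hu => hψfree 1 one_pos (lt_of_lt_of_le h.prime.one_lt (Nat.le_mul_of_pos_right r (Nat.lt_of_lt_of_le two_pos ht)))
      u (by rwa [pow_one])) hψN
  have hXS : S * X = X * S := hXe S σ h.Scomm (by rw [hψ, ← mul_assoc, ← hec, mul_assoc])
  have hXE : E * X = X * E := hXe E e hE (by rw [hψ, mul_assoc, ← hec])
  have hXt : ∀ n v, X ^ n * ρ ((ψ ^ n) v) = ρ v * X ^ n := by
    intro n
    induction n with
    | zero => intro v; simp
    | succ n ih =>
      intro v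
      rw [pow_succ, pow_succ' ψ, MulAut.mul_apply, mul_assoc, hXc, ← mul_assoc, ih, mul_assoc]
  have hSt : ∀ n v, S ^ n * ρ v = ρ ((σ ^ n) v) * S ^ n := by
    intro n
    induction n with
    | zero => intro v; simp
    | succ n ih =>
      intro v
      rw [pow_succ' S, mul_assoc, ih, ← mul_assoc, h.Scomm, mul_assoc, ← MulAut.mul_apply,
        ← pow_succ']
  -- `X ^ t * S ^ t` is central
  have hbc : ∀ a ∈ alg ρ, X ^ t * S ^ t * a = a * (X ^ t * S ^ t) := by
    intro a ha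
    induction ha using Submodule.span_induction with
    | mem x hx =>
      obtain ⟨v, rfl⟩ := hx
      have h1 : ρ ((σ ^ t) v) = ρ ((ψ ^ t) v) := by
        rw [hψ, hcomm.mul_pow, MulAut.mul_apply, het]
      rw [mul_assoc, hSt, ← mul_assoc, h1, hXt, mul_assoc]
    | zero => simp
    | add x y _ _ h1 h2 => rw [mul_add, add_mul, h1, h2]
    | smul c x _ h1 => rw [mul_smul_comm, smul_mul_assoc, h1]
  have hb : (X ^ t * S ^ t) ^ r = 1 := by
    rw [((show Commute X S from hXS.symm).pow_pow t t).mul_pow, ← pow_mul, mul_comm t r, hX, one_mul,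
      ← pow_mul, mul_comm, pow_mul, h.Spow, one_pow]
  have hfull : ∀ a ∈ alg ρ, X * (E * S) * a = a * (X * (E * S)) := by
    intro a ha
    induction ha using Submodule.span_induction with
    | mem x hx =>
      obtain ⟨v, rfl⟩ := hx
      have h1 : E * S * ρ v = ρ (ψ v) * (E * S) := by
        rw [mul_assoc, h.Scomm, ← mul_assoc, hE, mul_assoc, hψ, MulAut.mul_apply]
      rw [mul_assoc, h1, ← mul_assoc, hXc, mul_assoc]
    | zero => simp
    | add x y _ _ h1 h2 => rw [mul_add, add_mul, h1, h2]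
    | smul c x _ h1 => rw [mul_smul_comm, smul_mul_assoc, h1]
  refine ⟨ψ, X, hψfix, hψmem, hψfree, hψN, hXm, hX, hXc, fun v => ?_, hbc, hb, hXS, hfull⟩
  have h1 : ρ ((σ ^ t) v) = ρ ((ψ ^ t) v) := by
    rw [hψ, hcomm.mul_pow, MulAut.mul_apply, het]
  rw [h1, hXt]

/-- An automorphism centralising the fixed vectors. -/
theorem fixed_scalar (h : Act ρ Z σ S r) {e : MulAut U} {E : Module.End k M} {t : ℕ}
    (ht : 2 ≤ t) (hcop : r.Coprime t) (hefix : ∀ z ∈ Z, ρ (e z) = ρ z)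
    (hemem : ∀ u, e u ∈ Z ↔ u ∈ Z)
    (hefree : ∀ i, ¬ t ∣ i → ∀ u, u⁻¹ * (e ^ i) u ∈ Z → u ∈ Z)
    (het : ∀ u, ρ ((e ^ t) u) = ρ u) (hec : e * σ = σ * e) (hE : ∀ v, E * ρ v = ρ (e v) * E)
    (hES : E * S = S * E)
    (htriv : ∀ v, S v = v → E v = v) :
    Z = ⊤ ∨ (t = 2 ∧ (∃ d, d + 1 = 2 * r ∧ Nat.card (U ⧸ Z) = d * d) ∧ ∃ v, v ≠ 0 ∧ S v = v) := by
  obtain ⟨ψ, X, hψfix, hψmem, hψfree, hψN, hXm, hX, hXc, -, hbc, hb, hXS, hfull⟩ :=
    h.exists_psi ht hcop hefix hemem hefree het hec hE hES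
  obtain ⟨ζ, hζr⟩ := exists_primitive (k := k) h.rk
  obtain ⟨j₀, hj⟩ := exists_eigen_root h.prime.pos hb hζr
  have hinv : Inv ρ (Module.End.eigenspace (X ^ t * S ^ t) (ζ ^ (j₀ : ℕ))) := fun v w hw => by
    rw [Module.End.mem_eigenspace_iff] at hw ⊢
    rw [← Module.End.mul_apply, hbc _ (rho_mem_alg ρ v), Module.End.mul_apply, hw, map_smul]
  obtain ⟨F, hFW, hF0, hF, hmin⟩ := exists_irred ρ hinv hj
  have htop := restr_top ρ hF hF0 hmin
  haveI := (Submodule.nontrivial_iff_ne_bot (p := F)).2 hF0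
  obtain ⟨XF, hXF⟩ : ∃ XF : Module.End k F, XF = X.restrict fun w hw => alg_apply_mem hF hXm hw :=
    ⟨_, rfl⟩
  obtain ⟨m, c, o, o', hd, ho, hdo, ho', hdo', hcard, h1c, h2c, hm, hscal, -⟩ :=
    (h.toNd.restrict hF).counts htop ψ h.prime.pos (Nat.lt_of_lt_of_le two_pos ht) h.rk
    (fun z hz => LinearMap.ext fun w => Subtype.ext (by rw [coe_restr, coe_restr, hψfix z hz]))
    hψmem hψfree (fun u => LinearMap.ext fun w => Subtype.ext (by rw [coe_restr, coe_restr, hψN]))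
    (fun u => LinearMap.ext fun w => Subtype.ext (by
      rw [coe_restr, coe_restr, ← pow_mul, mul_comm, hψN]))
    (X := XF) (LinearMap.ext fun w => Subtype.ext (by rw [hXF, pow_restrict, hX]; rfl))
    (fun v => LinearMap.ext fun w => Subtype.ext (by
      rw [hXF]; exact DFunLike.congr_fun (hXc v) (w : M))) hζr
  -- fixed vectors in the block
  obtain ⟨P, hP⟩ : ∃ P, P = Module.End.eigenspace (XF ^ t) (ζ ^ (j₀ : ℕ)) := ⟨_, rfl⟩
  have hPfix : ∀ w ∈ P, S (w : M) = (w : M) := by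
    intro w hw
    rw [hP, Module.End.mem_eigenspace_iff] at hw
    have h1 : (X ^ t) (w : M) = ζ ^ (j₀ : ℕ) • (w : M) := by
      have := congrArg Subtype.val hw
      rwa [hXF, pow_restrict, Submodule.coe_smul] at this
    have h2 : (X ^ t) ((S ^ t) (w : M)) = ζ ^ (j₀ : ℕ) • (w : M) :=
      Module.End.mem_eigenspace_iff.1 (hFW w.2)
    have hinj : ∀ y, (X ^ (t * (r - 1))) ((X ^ t) y) = y := fun y => by
      rw [← Module.End.mul_apply, ← pow_add, ← Nat.mul_succ, Nat.succ_eq_add_one,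
        Nat.sub_add_cancel h.prime.one_le, mul_comm, hX, Module.End.one_apply]
    have h3 : (S ^ t) (w : M) = (w : M) := by rw [← hinj ((S ^ t) _), h2, ← h1, hinj]
    obtain ⟨l, -, hl⟩ := Nat.exists_mul_mod_eq_one_of_coprime hcop.symm h.prime.one_lt
    have h4 : S = (S ^ t) ^ l := by
      rw [← pow_mul, ← Nat.mod_add_div (t * l) r, hl, pow_add, pow_mul, h.Spow, one_pow, mul_one,
        pow_one]
    have h5 : ∀ n, ((S ^ t) ^ n) (w : M) = (w : M) := by
      intro n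
      induction n with
      | zero => rfl
      | succ n ih => rw [pow_succ, Module.End.mul_apply, h3, ih]
    rw [h4]; exact h5 l
  -- the intertwiner is scalar there
  have hcommP : ∀ f : Module.End k P, ∀ p : P, XF ((f p : P) : F) ∈ P ∧
      ∀ q : P, (q : F) = XF (p : F) → XF ((f p : P) : F) = ((f q : P) : F) := by
    have hXP : ∀ p ∈ P, XF p ∈ P := by
      intro p hp
      rw [hP, Module.End.mem_eigenspace_iff] at hp ⊢
      rw [← Module.End.mul_apply, ← pow_succ, pow_succ', Module.End.mul_apply, hp, map_smul]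
    intro f p
    refine ⟨hXP _ (f p).2, fun q hq => ?_⟩
    obtain ⟨g, hg⟩ := LinearMap.exists_extend (P.subtype.comp f)
    obtain ⟨A, hAm, hA⟩ := exists_lift hF (a := g) (by rw [htop]; trivial)
    have hgP : ∀ x : P, g (x : F) = ((f x : P) : F) := fun x => DFunLike.congr_fun hg x
    have hES' : ∀ y : M, S y = y → (E * S) y = y := fun y hy => by
      rw [Module.End.mul_apply, hy, htriv y hy]
    have h1 := DFunLike.congr_fun (hfull A hAm) ((p : F) : M)
    rw [Module.End.mul_apply, Module.End.mul_apply, Module.End.mul_apply (f := A),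
      Module.End.mul_apply (f := X) (g := E * S), hES' _ (hPfix _ p.2), hA, hgP,
      hES' _ (hPfix _ (f p).2)] at h1
    refine Subtype.ext ?_
    rw [hXF]
    show X (((f p : P) : F) : M) = _
    rw [h1, ← hgP q, ← hA (q : F)]
    congr 1
    rw [hq, hXF]
    rfl
  have hconc : c j₀ = m j₀ ^ 2 := by
    rcases eq_or_ne P ⊥ with hb' | hb'
    · refine hscal j₀ 0 fun v hv => ?_
      rw [← hP, hb', Submodule.mem_bot] at hv
      rw [hv, map_zero, smul_zero]
    · obtain ⟨v₀, hv₀, hv₀0⟩ := (Submodule.ne_bot_iff _).1 hb'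
      obtain ⟨φ, hφ⟩ := Module.Projective.exists_dual_ne_zero k
        (x := (⟨v₀, hv₀⟩ : P)) (fun h0 => hv₀0 (congrArg Subtype.val h0))
      obtain ⟨hq, -⟩ := hcommP 1 ⟨v₀, hv₀⟩
      refine hscal j₀ ((φ ⟨v₀, hv₀⟩)⁻¹ * φ ⟨XF v₀, hq⟩) fun v hv => ?_
      have hvP : v ∈ P := hP ▸ hv
      have h1 := (hcommP (φ.smulRight ⟨v, hvP⟩) ⟨v₀, hv₀⟩).2 ⟨XF v₀, hq⟩ rfl
      simp only [LinearMap.smulRight_apply, Submodule.coe_smul, map_smul] at h1
      rw [mul_smul, ← h1, inv_smul_smul₀ hφ]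
  rcases of_scalar_block h.prime ht m c j₀ h1c h2c hconc hd ho hdo ho' hdo' with
    h1 | ⟨h1, h2, h3⟩
  · exact Or.inl (h.eq_one_of_card (by rw [hcard, h1]))
  · refine Or.inr ⟨h1, ⟨_, h2, hcard⟩, ?_⟩
    rw [hm, ← hP] at h3
    obtain ⟨w, hw, hw0⟩ := Submodule.ne_bot_iff _ |>.1 (show P ≠ ⊥ from fun hb => by
      rw [hb, finrank_bot] at h3; exact zero_ne_one h3)
    exact ⟨(w : M), fun h0 => hw0 (Subtype.ext h0), hPfix w hw⟩

end Act

end Cfsg.Agent.Solv.FHeight
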