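import Mathlib

/-!
Operators of finite order: eigenspace decomposition and the dimension of the centraliser.
-/

set_option autoImplicit false
set_option linter.unusedSectionVars false

namespace Cfsg.Agent.Solv.FHeight

variable {K : Type*} [Field K] {F : Type*} [AddCommGroup F] [Module K F]

/-- The projection onto the eigenspace of `ζ ^ i`. -/
noncomputable def eproj (X : Module.End K F) (ζ : K) (N i : ℕ) : Module.End K F :=
  (N : K)⁻¹ • ∑ l ∈ Finset.range N, ((ζ ^ i) ^ l)⁻¹ • X ^ l

/-- The submodule of endomorphisms commuting with `X`. -/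
def cent (X : Module.End K F) : Submodule K (Module.End K F) :=
  LinearMap.ker (LinearMap.mulLeft K X - LinearMap.mulRight K X)

theorem mem_cent {X a : Module.End K F} : a ∈ cent X ↔ X * a = a * X := by
  simp [cent, sub_eq_zero]

section
variable {X : Module.End K F} {ζ : K} {N : ℕ}

theorem mul_eproj (hX : X ^ N = 1) (hζ : IsPrimitiveRoot ζ N) (hN : N ≠ 0) (i : ℕ) :
    X * eproj X ζ N i = ζ ^ i • eproj X ζ N i := by
  have hu : ζ ^ i ≠ 0 := pow_ne_zero _ (hζ.ne_zero hN)
  have h1 : (ζ ^ i) ^ N = 1 := by rw [← pow_mul, mul_comm, pow_mul, hζ.pow_eq_one, one_pow]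
  rw [eproj, mul_smul_comm, smul_comm (ζ ^ i), Finset.mul_sum, Finset.smul_sum (r := ζ ^ i)]
  congr 1
  set g : ℕ → Module.End K F := fun l => ζ ^ i • ((ζ ^ i) ^ l)⁻¹ • X ^ l with hg
  have key : ∀ l, X * (((ζ ^ i) ^ l)⁻¹ • X ^ l) = g (l + 1) := fun l => by
    simp only [hg]
    rw [mul_smul_comm, ← pow_succ', smul_smul, pow_succ (ζ ^ i) l, mul_inv, mul_comm (ζ ^ i),
      mul_assoc, inv_mul_cancel₀ hu, mul_one]
  rw [Finset.sum_congr rfl fun l _ => key l]
  have h2 := Finset.sum_range_succ' g N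
  rw [Finset.sum_range_succ, show g N = g 0 by simp [hg, h1, hX]] at h2
  exact (add_right_cancel h2).symm

theorem sum_eproj (hζ : IsPrimitiveRoot ζ N) (hN : (N : K) ≠ 0) :
    ∑ i ∈ Finset.range N, eproj X ζ N i = 1 := by
  have hN0 : N ≠ 0 := fun h => hN (by simp [h])
  simp only [eproj]
  rw [← Finset.smul_sum, Finset.sum_comm]
  simp only [← Finset.sum_smul]
  rw [Finset.sum_eq_single_of_mem 0 (Finset.mem_range.2 (Nat.pos_of_ne_zero hN0))]
  · simp [← Nat.cast_smul_eq_nsmul K, smul_smul, inv_mul_cancel₀ hN]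
  · intro l hl hl0
    have hl' := Finset.mem_range.1 hl
    have hne : ((ζ ^ l)⁻¹ : K) ≠ 1 := fun h =>
      hl0 (Nat.eq_zero_of_dvd_of_lt (hζ.dvd_of_pow_eq_one l (inv_eq_one.1 h)) hl')
    have h1 : ∀ i, ((ζ ^ i) ^ l)⁻¹ = ((ζ ^ l)⁻¹) ^ i := fun i => by
      rw [inv_pow, ← pow_mul, ← pow_mul, mul_comm]
    rw [Finset.sum_congr rfl fun i _ => h1 i]
    rw [geom_sum_eq hne, inv_pow, ← pow_mul, mul_comm, pow_mul, hζ.pow_eq_one, one_pow, inv_one,
      sub_self, zero_div, zero_smul]

theorem eproj_apply_eigen (hζ : IsPrimitiveRoot ζ N) (hN : (N : K) ≠ 0) {i j : ℕ} (hi : i < N)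
    (hj : j < N) {v : F} (hv : X v = ζ ^ j • v) : eproj X ζ N i v = if i = j then v else 0 := by
  have hN0 : N ≠ 0 := fun h => hN (by simp [h])
  have hu : ∀ m, ζ ^ m ≠ 0 := fun m => pow_ne_zero _ (hζ.ne_zero hN0)
  have hp : ∀ l, (X ^ l) v = (ζ ^ j) ^ l • v := by
    intro l
    induction l with
    | zero => simp
    | succ l ih => rw [pow_succ', Module.End.mul_apply, ih, map_smul, hv, smul_smul, ← pow_succ]
  simp only [eproj, LinearMap.smul_apply, LinearMap.sum_apply]
  have h1 : ∀ l, ((ζ ^ i) ^ l)⁻¹ • (X ^ l) v = ((ζ ^ i)⁻¹ * ζ ^ j) ^ l • v := fun l => by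
    rw [hp, smul_smul, mul_pow, inv_pow]
  rw [Finset.sum_congr rfl fun l _ => h1 l, ← Finset.sum_smul, smul_smul]
  split_ifs with h
  · subst h; simp [inv_mul_cancel₀ (hu i), inv_mul_cancel₀ hN]
  · have hne : (ζ ^ i)⁻¹ * ζ ^ j ≠ 1 := fun h1 =>
      h (hζ.pow_inj hi hj ((inv_mul_eq_iff_eq_mul₀ (hu i)).1 h1 |>.trans (mul_one _)).symm)
    rw [geom_sum_eq hne, mul_pow, inv_pow, ← pow_mul, ← pow_mul, mul_comm i, mul_comm j,
      pow_mul, pow_mul, hζ.pow_eq_one, one_pow, one_pow, inv_one, mul_one, sub_self, zero_div,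
      mul_zero, zero_smul]

theorem eproj_mem (hX : X ^ N = 1) (hζ : IsPrimitiveRoot ζ N) (hN : N ≠ 0) (i : ℕ) (v : F) :
    eproj X ζ N i v ∈ Module.End.eigenspace X (ζ ^ i) :=
  Module.End.mem_eigenspace_iff.2 (DFunLike.congr_fun (mul_eproj hX hζ hN i) v)

/-- The map to the eigenspaces. -/
noncomputable def decTo (hX : X ^ N = 1) (hζ : IsPrimitiveRoot ζ N) (hN : (N : K) ≠ 0) :
    F →ₗ[K] (i : Fin N) → Module.End.eigenspace X (ζ ^ (i : ℕ)) :=
  LinearMap.pi fun i : Fin N => LinearMap.codRestrict _ (eproj X ζ N i)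
    (eproj_mem hX hζ (fun h => hN (by simp [h])) i)

theorem coe_decTo (hX : X ^ N = 1) (hζ : IsPrimitiveRoot ζ N) (hN : (N : K) ≠ 0) (v : F)
    (i : Fin N) : ((decTo hX hζ hN v i : _) : F) = eproj X ζ N i v := rfl

theorem sum_decTo (hX : X ^ N = 1) (hζ : IsPrimitiveRoot ζ N) (hN : (N : K) ≠ 0) (v : F) :
    ∑ i : Fin N, ((decTo hX hζ hN v i : _) : F) = v := by
  simp only [coe_decTo]
  rw [Fin.sum_univ_eq_sum_range (fun i => eproj X ζ N i v), ← LinearMap.sum_apply,
    sum_eproj hζ hN, Module.End.one_apply]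

theorem eproj_sum (hζ : IsPrimitiveRoot ζ N) (hN : (N : K) ≠ 0)
    (f : (i : Fin N) → Module.End.eigenspace X (ζ ^ (i : ℕ))) (i : Fin N) :
    eproj X ζ N i (∑ j : Fin N, (f j : F)) = (f i : F) := by
  rw [map_sum, Finset.sum_eq_single i (fun j _ hj => ?_) (fun h => absurd (Finset.mem_univ i) h)]
  · rw [eproj_apply_eigen hζ hN i.2 i.2 (Module.End.mem_eigenspace_iff.1 (f i).2), if_pos rfl]
  · rw [eproj_apply_eigen hζ hN i.2 j.2 (Module.End.mem_eigenspace_iff.1 (f j).2),
      if_neg fun h => hj (Fin.ext h).symm]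

theorem decTo_bijective (hX : X ^ N = 1) (hζ : IsPrimitiveRoot ζ N) (hN : (N : K) ≠ 0) :
    Function.Bijective (decTo hX hζ hN) := by
  refine ⟨fun v w h => ?_, fun f => ⟨∑ j : Fin N, (f j : F), funext fun i => Subtype.ext ?_⟩⟩
  · rw [← sum_decTo hX hζ hN v, h, sum_decTo]
  · rw [coe_decTo]; exact eproj_sum hζ hN f i

theorem finrank_eq_sum [FiniteDimensional K F] (hX : X ^ N = 1) (hζ : IsPrimitiveRoot ζ N)
    (hN : (N : K) ≠ 0) :
    Module.finrank K F = ∑ i : Fin N, Module.finrank K (Module.End.eigenspace X (ζ ^ (i : ℕ))) := by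
  rw [(LinearEquiv.ofBijective _ (decTo_bijective hX hζ hN)).finrank_eq, Module.finrank_pi_fintype]

theorem cent_apply_mem {a : Module.End K F} (ha : a ∈ cent X) {c : K} {v : F}
    (hv : v ∈ Module.End.eigenspace X c) : a v ∈ Module.End.eigenspace X c := by
  rw [Module.End.mem_eigenspace_iff] at hv ⊢
  rw [← Module.End.mul_apply, mem_cent.1 ha, Module.End.mul_apply, hv, map_smul]

/-- Restriction of the centraliser to the eigenspaces. -/
noncomputable def centTo (X : Module.End K F) (ζ : K) (N : ℕ) :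
    cent X →ₗ[K] (i : Fin N) → Module.End K (Module.End.eigenspace X (ζ ^ (i : ℕ))) where
  toFun a i := (a : Module.End K F).restrict (fun _ hv => cent_apply_mem a.2 hv)
  map_add' _ _ := rfl
  map_smul' _ _ := rfl

theorem coe_centTo (a : cent X) (i : Fin N) (v : Module.End.eigenspace X (ζ ^ (i : ℕ))) :
    ((centTo X ζ N a i v : _) : F) = (a : Module.End K F) v := rfl

theorem finrank_cent [FiniteDimensional K F] (hX : X ^ N = 1) (hζ : IsPrimitiveRoot ζ N)
    (hN : (N : K) ≠ 0) :
    Module.finrank K (cent X) =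
      ∑ i : Fin N, (Module.finrank K (Module.End.eigenspace X (ζ ^ (i : ℕ)))) ^ 2 := by
  have hN0 : N ≠ 0 := fun h => hN (by simp [h])
  have hbij : Function.Bijective (centTo X ζ N) := by
    refine ⟨fun a b h => Subtype.ext (LinearMap.ext fun v => ?_), fun f => ?_⟩
    · rw [← sum_decTo hX hζ hN v, map_sum, map_sum]
      exact Finset.sum_congr rfl fun i _ =>
        congrArg Subtype.val (DFunLike.congr_fun (congrFun h i) (decTo hX hζ hN v i))
    · obtain ⟨a, ha⟩ : ∃ a : Module.End K F, ∀ v, a v = ∑ i, (f i (decTo hX hζ hN v i) : F) :=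
        ⟨∑ i : Fin N, (Module.End.eigenspace X (ζ ^ (i : ℕ))).subtype ∘ₗ f i ∘ₗ LinearMap.proj i ∘ₗ
          decTo hX hζ hN, fun v => by rw [LinearMap.sum_apply]; rfl⟩
      have hXe : ∀ (i : Fin N) v, decTo hX hζ hN (X v) i = ζ ^ (i : ℕ) • decTo hX hζ hN v i := by
        intro i v
        refine Subtype.ext ?_
        rw [Submodule.coe_smul, coe_decTo, coe_decTo]
        have h1 : Commute X (eproj X ζ N i) :=
          Commute.smul_right (Commute.sum_right _ _ _ fun l _ =>
            Commute.smul_right ((Commute.refl X).pow_right l) _) _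
        rw [← Module.End.mul_apply, ← h1.eq]
        exact DFunLike.congr_fun (mul_eproj hX hζ hN0 i) v
      refine ⟨⟨a, mem_cent.2 (LinearMap.ext fun v => ?_)⟩, funext fun i => LinearMap.ext fun v =>
        Subtype.ext ?_⟩
      · rw [Module.End.mul_apply, Module.End.mul_apply, ha, ha, map_sum]
        refine Finset.sum_congr rfl fun i _ => ?_
        rw [hXe, map_smul, Submodule.coe_smul]
        exact Module.End.mem_eigenspace_iff.1 (f i (decTo hX hζ hN v i)).2
      · rw [coe_centTo, ha]
        have hv : ∀ j, decTo hX hζ hN (v : F) j =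
            Pi.single (M := fun j : Fin N => Module.End.eigenspace X (ζ ^ (j : ℕ))) i v j := fun j => Subtype.ext (by
          rw [coe_decTo, eproj_apply_eigen hζ hN j.2 i.2 (Module.End.mem_eigenspace_iff.1 v.2)]
          rcases eq_or_ne j i with rfl | hji
          · rw [if_pos rfl, Pi.single_eq_same]
          · rw [if_neg fun h => hji (Fin.ext h), Pi.single_eq_of_ne hji, Submodule.coe_zero])
        rw [Finset.sum_eq_single i (fun j _ hj => by
          rw [hv, Pi.single_eq_of_ne hj, map_zero, Submodule.coe_zero])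
          (fun h => absurd (Finset.mem_univ i) h), hv, Pi.single_eq_same]
  rw [(LinearEquiv.ofBijective _ hbij).finrank_eq, Module.finrank_pi_fintype]
  refine Finset.sum_congr rfl fun i _ => ?_
  show Module.finrank K (_ →ₗ[K] _) = _
  rw [Module.finrank_linearMap, sq]

/-- The centraliser of `X` decomposes along the eigenspaces of a power of `X`. -/
theorem finrank_cent_pow [FiniteDimensional K F] {Y : Module.End K F} {t : ℕ}
    (hX : (Y ^ t) ^ N = 1) (hζ : IsPrimitiveRoot ζ N) (hN : (N : K) ≠ 0)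
    (hmem : ∀ i : Fin N, ∀ v ∈ Module.End.eigenspace (Y ^ t) (ζ ^ (i : ℕ)),
      Y v ∈ Module.End.eigenspace (Y ^ t) (ζ ^ (i : ℕ))) :
    Module.finrank K (cent Y) =
      ∑ i : Fin N, Module.finrank K (cent (Y.restrict (hmem i))) := by
  have hsub : ∀ {a : Module.End K F}, a ∈ cent Y → a ∈ cent (Y ^ t) := fun {a} ha => by
    rw [mem_cent] at ha ⊢
    exact (show Commute Y a from ha).pow_left t
  let Φ : cent Y →ₗ[K] (i : Fin N) → cent (Y.restrict (hmem i)) :=
    { toFun := fun a i => ⟨centTo (Y ^ t) ζ N ⟨a.1, hsub a.2⟩ i, mem_cent.2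
        (LinearMap.ext fun v => Subtype.ext (DFunLike.congr_fun (mem_cent.1 a.2) (v : F)))⟩
      map_add' := fun a b => rfl
      map_smul' := fun c a => rfl }
  have hbij : Function.Bijective Φ := by
    refine ⟨fun a b h => Subtype.ext (LinearMap.ext fun v => ?_), fun f => ?_⟩
    · rw [← sum_decTo hX hζ hN v, map_sum, map_sum]
      exact Finset.sum_congr rfl fun i _ => congrArg Subtype.val
        (DFunLike.congr_fun (congrArg Subtype.val (congrFun h i)) (decTo hX hζ hN v i))
    · obtain ⟨a, ha⟩ : ∃ a : Module.End K F, ∀ v,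
          a v = ∑ i, (((f i).1 (decTo hX hζ hN v i) : _) : F) :=
        ⟨∑ i : Fin N, (Module.End.eigenspace (Y ^ t) (ζ ^ (i : ℕ))).subtype ∘ₗ (f i).1 ∘ₗ
          LinearMap.proj i ∘ₗ decTo hX hζ hN, fun v => by rw [LinearMap.sum_apply]; rfl⟩
      have hYe : ∀ (i : Fin N) v, decTo hX hζ hN (Y v) i = Y.restrict (hmem i) (decTo hX hζ hN v i) := by
        intro i v
        refine Subtype.ext ?_
        rw [coe_decTo]
        have h1 : Commute Y (eproj (Y ^ t) ζ N i) :=
          Commute.smul_right (Commute.sum_right _ _ _ fun l _ =>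
            Commute.smul_right (((Commute.refl Y).pow_right t).pow_right l) _) _
        exact (DFunLike.congr_fun h1.eq v).symm
      have haY : a ∈ cent Y := mem_cent.2 (LinearMap.ext fun v => by
        rw [Module.End.mul_apply, Module.End.mul_apply, ha, ha, map_sum]
        refine Finset.sum_congr rfl fun i _ => ?_
        rw [hYe]
        exact congrArg Subtype.val
          (DFunLike.congr_fun (mem_cent.1 (f i).2) (decTo hX hζ hN v i)))
      refine ⟨⟨a, haY⟩, funext fun i => Subtype.ext (LinearMap.ext fun v => Subtype.ext ?_)⟩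
      show a (v : F) = _
      rw [ha]
      have hv : ∀ j, decTo hX hζ hN (v : F) j =
          Pi.single (M := fun j : Fin N => Module.End.eigenspace (Y ^ t) (ζ ^ (j : ℕ))) i v j := fun j =>
        Subtype.ext (by
          rw [coe_decTo, eproj_apply_eigen hζ hN j.2 i.2 (Module.End.mem_eigenspace_iff.1 v.2)]
          rcases eq_or_ne j i with rfl | hji
          · rw [if_pos rfl, Pi.single_eq_same]
          · rw [if_neg fun h => hji (Fin.ext h), Pi.single_eq_of_ne hji, Submodule.coe_zero])
      rw [Finset.sum_eq_single i (fun j _ hj => by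
        rw [hv, Pi.single_eq_of_ne hj, map_zero, Submodule.coe_zero])
        (fun h => absurd (Finset.mem_univ i) h), hv, Pi.single_eq_same]
  rw [(LinearEquiv.ofBijective Φ hbij).finrank_eq, Module.finrank_pi_fintype]

end

/-- Splitting off the cokernel of `Y - c`. -/
theorem finrank_cent_step {V : Type*} [AddCommGroup V] [Module K V] [FiniteDimensional K V]
    (Y : Module.End K V) (c : K)
    (hmem : ∀ v ∈ LinearMap.range (Y - c • 1), Y v ∈ LinearMap.range (Y - c • 1)) :
    Module.finrank K (cent Y) =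
      Module.finrank K (LinearMap.ker (Y - c • 1)) ^ 2 +
        Module.finrank K (cent (Y.restrict hmem)) := by
  have hcn : ∀ {a : Module.End K V}, a ∈ cent Y ↔ (Y - c • 1) * a = a * (Y - c • 1) := fun {a} => by
    rw [mem_cent, sub_mul, mul_sub, smul_mul_assoc, mul_smul_comm, one_mul, mul_one]
    exact ⟨fun h => by rw [h], sub_left_inj.1⟩
  obtain ⟨res, hres⟩ : ∃ res : cent Y →ₗ[K] cent (Y.restrict hmem), ∀ (a : cent Y) v,
      (((res a).1 v : _) : V) = (a : Module.End K V) v := by
    refine ⟨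
    { toFun := fun a => ⟨(a : Module.End K V).restrict (fun v hv => by
          obtain ⟨w, rfl⟩ := hv
          exact ⟨(a : Module.End K V) w, DFunLike.congr_fun (hcn.1 a.2) w⟩),
        mem_cent.2 (LinearMap.ext fun v => Subtype.ext (DFunLike.congr_fun (mem_cent.1 a.2) (v : V)))⟩
      map_add' := fun a b => rfl
      map_smul' := fun c a => rfl }, fun a v => rfl⟩
  have hsurj : Function.Surjective res := by
    intro f
    obtain ⟨g, hg⟩ := (Y - c • 1).rangeRestrict.exists_rightInverse_of_surjective (LinearMap.range_rangeRestrict (Y - c • 1))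
    obtain ⟨C, hC⟩ := Submodule.exists_isCompl (LinearMap.range (Y - c • 1))
    obtain ⟨a, ha⟩ : ∃ a : Module.End K V, a = LinearMap.ofIsCompl hC
        ((LinearMap.range (Y - c • 1)).subtype ∘ₗ f.1) (g ∘ₗ f.1 ∘ₗ (Y - c • 1).rangeRestrict ∘ₗ C.subtype) := ⟨_, rfl⟩
    have hf : ∀ v : LinearMap.range (Y - c • 1), (Y - c • 1) ((f.1 v : _) : V) = (f.1 ⟨(Y - c • 1) v, ⟨_, rfl⟩⟩ : V) := fun v => by
      have h1 := congrArg Subtype.val (DFunLike.congr_fun (mem_cent.1 f.2) v)
      have h2 : (⟨(Y - c • 1) v, ⟨_, rfl⟩⟩ : LinearMap.range (Y - c • 1)) = Y.restrict hmem v - c • v :=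
        Subtype.ext (by simp)
      have h3 : ∀ x : V, (Y - c • 1) x = Y x - c • x := fun x => rfl
      rw [h2, map_sub, map_smul, Submodule.coe_sub, Submodule.coe_smul, h3]
      exact congrArg (· - c • ((f.1 v : _) : V)) h1
    have haY : a ∈ cent Y := hcn.2 (by
      refine LinearMap.ext fun v => ?_
      obtain ⟨x, y, rfl, -⟩ := Submodule.existsUnique_add_of_isCompl hC v
      have hr : ∀ u : V, a ((Y - c • 1) u) = ((f.1 ⟨(Y - c • 1) u, ⟨u, rfl⟩⟩ : _) : V) := fun u => by
        rw [ha]
        exact LinearMap.ofIsCompl_apply_left hC (⟨(Y - c • 1) u, ⟨u, rfl⟩⟩ : LinearMap.range (Y - c • 1))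
      have e1 : (Y - c • 1) (a (x : V)) = a ((Y - c • 1) (x : V)) := by
        rw [hr, ha, LinearMap.ofIsCompl_apply_left]
        exact hf x
      have e2 : (Y - c • 1) (a (y : V)) = a ((Y - c • 1) (y : V)) := by
        rw [hr, ha, LinearMap.ofIsCompl_apply_right]
        exact congrArg Subtype.val (DFunLike.congr_fun hg (f.1 ⟨(Y - c • 1) y, ⟨_, rfl⟩⟩))
      simp only [Module.End.mul_apply, map_add, e1, e2])
    refine ⟨⟨a, haY⟩, Subtype.ext (LinearMap.ext fun v => Subtype.ext ?_)⟩
    rw [hres]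
    show a (v : V) = _
    rw [ha, LinearMap.ofIsCompl_apply_left]
    rfl
  let inc : ((V ⧸ LinearMap.range (Y - c • 1)) →ₗ[K] LinearMap.ker (Y - c • 1)) →ₗ[K] cent Y :=
    { toFun := fun φ => ⟨(LinearMap.ker (Y - c • 1)).subtype ∘ₗ φ ∘ₗ (LinearMap.range (Y - c • 1)).mkQ, hcn.2
        (LinearMap.ext fun v => by
          show (Y - c • 1) ((φ _ : _) : V) = ((φ ((LinearMap.range (Y - c • 1)).mkQ ((Y - c • 1) v)) : _) : V)
          rw [LinearMap.mem_ker.1 (φ _).2,
            show (LinearMap.range (Y - c • 1)).mkQ ((Y - c • 1) v) = 0 from (Submodule.Quotient.mk_eq_zero _).2 ⟨v, rfl⟩,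
            map_zero, Submodule.coe_zero])⟩
      map_add' := fun a b => rfl
      map_smul' := fun c a => rfl }
  have hinj : Function.Injective inc := fun φ φ' h => by
    refine LinearMap.ext fun x => ?_
    obtain ⟨v, rfl⟩ := Submodule.mkQ_surjective _ x
    exact Subtype.ext (DFunLike.congr_fun (congrArg Subtype.val h) v)
  have hker : LinearMap.range inc = LinearMap.ker res := by
    refine le_antisymm ?_ fun a ha => ?_
    · rintro _ ⟨φ, rfl⟩
      refine LinearMap.mem_ker.2 (Subtype.ext (LinearMap.ext fun v => Subtype.ext ?_))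
      rw [hres]
      show ((φ ((LinearMap.range (Y - c • 1)).mkQ (v : V)) : _) : V) = 0
      rw [show (LinearMap.range (Y - c • 1)).mkQ (v : V) = 0 from (Submodule.Quotient.mk_eq_zero _).2 v.2,
        map_zero, Submodule.coe_zero]
    · have h0 : ∀ v ∈ LinearMap.range (Y - c • 1), (a : Module.End K V) v = 0 := fun v hv =>
        by rw [← hres a ⟨v, hv⟩, LinearMap.mem_ker.1 ha]; rfl
      refine ⟨Submodule.liftQ _ ((a : Module.End K V).codRestrict (LinearMap.ker (Y - c • 1)) fun v => ?_)
        (fun v hv => LinearMap.mem_ker.2 (Subtype.ext (h0 v hv))), Subtype.ext (LinearMap.ext fun v => rfl)⟩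
      rw [LinearMap.mem_ker, ← Module.End.mul_apply, hcn.1 a.2, Module.End.mul_apply]
      exact h0 _ ⟨v, rfl⟩
  have h1 := LinearMap.finrank_range_add_finrank_ker (K := K) (V := cent Y) (V₂ := cent (Y.restrict hmem)) res
  rw [LinearMap.range_eq_top.2 hsurj, finrank_top, ← hker, LinearMap.finrank_range_of_inj hinj,
    Module.finrank_linearMap] at h1
  have h2 := (Y - c • 1).finrank_range_add_finrank_ker
  have h3 := (LinearMap.range (Y - c • 1)).finrank_quotient_add_finrank
  rw [show Module.finrank K (V ⧸ LinearMap.range (Y - c • 1)) = Module.finrank K (LinearMap.ker (Y - c • 1)) by omega] at h1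
  rw [sq]
  omega

/-- An operator killed by `t` linear factors has a centraliser of dimension at least `m` and `m² / t`. -/
theorem finrank_cent_ge : ∀ (l : List K) {V : Type*} [AddCommGroup V] [Module K V]
    [FiniteDimensional K V] (Y : Module.End K V), (l.map fun c => Y - c • 1).prod = 0 →
    Module.finrank K V ≤ Module.finrank K (cent Y) ∧
      Module.finrank K V ^ 2 ≤ l.length * Module.finrank K (cent Y)
  | [], V, _, _, _, Y, h => by
    have : Module.finrank K V = 0 := by
      refine Module.finrank_zero_iff.2 ⟨fun a b => ?_⟩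
      have h0 : ∀ x : V, x = 0 := fun x => by
        simpa using DFunLike.congr_fun (show (1 : Module.End K V) = 0 from h) x
      rw [h0 a, h0 b]
    simp [this]
  | c :: l, V, _, _, _, Y, h => by
    have hmem : ∀ v ∈ LinearMap.range (Y - c • 1), Y v ∈ LinearMap.range (Y - c • 1) := by
      rintro _ ⟨w, rfl⟩
      exact ⟨Y w, DFunLike.congr_fun (((Commute.refl Y).sub_right
        ((Commute.one_right Y).smul_right c)).eq.symm) w⟩
    have hl : (l.map fun d => Y.restrict hmem - d • 1).prod = 0 := by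
      refine LinearMap.ext fun v => Subtype.ext ?_
      obtain ⟨w, hw⟩ := v.2
      have key : ∀ (l : List K) (v : LinearMap.range (Y - c • 1)),
          (((l.map fun d => Y.restrict hmem - d • 1).prod v : _) : V) =
            (l.map fun d => Y - d • 1).prod (v : V) := by
        intro l
        induction l with
        | nil => intro v; rfl
        | cons d l ih =>
          intro v
          simp only [List.map_cons, List.prod_cons, Module.End.mul_apply, ← ih]
          rfl
      rw [key, ← hw, ← Module.End.mul_apply]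
      have hc : Commute ((l.map fun d => Y - d • 1).prod) (Y - c • 1) := by
        refine Commute.list_prod_left _ _ fun x hx => ?_
        obtain ⟨d, -, rfl⟩ := List.mem_map.1 hx
        exact (((Commute.refl Y).sub_left ((Commute.one_left Y).smul_left d)).sub_right
          ((Commute.one_right _).smul_right c))
      rw [hc.eq]
      rw [List.map_cons, List.prod_cons] at h
      rw [h]
      rfl
    obtain ⟨h1, h2⟩ := finrank_cent_ge l (Y.restrict hmem) hl
    rw [finrank_cent_step Y c hmem, List.length_cons]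
    have h3 := (Y - c • 1).finrank_range_add_finrank_ker
    obtain ⟨z, hz⟩ : ∃ z, z = Module.finrank K (LinearMap.ker (Y - c • 1)) := ⟨_, rfl⟩
    obtain ⟨y, hy⟩ : ∃ y, y = Module.finrank K (LinearMap.range (Y - c • 1)) := ⟨_, rfl⟩
    obtain ⟨C, hC⟩ : ∃ C, C = Module.finrank K (cent (Y.restrict hmem)) := ⟨_, rfl⟩
    rw [← hy, ← hC] at h1 h2
    rw [← hy, ← hz] at h3
    rw [← h3, ← hz, ← hC]
    have hsq : z ≤ z ^ 2 := Nat.le_self_pow two_ne_zero z
    refine ⟨by omega, ?_⟩
    rcases Nat.eq_zero_or_pos l.length with h0 | h0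
    · have : y = 0 := by
        rw [h0, zero_mul] at h2
        nlinarith
      subst this
      nlinarith
    · have h4 : l.length * (y + z) ^ 2 ≤ l.length * ((l.length + 1) * (z ^ 2 + C)) := by
        nlinarith [sq_nonneg ((y : ℤ) - l.length * z)]
      exact Nat.le_of_mul_le_mul_left h4 h0

end Cfsg.Agent.Solv.FHeight
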