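import Mathlib

/-!
Additive functions on a group vanishing on a subgroup, with the action of automorphisms.
-/

set_option autoImplicit false
set_option linter.unusedSectionVars false
set_option linter.style.haveILetI false

namespace Cfsg.Agent.Solv.FHeight

variable (k : Type*) [Field k] {Q : Type*} [Group Q]

/-- The additive functions on `Q` vanishing on `F`. -/
def funs (F : Subgroup Q) : Submodule k (Q → k) where
  carrier := {φ | (∀ a b, φ (a * b) = φ a + φ b) ∧ ∀ a ∈ F, φ a = 0}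
  zero_mem' := ⟨fun _ _ => by simp, fun _ _ => rfl⟩
  add_mem' := fun {φ ψ} hφ hψ => ⟨fun a b => by
      simp only [Pi.add_apply, hφ.1, hψ.1]; ring,
    fun a ha => by simp [hφ.2 a ha, hψ.2 a ha]⟩
  smul_mem' := fun c φ hφ => ⟨fun a b => by simp only [Pi.smul_apply, hφ.1, smul_add],
    fun a ha => by simp [hφ.2 a ha]⟩

variable {k} {F : Subgroup Q}

theorem funs_mul (φ : funs k F) (a b : Q) : (φ : Q → k) (a * b) = (φ : Q → k) a + (φ : Q → k) b :=
  φ.2.1 a b

theorem funs_zero (φ : funs k F) {a : Q} (ha : a ∈ F) : (φ : Q → k) a = 0 := φ.2.2 a ha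

theorem funs_one (φ : funs k F) : (φ : Q → k) 1 = 0 := funs_zero φ (one_mem F)

theorem funs_inv (φ : funs k F) (a : Q) : (φ : Q → k) a⁻¹ = -(φ : Q → k) a := by
  have h1 := funs_mul φ a⁻¹ a
  rw [inv_mul_cancel, funs_one] at h1
  exact eq_neg_of_add_eq_zero_left h1.symm

theorem funs_pow (φ : funs k F) (a : Q) : ∀ n : ℕ, (φ : Q → k) (a ^ n) = n * (φ : Q → k) a
  | 0 => by rw [pow_zero, funs_one, Nat.cast_zero, zero_mul]
  | n + 1 => by rw [pow_succ, funs_mul, funs_pow φ a n, Nat.cast_succ, add_mul, one_mul]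

theorem funs_ext {φ ψ : funs k F} (h : ∀ a, (φ : Q → k) a = (ψ : Q → k) a) : φ = ψ :=
  Subtype.ext (funext h)

/-- Additive functions separate the points of an elementary abelian quotient. -/
theorem funs_sep {p : ℕ} (hp : p.Prime) [CharP k p] (hn : F.Normal)
    (hcomm : ∀ a b : Q, b * a * b⁻¹ * a⁻¹ ∈ F) (hpow : ∀ a, a ^ p ∈ F) {x : Q} (hx : x ∉ F) :
    ∃ φ : funs k F, (φ : Q → k) x ≠ 0 := by
  haveI := hn
  haveI := Fact.mk hp
  have hc : ∀ a b : Q ⧸ F, a * b = b * a := by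
    intro a b
    obtain ⟨a, rfl⟩ := QuotientGroup.mk_surjective a
    obtain ⟨b, rfl⟩ := QuotientGroup.mk_surjective b
    rw [← QuotientGroup.mk_mul, ← QuotientGroup.mk_mul, eq_comm]
    refine QuotientGroup.eq.2 ?_
    rw [show (b * a)⁻¹ * (a * b) = a⁻¹ * b⁻¹ * a * b by group]
    have h1 := hcomm b⁻¹ a⁻¹
    rwa [inv_inv, inv_inv] at h1
  letI : CommGroup (Q ⧸ F) := { (inferInstance : Group (Q ⧸ F)) with mul_comm := hc }
  have hzero : ∀ v : Additive (Q ⧸ F), p • v = 0 := fun v => by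
    obtain ⟨a, ha⟩ := QuotientGroup.mk_surjective (Additive.toMul v)
    apply Additive.toMul.injective
    rw [toMul_nsmul, toMul_zero, ← ha, ← QuotientGroup.mk_pow, QuotientGroup.eq_one_iff]
    exact hpow a
  letI : Module (ZMod p) (Additive (Q ⧸ F)) := AddCommGroup.zmodModule (n := p) hzero
  have hx0 : Additive.ofMul (x : Q ⧸ F) ≠ 0 := fun h0 => hx ((QuotientGroup.eq_one_iff x).1 h0)
  obtain ⟨f, hf⟩ := Module.Projective.exists_dual_ne_zero (ZMod p) hx0
  refine ⟨⟨fun a => ZMod.castHom dvd_rfl k (f (Additive.ofMul (a : Q ⧸ F))), fun a b => ?_,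
    fun a ha => ?_⟩, fun h0 => hf ((ZMod.castHom dvd_rfl k).injective (h0.trans (map_zero _).symm))⟩
  · show ZMod.castHom dvd_rfl k (f _) = _
    rw [QuotientGroup.mk_mul, ofMul_mul, map_add, map_add]
  · show ZMod.castHom dvd_rfl k (f _) = 0
    rw [(QuotientGroup.eq_one_iff a).2 ha, ofMul_one, map_zero, map_zero]

variable (k) {G : Type*} [Group G]

/-- The action on additive functions. -/
def funRep (α : G →* MulAut Q) (hF : ∀ g, ∀ x ∈ F, α g x ∈ F) :
    G →* Module.End k (funs k F) where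
  toFun g :=
    { toFun := fun φ => ⟨fun x => (φ : Q → k) (α g⁻¹ x), fun a b => by
          show (φ : Q → k) (α g⁻¹ (a * b)) = _
          rw [map_mul (α g⁻¹), funs_mul],
        fun a ha => funs_zero φ (hF _ a ha)⟩
      map_add' := fun φ ψ => rfl
      map_smul' := fun c φ => rfl }
  map_one' := LinearMap.ext fun φ => funs_ext fun x => by
    show (φ : Q → k) (α 1⁻¹ x) = (φ : Q → k) x
    rw [inv_one, map_one, MulAut.one_apply]
  map_mul' a b := LinearMap.ext fun φ => funs_ext fun x => by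
    show (φ : Q → k) (α (a * b)⁻¹ x) = (φ : Q → k) (α b⁻¹ (α a⁻¹ x))
    rw [mul_inv_rev, map_mul, MulAut.mul_apply]

variable {k}

theorem funRep_apply (α : G →* MulAut Q) (hF : ∀ g, ∀ x ∈ F, α g x ∈ F) (g : G) (φ : funs k F)
    (x : Q) : ((funRep k α hF g φ : funs k F) : Q → k) x = (φ : Q → k) (α g⁻¹ x) := rfl

/-- A fixed function kills the quotients. -/
theorem funRep_fixed (α : G →* MulAut Q) (hF : ∀ g, ∀ x ∈ F, α g x ∈ F) {φ : funs k F} {g : G}
    (h : funRep k α hF g φ = φ) (x : Q) : (φ : Q → k) (x⁻¹ * α g x) = 0 := by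
  have h1 : ((funRep k α hF g φ : funs k F) : Q → k) (α g x) = (φ : Q → k) (α g x) := by rw [h]
  rw [funRep_apply, ← MulAut.mul_apply, ← map_mul, inv_mul_cancel, map_one, MulAut.one_apply] at h1
  rw [funs_mul, funs_inv, ← h1, neg_add_cancel]

end Cfsg.Agent.Solv.FHeight
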