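import Mathlib

/-!
Two commuting involutory endomorphisms of an abelian group of odd order.
-/

set_option autoImplicit false
set_option linter.unusedSectionVars false

namespace Cfsg.Agent.Solv.FHeight

variable {G : Type*} [CommGroup G] [Finite G]

/-- The subgroup inverted by `A`. -/
def negOf (A : G →* G) : Subgroup G := (A * MonoidHom.id G).ker

theorem mem_negOf {A : G →* G} {v : G} : v ∈ negOf A ↔ A v * v = 1 := Iff.rfl

/-- The subgroup fixed by `B`. -/
def fixOf (B : G →* G) : Subgroup G := (B / MonoidHom.id G).ker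

theorem mem_fixOf {B : G →* G} {v : G} : v ∈ fixOf B ↔ B v = v := by
  show B v / v = 1 ↔ _
  exact div_eq_one

/-- A subgroup stable under a commuting involution splits into its two eigen-parts. -/
theorem card_split (hodd : Odd (Nat.card G)) (B : G →* G) (hB : ∀ v, B (B v) = v) (X : Subgroup G)
    (hX : ∀ v ∈ X, B v ∈ X) :
    Nat.card X = Nat.card ↥(X ⊓ negOf B) * Nat.card ↥(X ⊓ fixOf B) := by
  have hsq : ∀ v : G, v ^ 2 = 1 → v = 1 := fun v hv => by
    have h1 := pow_gcd_eq_one.2 ⟨hv, pow_card_eq_one' (x := v)⟩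
    rwa [Nat.coprime_two_left.2 hodd, pow_one] at h1
  let f : ↥(X ⊓ negOf B) × ↥(X ⊓ fixOf B) → X := fun p => ⟨p.1.1 * p.2.1, mul_mem p.1.2.1 p.2.2.1⟩
  have hinj : Function.Injective f := by
    rintro ⟨⟨a, ha⟩, ⟨b, hb⟩⟩ ⟨⟨a', ha'⟩, ⟨b', hb'⟩⟩ he
    have he' : a * b = a' * b' := congrArg Subtype.val he
    have h1 := congrArg B he'
    rw [map_mul, map_mul, eq_inv_of_mul_eq_one_left (mem_negOf.1 ha.2),
      eq_inv_of_mul_eq_one_left (mem_negOf.1 ha'.2), mem_fixOf.1 hb.2, mem_fixOf.1 hb'.2] at h1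
    have h2 : (a' / a) ^ 2 = 1 := by
      have h3 : a * b / (a⁻¹ * b) = a' * b' / (a'⁻¹ * b') := by rw [he', h1]
      simp only [mul_div_mul_right_eq_div, div_inv_eq_mul] at h3
      rw [div_pow, pow_two, pow_two, h3, div_self']
    obtain rfl : a' = a := div_eq_one.1 (hsq _ h2)
    obtain rfl : b = b' := mul_left_cancel he'
    rfl
  have hsurj : Function.Surjective f := by
    intro v
    obtain ⟨m, hm⟩ := hodd
    have hv : (v : G) ^ (m + 1) * (v : G) ^ (m + 1) = v := by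
      rw [← pow_add, show m + 1 + (m + 1) = Nat.card G + 1 by omega, pow_succ, pow_card_eq_one',
        one_mul]
    have hw : (v : G) ^ (m + 1) ∈ X := pow_mem v.2 _
    refine ⟨(⟨(v : G) ^ (m + 1) / B ((v : G) ^ (m + 1)), X.div_mem hw (hX _ hw), mem_negOf.2 ?_⟩,
      ⟨(v : G) ^ (m + 1) * B ((v : G) ^ (m + 1)), X.mul_mem hw (hX _ hw), mem_fixOf.2 ?_⟩), ?_⟩
    · rw [map_div, hB, div_mul_div_cancel, div_self']
    · rw [map_mul, hB, mul_comm]
    · refine Subtype.ext ?_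
      show (v : G) ^ (m + 1) / B ((v : G) ^ (m + 1)) * ((v : G) ^ (m + 1) * B ((v : G) ^ (m + 1))) = v
      rw [mul_comm ((v : G) ^ (m + 1)) (B _), ← mul_assoc, div_mul_cancel, hv]
  rw [← Nat.card_prod]
  exact (Nat.card_congr (Equiv.ofBijective f ⟨hinj, hsurj⟩)).symm

/-- The size of an invariant subgroup on which an automorphism of prime order is free. -/
theorem card_modEq_one {r : ℕ} (hr : r.Prime) (τ : MulAut G) (hτ : τ ^ r = 1)
    (X : Subgroup G) (hX : ∀ v ∈ X, τ v ∈ X) (hfree : ∀ v ∈ X, τ v = v → v = 1) :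
    Nat.card X ≡ 1 [MOD r] := by
  classical
  haveI := Fact.mk hr
  haveI := Fintype.ofFinite X
  let f : X → X := fun v => ⟨τ v, hX v v.2⟩
  let π : Equiv.Perm X := Equiv.ofBijective f (Finite.injective_iff_bijective.1
    fun a b hab => Subtype.ext (τ.injective (congrArg Subtype.val hab)))
  have hπ : ∀ n (v : X), (((π ^ n) v : X) : G) = (τ ^ n) (v : G) := by
    intro n
    induction n with
    | zero => intro v; rfl
    | succ n ih => intro v; rw [pow_succ', Equiv.Perm.mul_apply, pow_succ', MulAut.mul_apply, ← ih]; rfl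
  have h1 := Equiv.Perm.card_compl_support_modEq (p := r) (n := 1) (σ := π)
    (Equiv.ext fun v => Subtype.ext (by rw [pow_one, hπ, hτ]; rfl))
  have h2 : π.supportᶜ = {1} := by
    ext v
    rw [Finset.mem_compl, Equiv.Perm.notMem_support, Finset.mem_singleton]
    constructor
    · intro hv; exact Subtype.ext (hfree v v.2 (congrArg Subtype.val hv))
    · rintro rfl; exact Subtype.ext (map_one τ)
  rw [h2, Finset.card_singleton, ← Nat.card_eq_fintype_card] at h1
  exact h1.symm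

/-- Two commuting involutions and their product cannot all invert as much as `(2r - 1) ^ 2`. -/
theorem no_three (hodd : Odd (Nat.card G)) {r : ℕ} (hr : r.Prime) (hr2 : r ≠ 2) (τ : MulAut G)
    (hτ : τ ^ r = 1) (hfree : ∀ v, τ v = v → v = 1) (A B : G →* G) (hA : ∀ v, A (A v) = v)
    (hB : ∀ v, B (B v) = v) (hAB : ∀ v, A (B v) = B (A v)) (hAτ : ∀ v, A (τ v) = τ (A v))
    (hBτ : ∀ v, B (τ v) = τ (B v)) {x : ℕ} (hx : x + 1 = 2 * r)
    (hIA : Nat.card (negOf A) = x * x) (hIB : Nat.card (negOf B) = x * x)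
    (hIAB : Nat.card (negOf (A.comp B)) = x * x) : False := by
  have hne : ∀ v : G, v ≠ 1 → v⁻¹ ≠ v := fun v hv h => by
    have h1 := pow_gcd_eq_one.2 ⟨(show v ^ 2 = 1 by rw [pow_two]; nth_rw 1 [← h]; exact inv_mul_cancel v),
      pow_card_eq_one' (x := v)⟩
    rw [Nat.coprime_two_left.2 hodd, pow_one] at h1
    exact hv h1
  have e1 := card_split hodd B hB (negOf A) fun v hv => mem_negOf.2 (by
    rw [hAB, ← map_mul, mem_negOf.1 hv, map_one])
  have e2 := card_split hodd A hA (negOf B) fun v hv => mem_negOf.2 (by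
    rw [← hAB, ← map_mul, mem_negOf.1 hv, map_one])
  have e3 := card_split hodd A hA (negOf (A.comp B)) fun v hv => mem_negOf.2 (by
    show A (B (A v)) * A v = 1
    rw [← map_mul, ← hAB, show A (B v) * v = 1 from hv, map_one])
  have q1 : negOf B ⊓ negOf A = negOf A ⊓ negOf B := inf_comm _ _
  have q2 : negOf (A.comp B) ⊓ negOf A = negOf A ⊓ fixOf B := by
    ext v
    simp only [Subgroup.mem_inf, mem_negOf, mem_fixOf, MonoidHom.comp_apply]
    constructor
    · rintro ⟨h1, h2⟩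
      refine ⟨h2, ?_⟩
      have h3 : A (B v) = A v := mul_right_cancel (h1.trans h2.symm)
      rw [← hA (B v), h3, hA]
    · rintro ⟨h1, h2⟩; exact ⟨by rw [h2, h1], h1⟩
  have q3 : negOf (A.comp B) ⊓ fixOf A = negOf B ⊓ fixOf A := by
    ext v
    simp only [Subgroup.mem_inf, mem_negOf, mem_fixOf, MonoidHom.comp_apply]
    constructor
    · rintro ⟨h1, h2⟩; rw [hAB, h2] at h1; exact ⟨h1, h2⟩
    · rintro ⟨h1, h2⟩; exact ⟨by rw [hAB, h2, h1], h2⟩
  rw [q1] at e2
  rw [q2, q3] at e3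
  rw [hIA] at e1
  rw [hIB] at e2
  rw [hIAB] at e3
  obtain ⟨a, ha⟩ : ∃ a, a = Nat.card ↥(negOf A ⊓ negOf B) := ⟨_, rfl⟩
  obtain ⟨b, hb⟩ : ∃ b, b = Nat.card ↥(negOf A ⊓ fixOf B) := ⟨_, rfl⟩
  obtain ⟨c, hc⟩ : ∃ c, c = Nat.card ↥(negOf B ⊓ fixOf A) := ⟨_, rfl⟩
  rw [← ha, ← hb] at e1
  rw [← ha, ← hc] at e2
  rw [← hb, ← hc] at e3
  have ha0 : 0 < a := ha ▸ Nat.card_pos
  have hbc : b = c := Nat.eq_of_mul_eq_mul_left ha0 (e1.symm.trans e2)
  subst hbc
  have hbx : b = x := by nlinarith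
  have h1 := card_modEq_one hr τ hτ (negOf A ⊓ fixOf B) (fun v hv =>
    ⟨mem_negOf.2 (by rw [hAτ, ← map_mul, mem_negOf.1 hv.1, map_one]),
      mem_fixOf.2 (by rw [hBτ, mem_fixOf.1 hv.2])⟩) fun v _ => hfree v
  rw [← hb, hbx] at h1
  have h2 : r ∣ x - 1 := (Nat.modEq_iff_dvd' (by have := hr.two_le; omega)).1 h1.symm
  have h3 : r ∣ 2 := by
    have h4 : r ∣ 2 * r := dvd_mul_left r 2
    have h5 := Nat.dvd_sub h4 h2
    rwa [show 2 * r - (x - 1) = 2 by have := hr.two_le; omega] at h5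
  exact hr2 ((Nat.prime_dvd_prime_iff_eq hr Nat.prime_two).1 h3)

end Cfsg.Agent.Solv.FHeight
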