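import Cfsg.Agent.Lib.Solv.FHeight.Live
import Cfsg.Agent.Lib.Solv.FPFMinimal

/-!
One layer: elements of the fixed subgroup acting trivially on all fixed vectors of the next section.
-/

set_option autoImplicit false
set_option linter.unusedSectionVars false
set_option linter.style.haveILetI false

namespace Cfsg.Agent.Solv.FHeight

open Module Cfsg.Agent.Perm.WeightIdem

variable {k : Type*} [Field k] {M : Type*} [AddCommGroup M] [Module k M] {Q : Type*} [Group Q]
  [Fintype Q] {U : Type*} [Group U] [Fintype U]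

/-- The weights of an invariant subgroup with commuting image. -/
theorem mkWts {ρ : Q →* Module.End k M} {σ : MulAut Q} {S : Module.End k M} {r : ℕ}
    (hcard : (Nat.card Q : k) ≠ 0) (hr : r.Prime) (hrk : (r : k) ≠ 0)
    (hcop : r.Coprime (Nat.card Q)) (hpow : σ ^ r = 1) (hSpow : S ^ r = 1)
    (hScomm : ∀ v, S * ρ v = ρ (σ v) * S) {H : Subgroup Q} [Fintype (Abelianization H)]
    (hH : ∀ x, σ x ∈ H ↔ x ∈ H) (hc : ∀ a ∈ H, ∀ b ∈ H, ρ a * ρ b = ρ b * ρ a) :
    Wts (abLift ρ H hc) (abAut σ H hH) S r :=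
  have hd : Nat.card (Abelianization H) ∣ Nat.card Q :=
    (Subgroup.card_quotient_dvd_card _).trans (Subgroup.card_subgroup_dvd_card _)
  { card := fun h0 => by
      obtain ⟨c, hc⟩ := hd
      exact hcard (by rw [hc, Nat.cast_mul, h0, zero_mul])
    prime := hr
    rk := hrk
    cop := hcop.coprime_dvd_right hd
    pow := MulEquiv.ext fun b => by
      obtain ⟨x, rfl⟩ := ab_of_surjective H b
      rw [abAut_pow]
      exact congrArg Abelianization.of (Subtype.ext (by rw [coe_autRes_pow, hpow]; rfl))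
    Spow := hSpow
    comm := abLift_intw ρ H hc hH hScomm }

/-- The dual operator of an automorphism. -/
def funPull (k' : Type*) [Field k'] {F : Subgroup Q} (φ : MulAut Q) (h : ∀ x ∈ F, φ.symm x ∈ F) :
    Module.End k' (funs k' F) where
  toFun f := ⟨fun x => (f : Q → k') (φ.symm x),
    fun a b => by
      show (f : Q → k') (φ.symm (a * b)) = _
      rw [map_mul, funs_mul],
    fun a ha => funs_zero f (h a ha)⟩
  map_add' _ _ := rfl
  map_smul' _ _ := rfl

theorem funPull_apply {k' : Type*} [Field k'] {F : Subgroup Q} (φ : MulAut Q)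
    (h : ∀ x ∈ F, φ.symm x ∈ F) (f : funs k' F) (x : Q) :
    ((funPull k' φ h f : funs k' F) : Q → k') x = (f : Q → k') (φ.symm x) := rfl

theorem funPull_pow {k' : Type*} [Field k'] {F : Subgroup Q} (φ : MulAut Q)
    (h : ∀ x ∈ F, φ.symm x ∈ F) {n : ℕ} (hn : φ ^ n = 1) : funPull k' φ h ^ n = 1 := by
  have key : ∀ l (f : funs k' F) x,
      ((((funPull k' φ h) ^ l) f : funs k' F) : Q → k') ((φ ^ l) x) = (f : Q → k') x := by
    intro l
    induction l with
    | zero => intro f x; rfl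
    | succ l ih =>
      intro f x
      rw [pow_succ', Module.End.mul_apply, funPull_apply, pow_succ', MulAut.mul_apply,
        MulEquiv.symm_apply_apply, ih]
  refine LinearMap.ext fun f => funs_ext fun x => ?_
  have h1 := key n f x
  rw [hn, MulAut.one_apply] at h1
  exact h1

/-- The setting of a layer: `Q` acts on the next section, `U` on `Q`. -/
structure LayerData (ρ : Q →* Module.End k M) (F : Subgroup Q) (σ : MulAut Q) (S : Module.End k M)
    (r p : ℕ) (α : U →* MulAut Q) (Z : Subgroup U) (τ : MulAut U) (Uop : U →* Module.End k M) :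
    Prop where
  card : (Nat.card Q : k) ≠ 0
  pk : (p : k) ≠ 0
  prime : r.Prime
  rk : (r : k) ≠ 0
  cop : r.Coprime (Nat.card Q)
  rp : r ≠ p
  pp : p.Prime
  grp : IsPGroup p Q
  expp : ∀ a : Q, a ^ p ∈ F
  pow : σ ^ r = 1
  Spow : S ^ r = 1
  Scomm : ∀ v, S * ρ v = ρ (σ v) * S
  mem : ∀ x, σ x ∈ F ↔ x ∈ F
  comm : ∀ a b : Q, b * a * b⁻¹ * a⁻¹ ∈ F
  cen : F ≤ rad ρ
  ker : ∀ x, ρ x = 1 → x ∈ F
  inter : ∀ u q, Uop u * ρ q = ρ (α u q) * Uop u
  amem : ∀ u, ∀ x ∈ F, α u x ∈ F
  afix : ∀ u, ∀ z ∈ F, ρ (α u z) = ρ z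
  atau : ∀ u x, α (τ u) (σ x) = σ (α u x)
  agen : Subgroup.closure ((F : Set Q) ∪ {y | ∃ u x, y = x⁻¹ * α u x}) = ⊤
  ucop : r.Coprime (Nat.card U)
  pcop : p.Coprime (Nat.card U)
  upow : τ ^ r = 1
  umem : ∀ u, τ u ∈ Z ↔ u ∈ Z
  ucomm : ∀ a b : U, b * a * b⁻¹ * a⁻¹ ∈ Z
  ucen : ∀ z ∈ Z, ∀ u x, (α (z * u) x)⁻¹ * α (u * z) x ∈ F
  ufree : ∀ u, u⁻¹ * τ u ∈ Z → u ∈ Z
  ugen : Gen τ

/-- A fixed element acting trivially on the fixed vectors modulo those centralised by the moved
elements. -/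
def Killer (ρ : Q →* Module.End k M) (σ : MulAut Q) (S : Module.End k M) (x : Q) : Prop :=
  σ x = x ∧ ∀ v, S v = v → ∀ q, ρ (q⁻¹ * σ q) (ρ x v - v) = ρ x v - v

namespace LayerData

variable {ρ : Q →* Module.End k M} {F : Subgroup Q} {σ : MulAut Q} {S : Module.End k M} {r p : ℕ}
  {α : U →* MulAut Q} {Z : Subgroup U} {τ : MulAut U} {Uop : U →* Module.End k M}

theorem normal (h : LayerData ρ F σ S r p α Z τ Uop) : F.Normal :=
  ⟨fun z hz v => by
    have h1 := mul_mem (h.comm z v) hz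
    rwa [inv_mul_cancel_right] at h1⟩

theorem lift (h : LayerData ρ F σ S r p α Z τ Uop) {N : Subgroup Q} (hN : ∀ x ∈ N, σ x ∈ N) {a : Q}
    (ha : a⁻¹ * σ a ∈ N) : ∃ c, σ c = c ∧ a⁻¹ * c ∈ N := by
  haveI := Fact.mk h.prime
  exact FPFOp.exists_fixed_in_left_coset σ (k := 1) (by rw [pow_one]; exact h.pow) N hN
    (fun hd => h.prime.ne_one
      (Nat.dvd_one.1 (h.cop.gcd_eq_one ▸ Nat.dvd_gcd dvd_rfl (hd.trans (Subgroup.card_subgroup_dvd_card N)))))
    ha

theorem killer_moved [IsAlgClosed k] (h : LayerData ρ F σ S r p α Z τ Uop) {W : Submodule k M}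
    (hI : Inv ρ W) (hSI : ∀ w ∈ W, S w ∈ W) {H : Subgroup Q} [Fintype (Abelianization H)]
    (hH : ∀ x, σ x ∈ H ↔ x ∈ H)
    (hc : ∀ a ∈ H, ∀ b ∈ H, restr ρ hI a * restr ρ hI b = restr ρ hI b * restr ρ hI a)
    {x : Q} (hx : Killer ρ σ S x) (hxc : ∀ z ∈ H, restr ρ hI x * restr ρ hI z = restr ρ hI z * restr ρ hI x)
    {χ : Abelianization H →* kˣ} (hχ : ¬ FixedChar (abAut σ H hH) χ) (w : W) :
    restr ρ hI x (idem (abLift (restr ρ hI) H hc) χ w) = idem (abLift (restr ρ hI) H hc) χ w := by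
  have hW : Wts (abLift (restr ρ hI) H hc) (abAut σ H hH) (S.restrict hSI) r :=
    mkWts h.card h.prime h.rk h.cop h.pow
      (LinearMap.ext fun w => Subtype.ext (by rw [pow_restrict, h.Spow]; rfl))
      (fun v => LinearMap.ext fun w => Subtype.ext (DFunLike.congr_fun (h.Scomm v) (w : M))) hH hc
  obtain ⟨b, hb⟩ : ∃ b, χ (abAut σ H hH b) ≠ χ b := by
    by_contra hno
    push Not at hno
    exact hχ hno
  obtain ⟨z, rfl⟩ := ab_of_surjective H b
  have key : ∀ w : W, restr ρ hI ((z : Q)⁻¹ * σ z) w = w →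
      idem (abLift (restr ρ hI) H hc) χ w = 0 := by
    intro w hw
    have h1 := Wts.comp_apply' (f := abLift (restr ρ hI) H hc) χ
      (Abelianization.of (z⁻¹ * autRes σ H hH z)) w
    rw [abLift_of] at h1
    change idem (abLift (restr ρ hI) H hc) χ (restr ρ hI ((z : Q)⁻¹ * σ z) w) = _ at h1
    rw [hw, map_mul, map_mul, map_inv, map_inv, ← abAut_of, eq_comm, ← sub_eq_zero] at h1
    conv_lhs at h1 => arg 2; rw [← one_smul k (idem (abLift (restr ρ hI) H hc) χ w)]
    rw [← sub_smul] at h1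
    refine (smul_eq_zero.1 h1).resolve_left fun he => hb ?_
    rw [sub_eq_zero, Units.val_eq_one, inv_mul_eq_one] at he
    exact he.symm
  obtain ⟨v, hv⟩ : ∃ v, v = avg (S.restrict hSI) r (idem (abLift (restr ρ hI) H hc) χ w) := ⟨_, rfl⟩
  have hSv : S.restrict hSI v = v := hv ▸ apply_avg hW.Spow _
  have h2 : restr ρ hI ((z : Q)⁻¹ * σ z) (restr ρ hI x v - v) = restr ρ hI x v - v :=
    Subtype.ext (hx.2 (v : M) (congrArg Subtype.val hSv) (z : Q))
  have h3 := key _ h2
  have h4 : idem (abLift (restr ρ hI) H hc) χ (restr ρ hI x v) =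
      restr ρ hI x (idem (abLift (restr ρ hI) H hc) χ v) := DFunLike.congr_fun
    (commute_idem (abLift (restr ρ hI) H hc) χ (y := restr ρ hI x) fun b => by
      obtain ⟨y, rfl⟩ := ab_of_surjective H b
      exact hxc y y.2).eq.symm v
  rw [map_sub, sub_eq_zero, h4, hv, hW.comp_avg hχ] at h3
  exact h3

variable [IsAlgClosed k] [FiniteDimensional k M]

/-- A killer is trivial on a non-abelian component with a fixed character. -/
theorem killer_nab (h : LayerData ρ F σ S r p α Z τ Uop) {W : Submodule k M}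
    (hI : Inv ρ W) (hSI : ∀ w ∈ W, S w ∈ W) (hs : Scal (restr ρ hI) F σ)
    (hnab : ∃ a b, restr ρ hI a * restr ρ hI b ≠ restr ρ hI b * restr ρ hI a)
    {x : Q} (hx : Killer ρ σ S x) (w : W) : restr ρ hI x w = w := by
  classical
  have hlive : ∀ {V : Submodule k W} (hV : Inv (restr ρ hI) V)
      (hSV : ∀ v ∈ V, S.restrict hSI v ∈ V), V ≠ ⊥ →
      LiveData (restr (restr ρ hI) hV) F σ ((S.restrict hSI).restrict hSV) r p α Z τ := by
    intro V hV hSV hV0
    refine
      { card := h.card, prime := h.prime, rk := h.rk, cop := h.cop, pp := h.pp, grp := h.grp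
        expp := h.expp, pow := h.pow
        Spow := LinearMap.ext fun w => Subtype.ext (Subtype.ext (by
          rw [pow_restrict, pow_restrict, h.Spow]; rfl))
        Scomm := fun v => LinearMap.ext fun w => Subtype.ext (Subtype.ext
          (DFunLike.congr_fun (h.Scomm v) ((w : W) : M)))
        mem := h.mem, comm := h.comm
        scal := fun z hz => ⟨(hs z hz).1.imp fun c hc => LinearMap.ext fun w =>
            Subtype.ext (DFunLike.congr_fun hc (w : W)),
          LinearMap.ext fun w => Subtype.ext (DFunLike.congr_fun (hs z hz).2 (w : W))⟩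
        nab := ?_, amem := h.amem
        afix := fun u z hz => LinearMap.ext fun w => Subtype.ext (Subtype.ext
          (DFunLike.congr_fun (h.afix u z hz) ((w : W) : M)))
        atau := h.atau, agen := h.agen, ucop := h.ucop, pcop := h.pcop, upow := h.upow
        umem := h.umem, ucomm := h.ucomm, ucen := h.ucen, ufree := h.ufree, ugen := h.ugen }
    obtain ⟨a, b, hab⟩ := hnab
    obtain ⟨c, hc⟩ := (hs _ (h.comm b a)).1
    refine ⟨a, b, fun he => hab ((rho_comm_iff (restr ρ hI) b a).2 ?_)⟩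
    obtain ⟨v, hv, hv0⟩ := Submodule.ne_bot_iff _ |>.1 hV0
    have h1 := congrArg Subtype.val
      (DFunLike.congr_fun ((rho_comm_iff (restr (restr ρ hI) hV) b a).1 he) ⟨v, hv⟩)
    rw [coe_restr, hc, LinearMap.smul_apply, Module.End.one_apply] at h1
    have h2 : c = 1 := smul_left_injective k hv0 (h1.trans (one_smul k v).symm)
    rw [hc, h2, one_smul]
  have hnorm : ∀ v : W, S.restrict hSI v = v → restr ρ hI x v = v := by
    intro v hv
    by_contra hne
    have hW0 : (⊤ : Submodule k W) ≠ ⊥ := fun hb => hne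
      ((Submodule.mem_bot k).1 (hb ▸ Submodule.mem_top : restr ρ hI x v - v ∈ (⊥ : Submodule k W)) |>
        sub_eq_zero.1)
    have h1 := (hlive (V := ⊤) (fun _ _ _ => Submodule.mem_top) (fun _ _ => Submodule.mem_top)
      hW0).no_moved_fixed (v := ⟨restr ρ hI x v - v, Submodule.mem_top⟩) fun q =>
        Subtype.ext (Subtype.ext (hx.2 (v : M) (congrArg Subtype.val hv) q))
    exact hne (sub_eq_zero.1 (congrArg Subtype.val h1))
  rcases eq_or_ne w 0 with rfl | hw0
  · exact map_zero _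
  have htop : (⊤ : Submodule k W) ≠ ⊥ := fun hb =>
    hw0 ((Submodule.mem_bot k).1 (hb ▸ Submodule.mem_top))
  have L := hlive (V := ⊤) (fun _ _ _ => Submodule.mem_top) (fun _ _ => Submodule.mem_top) htop
  obtain ⟨v₀, hv₀, hSv₀⟩ := L.exists_fixed_vec (v := ⟨w, Submodule.mem_top⟩)
    fun h0 => hw0 (congrArg Subtype.val h0)
  obtain ⟨y, hy, hy0⟩ : ∃ y : W, S.restrict hSI y = y ∧ y ≠ 0 :=
    ⟨v₀, congrArg Subtype.val hSv₀, fun h0 => hv₀ (Subtype.ext h0)⟩
  haveI : Nontrivial W := nontrivial_of_ne y 0 hy0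
  -- `x` is in the radical
  choose g hg using fun q => (hs _ (h.comm x q)).1
  have hsm : ∀ {a b : k}, a • (1 : Module.End k W) = b • 1 → a = b := fun hab =>
    smul_left_injective k (one_ne_zero (α := Module.End k W)) hab
  let c : Q →* k :=
    { toFun := g
      map_one' := hsm (by rw [← hg]; simp)
      map_mul' := fun a b => hsm (by
        rw [← hg, show a * b * x * (a * b)⁻¹ * x⁻¹ =
            a * (b * x * b⁻¹ * x⁻¹) * a⁻¹ * (a * x * a⁻¹ * x⁻¹) by group,
          map_mul, map_mul, map_mul, hg b, mul_smul_comm, mul_one, smul_mul_assoc,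
          ← map_mul (restr ρ hI) a, mul_inv_cancel, map_one, smul_mul_assoc, one_mul, hg a, smul_smul,
          mul_comm]) }
  have hcσ : ∀ q, c (σ q) = c q := fun q => hsm (by
    show g (σ q) • (1 : Module.End k W) = g q • 1
    rw [← hg, ← hg, show σ q * x * (σ q)⁻¹ * x⁻¹ = σ (q * x * q⁻¹ * x⁻¹) by
      rw [map_mul, map_mul, map_mul, map_inv, map_inv, hx.1], (hs _ (h.comm x q)).2])
  have hcF : ∀ z ∈ F, c z = 1 := fun z hz => hsm (by
    show g z • (1 : Module.End k W) = (1 : k) • 1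
    rw [← hg, one_smul, ← rho_comm_iff]
    obtain ⟨d, hd⟩ := (hs z hz).1
    rw [hd, smul_mul_assoc, one_mul, mul_smul_comm, mul_one])
  have hcD : ∀ d, σ d = d → c d = 1 := by
    intro d hd
    have hyd : S.restrict hSI (restr ρ hI d y) = restr ρ hI d y := by
      refine Subtype.ext ?_
      show S (ρ d (y : M)) = ρ d (y : M)
      rw [← Module.End.mul_apply, h.Scomm, hd, Module.End.mul_apply,
        show S (y : M) = (y : M) from congrArg Subtype.val hy]
    have e1 : (restr ρ hI x * restr ρ hI d) y = (restr ρ hI d * restr ρ hI x) y := by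
      rw [Module.End.mul_apply, Module.End.mul_apply, hnorm _ hyd, hnorm _ hy]
    have e2 : restr ρ hI d * restr ρ hI x = g d • (restr ρ hI x * restr ρ hI d) := by
      rw [← map_mul, ← map_mul, show d * x = d * x * d⁻¹ * x⁻¹ * (x * d) by group, map_mul _ _ (x * d),
        hg, smul_mul_assoc, one_mul]
    rw [e2, LinearMap.smul_apply] at e1
    have hne : (restr ρ hI x * restr ρ hI d) y ≠ 0 := by
      rw [← map_mul]; exact rho_apply_ne _ _ hy0
    exact (smul_left_injective k hne ((one_smul k _).trans e1)).symm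
  have hc1 : ∀ q, c q = 1 := by
    intro q
    haveI := h.normal
    obtain ⟨d, hd, hdF⟩ := h.lift (fun z hz => (h.mem z).2 hz) (sprod_comm h.pow h.comm q)
    have hsp : ∀ n, c (sprod σ n q) = c q ^ n := by
      intro n
      induction n with
      | zero => rw [pow_zero]; exact map_one c
      | succ n ih =>
        have hp : ∀ m, c ((σ ^ m) q) = c q := by
          intro m
          induction m with
          | zero => rfl
          | succ m ih => rw [pow_succ', MulAut.mul_apply, hcσ, ih]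
        rw [sprod, map_mul, ih, hp, pow_succ]
    have h1 : c q ^ r = 1 := by
      rw [← hsp, ← hcD d hd]
      conv_rhs => rw [← mul_inv_cancel_left (sprod σ r q) d, map_mul, hcF _ hdF, mul_one]
    have h2 : c q ^ Nat.card Q = 1 := by rw [← map_pow, pow_card_eq_one', map_one]
    have h3 := pow_gcd_eq_one.2 ⟨h1, h2⟩
    rwa [h.cop, pow_one] at h3
  have hrad : ∀ q, Commute (restr ρ hI q) (restr ρ hI x) := fun q => (rho_comm_iff _ x q).2 (by
    rw [hg]; show c q • _ = _; rw [hc1, one_smul])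
  -- the moved part of `x` has no fixed vectors
  by_contra hne
  obtain ⟨V, hVdef⟩ : ∃ V, V = LinearMap.range (restr ρ hI x - 1) := ⟨_, rfl⟩
  have hV : Inv (restr ρ hI) V := by
    intro q v hv
    rw [hVdef] at hv ⊢
    obtain ⟨u, rfl⟩ := hv
    exact ⟨restr ρ hI q u, DFunLike.congr_fun (((hrad q).sub_right (Commute.one_right _)).eq.symm) u⟩
  have hSc : Commute (S.restrict hSI) (restr ρ hI x) := LinearMap.ext fun w => Subtype.ext (by
    show S (ρ x (w : M)) = ρ x (S (w : M))
    rw [← Module.End.mul_apply, h.Scomm, hx.1]; rfl)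
  have hSV : ∀ v ∈ V, S.restrict hSI v ∈ V := by
    intro v hv
    rw [hVdef] at hv ⊢
    obtain ⟨u, rfl⟩ := hv
    exact ⟨S.restrict hSI u,
      DFunLike.congr_fun ((hSc.sub_right (Commute.one_right _)).eq.symm) u⟩
  have hVm : restr ρ hI x w - w ∈ V := hVdef ▸ ⟨w, rfl⟩
  obtain ⟨⟨u, hu⟩, hu0, hSu⟩ := (hlive hV hSV fun hb => hne
    (sub_eq_zero.1 ((Submodule.mem_bot k).1 (hb ▸ hVm)))).exists_fixed_vec
      (v := ⟨_, hVm⟩) fun h0 => hne (sub_eq_zero.1 (congrArg Subtype.val h0))
  have hxu := hnorm u (congrArg Subtype.val hSu)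
  rw [hVdef] at hu
  obtain ⟨t, rfl⟩ := hu
  have hlin : ∀ n : ℕ, (restr ρ hI x ^ n) t = t + (n : k) • (restr ρ hI x - 1) t := by
    intro n
    induction n with
    | zero => simp
    | succ n ih =>
      rw [pow_succ', Module.End.mul_apply, ih, map_add, map_smul, hxu, Nat.cast_succ, add_smul,
        one_smul, LinearMap.sub_apply, Module.End.one_apply]
      abel
  have h5 := hlin (Nat.card Q)
  rw [← map_pow, pow_card_eq_one', map_one, Module.End.one_apply, left_eq_add] at h5
  exact hu0 (Subtype.ext ((smul_eq_zero.1 h5).resolve_left h.card))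

/-- The vectors fixed by all commutators. -/
def mab (ρ : Q →* Module.End k M) : Submodule k M where
  carrier := {v | ∀ a b : Q, ρ (b * a * b⁻¹ * a⁻¹) v = v}
  zero_mem' := fun a b => map_zero _
  add_mem' := fun {v w} hv hw a b => by rw [map_add, hv, hw]
  smul_mem' := fun c v hv a b => by rw [map_smul, hv]

theorem inv_mab (h : LayerData ρ F σ S r p α Z τ Uop) : Inv ρ (mab ρ) := fun q v hv a b => by
  rw [← Module.End.mul_apply, ← h.cen (h.comm a b) q, Module.End.mul_apply, hv a b]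

theorem comm_mab (h : LayerData ρ F σ S r p α Z τ Uop) (a b : Q) :
    restr ρ h.inv_mab a * restr ρ h.inv_mab b = restr ρ h.inv_mab b * restr ρ h.inv_mab a :=
  (rho_comm_iff _ b a).2 (LinearMap.ext fun w => Subtype.ext (w.2 b a))

theorem S_mab (h : LayerData ρ F σ S r p α Z τ Uop) : ∀ v ∈ mab ρ, S v ∈ mab ρ := fun v hv a b => by
  obtain ⟨a', rfl⟩ := σ.surjective a
  obtain ⟨b', rfl⟩ := σ.surjective b
  rw [show σ b' * σ a' * (σ b')⁻¹ * (σ a')⁻¹ = σ (b' * a' * b'⁻¹ * a'⁻¹) by
    simp only [map_mul, map_inv], ← Module.End.mul_apply, ← h.Scomm, Module.End.mul_apply, hv a' b']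

theorem U_mab (h : LayerData ρ F σ S r p α Z τ Uop) (u : U) : ∀ v ∈ mab ρ, Uop u v ∈ mab ρ :=
  fun v hv a b => by
  obtain ⟨a', rfl⟩ := (α u).surjective a
  obtain ⟨b', rfl⟩ := (α u).surjective b
  rw [show α u b' * α u a' * (α u b')⁻¹ * (α u a')⁻¹ = α u (b' * a' * b'⁻¹ * a'⁻¹) by
    simp only [map_mul, map_inv], ← Module.End.mul_apply, ← h.inter, Module.End.mul_apply, hv a' b']

end LayerData

end Cfsg.Agent.Solv.FHeight
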