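import Cfsg.Agent.Lib.Solv.FHeight.Layer

/-!
The layer lemma: killers lie in the Frattini part.
-/

set_option autoImplicit false
set_option linter.unusedSectionVars false
set_option linter.style.haveILetI false

namespace Cfsg.Agent.Solv.FHeight

open Module Cfsg.Agent.Perm.WeightIdem

variable {k : Type*} [Field k] {M : Type*} [AddCommGroup M] [Module k M] {Q : Type*} [Group Q]
  [Fintype Q] {U : Type*} [Group U] [Fintype U]

theorem idem_restr (ρ : Q →* Module.End k M) {W : Submodule k M} (hW : Inv ρ W) (H : Subgroup Q)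
    [Fintype (Abelianization H)] (hc : ∀ a ∈ H, ∀ b ∈ H, ρ a * ρ b = ρ b * ρ a)
    (hc' : ∀ a ∈ H, ∀ b ∈ H, restr ρ hW a * restr ρ hW b = restr ρ hW b * restr ρ hW a)
    (χ : Abelianization H →* kˣ) (w : W) :
    ((idem (abLift (restr ρ hW) H hc') χ w : W) : M) = idem (abLift ρ H hc) χ (w : M) := by
  simp only [idem, LinearMap.smul_apply, LinearMap.sum_apply, Submodule.coe_smul, Submodule.coe_sum]
  congr 1
  refine Finset.sum_congr rfl fun b _ => ?_
  obtain ⟨x, rfl⟩ := ab_of_surjective H b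
  rw [abLift_of, abLift_of, coe_restr]

theorem sum_pow_apply_fixed {k' : Type*} [Field k'] {F : Subgroup Q} {σ : MulAut Q}
    (hs : ∀ x ∈ F, σ.symm x ∈ F) (r : ℕ) (g : funs k' F) {x : Q} (hx : σ x = x) :
    ((avg (funPull k' σ hs) r g : funs k' F) : Q → k') x = (r : k') * (g : Q → k') x := by
  have hp : ∀ l, (((funPull k' σ hs ^ l) g : funs k' F) : Q → k') x = (g : Q → k') x := by
    intro l
    induction l with
    | zero => rfl
    | succ l ih =>
      rw [pow_succ', Module.End.mul_apply, funPull_apply,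
        show σ.symm x = x from (MulEquiv.symm_apply_eq σ).2 hx.symm, ih]
  rw [avg, LinearMap.sum_apply, Submodule.coe_sum, Finset.sum_apply,
    Finset.sum_congr rfl fun l _ => hp l, Finset.sum_const, Finset.card_range, nsmul_eq_mul]

/-- A discrete logarithm on the `p`-th roots of unity. -/
theorem exists_dlog (k' : Type*) [Field k'] {p : ℕ} [NeZero p] [CharP k' p] {ζ : kˣ}
    (hζ : IsPrimitiveRoot ζ p) :
    ∃ dl : kˣ → k', (∀ a b, a ^ p = 1 → b ^ p = 1 → dl (a * b) = dl a + dl b) ∧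
      ∀ a, a ^ p = 1 → dl a = 0 → a = 1 := by
  classical
  have hex : ∀ a : kˣ, a ^ p = 1 → ∃ i, ζ ^ i = a := fun a ha => by
    have ha' : (a : k) ^ p = 1 := by rw [← Units.val_pow_eq_pow_val, ha, Units.val_one]
    obtain ⟨i, -, hi⟩ := (IsPrimitiveRoot.coe_units_iff.2 hζ).eq_pow_of_pow_eq_one ha'
    exact ⟨i, Units.ext (by rw [Units.val_pow_eq_pow_val]; exact hi)⟩
  choose i hi using hex
  have hcast : ∀ a b : ℕ, ζ ^ a = ζ ^ b → (a : k') = (b : k') := fun a b hab => by
    rw [CharP.natCast_eq_natCast k' p, hζ.eq_orderOf]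
    exact pow_eq_pow_iff_modEq.1 hab
  refine ⟨fun a => if h : a ^ p = 1 then (i a h : k') else 0, fun a b ha hb => ?_, fun a ha h0 => ?_⟩
  · have hab : (a * b) ^ p = 1 := by rw [mul_pow, ha, hb, one_mul]
    simp only [dif_pos ha, dif_pos hb, dif_pos hab]
    rw [← Nat.cast_add]
    exact hcast _ _ (by rw [pow_add, hi, hi, hi])
  · simp only [dif_pos ha] at h0
    obtain ⟨c, hc⟩ := (CharP.cast_eq_zero_iff k' p _).1 h0
    rw [← hi a ha, hc, pow_mul, hζ.pow_eq_one, one_pow]

namespace LayerData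

variable {ρ : Q →* Module.End k M} {F : Subgroup Q} {σ : MulAut Q} {S : Module.End k M} {r p : ℕ}
  {α : U →* MulAut Q} {Z : Subgroup U} {τ : MulAut U} {Uop : U →* Module.End k M}

theorem symm_mem (h : LayerData ρ F σ S r p α Z τ Uop) : ∀ x ∈ F, σ.symm x ∈ F := fun x hx =>
  (h.mem _).1 (by rw [MulEquiv.apply_symm_apply]; exact hx)

/-- The representation of `U` on the functions. -/
theorem two_funs (h : LayerData ρ F σ S r p α Z τ Uop) (k' : Type*) [Field k'] [CharP k' p] :
    Two (funRep k' α h.amem) Z τ (funPull k' σ h.symm_mem) r ∧ NoU (funRep k' α h.amem) := by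
  refine ⟨
    { card := fun h0 => by
        rw [CharP.cast_eq_zero_iff k' p] at h0
        exact h.pp.ne_one (Nat.dvd_one.1 (h.pcop.gcd_eq_one ▸ Nat.dvd_gcd dvd_rfl h0))
      prime := h.prime
      rk := fun h0 => by
        rw [CharP.cast_eq_zero_iff k' p] at h0
        exact h.rp ((Nat.prime_dvd_prime_iff_eq h.pp h.prime).1 h0).symm
      cop := h.ucop
      pow := h.upow
      Spow := funPull_pow σ h.symm_mem h.pow
      Scomm := fun u => LinearMap.ext fun φ => funs_ext fun x => by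
        show (φ : Q → k') (α u⁻¹ (σ.symm x)) = (φ : Q → k') (σ.symm (α (τ u)⁻¹ x))
        refine congrArg (φ : Q → k') ((MulEquiv.eq_symm_apply σ).2 ?_)
        rw [← h.atau, MulEquiv.apply_symm_apply, map_inv τ]
      mem := h.umem
      comm := h.ucomm
      cen := fun z hz u => LinearMap.ext fun φ => funs_ext fun x => by
        show (φ : Q → k') (α z⁻¹ (α u⁻¹ x)) = (φ : Q → k') (α u⁻¹ (α z⁻¹ x))
        rw [← MulAut.mul_apply, ← MulAut.mul_apply, ← map_mul, ← map_mul]
        have h1 := funs_zero φ (h.ucen z⁻¹ (inv_mem hz) u⁻¹ x)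
        rw [funs_mul, funs_inv] at h1
        exact neg_add_eq_zero.1 h1
      free := h.ufree }, fun φ hφ => funs_ext fun y => ?_⟩
  let K : Subgroup Q :=
    { carrier := {a | (φ : Q → k') a = 0}
      one_mem' := funs_one φ
      mul_mem' := fun {a b} (ha : (φ : Q → k') a = 0) (hb : (φ : Q → k') b = 0) => by
        show (φ : Q → k') (a * b) = 0
        rw [funs_mul, ha, hb, add_zero]
      inv_mem' := fun {a} (ha : (φ : Q → k') a = 0) => by
        show (φ : Q → k') a⁻¹ = 0
        rw [funs_inv, ha, neg_zero] }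
  have hK : (⊤ : Subgroup Q) ≤ K := by
    rw [← h.agen, Subgroup.closure_le]
    rintro a (ha | ⟨u, x, rfl⟩)
    · exact funs_zero φ ha
    · exact funRep_fixed α _ (hφ u) x
  exact hK trivial

variable [IsAlgClosed k] [FiniteDimensional k M] {k' : Type*} [Field k'] [IsAlgClosed k'] [CharP k' p]

/-- Killers obtained by a linear operation from fixed elements lie in `F`. -/
theorem main (h : LayerData ρ F σ S r p α Z τ Uop) (π : Q → Q)
    (hπ1 : ∀ d, σ d = d → σ (π d) = π d)
    (hπ2 : ∀ (l : Q →* kˣ) a b, l (π (a * b)) = l (π a) * l (π b))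
    (hπ3 : ∀ (l : Q →* kˣ) q, ∏ u, l (π (α u q)) = ∏ u, l (α u (π q)))
    {eU : MulAut U} {E : Module.End k' (funs k' F)}
    (hE : ∀ (f : funs k' F) y, (f : Q → k') (π y) = 0 ↔
      ((E f : funs k' F) : Q → k') y = (f : Q → k') y)
    (hP : Pert (funRep k' α h.amem) Z τ (funPull k' σ h.symm_mem) eU E)
    (htame : (∀ u, u⁻¹ * eU u ∈ Z) ∨ ∃ t n, t.Prime ∧ t ≠ r ∧ t.Coprime (Nat.card U) ∧
      ∀ u, funRep k' α h.amem ((eU ^ t ^ n) u) = funRep k' α h.amem u)
    (hkill : ∀ d, σ d = d → Killer ρ σ S (π d)) {d : Q} (hd : σ d = d) : π d ∈ F := by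
  classical
  obtain ⟨hT, hNoU⟩ := h.two_funs k'
  haveI : NeZero p := ⟨h.pp.ne_zero⟩
  haveI := h.normal
  haveI := Fintype.ofFinite (Abelianization (⊤ : Subgroup Q))
  obtain ⟨ζ', hζ'⟩ := exists_primitive (k := k) h.pk
  obtain ⟨ζ, hζ⟩ : ∃ ζ : kˣ, IsPrimitiveRoot ζ p :=
    ⟨(hζ'.isUnit h.pp.ne_zero).unit, IsPrimitiveRoot.coe_units_iff.1 hζ'⟩
  obtain ⟨dl, hdl, hdl0⟩ := exists_dlog k' hζ
  have hI := h.inv_mab
  have hc : ∀ a ∈ (⊤ : Subgroup Q), ∀ b ∈ (⊤ : Subgroup Q),
      restr ρ hI a * restr ρ hI b = restr ρ hI b * restr ρ hI a := fun a _ b _ => h.comm_mab a b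
  have hσtop : ∀ x, σ x ∈ (⊤ : Subgroup Q) ↔ x ∈ (⊤ : Subgroup Q) := fun x => Iff.intro (fun _ => trivial) fun _ => trivial
  have hWab : Wts (abLift (restr ρ hI) ⊤ hc) (abAut σ ⊤ hσtop) (S.restrict h.S_mab) r :=
    mkWts h.card h.prime h.rk h.cop h.pow
      (LinearMap.ext fun w => Subtype.ext (by rw [pow_restrict, h.Spow]; rfl))
      (fun v => LinearMap.ext fun w => Subtype.ext (DFunLike.congr_fun (h.Scomm v) (w : M))) _ hc
  let ev : (Abelianization (⊤ : Subgroup Q) →* kˣ) → (Q →* kˣ) := fun χ =>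
    (χ.comp Abelianization.of).comp Subgroup.topEquiv.symm.toMonoidHom
  let Occ : (Abelianization (⊤ : Subgroup Q) →* kˣ) → Prop := fun χ =>
    ∃ v, idem (abLift (restr ρ hI) ⊤ hc) χ v ≠ 0
  have hval : ∀ χ v (q : Q), restr ρ hI q (idem (abLift (restr ρ hI) ⊤ hc) χ v) =
      (ev χ q : k) • idem (abLift (restr ρ hI) ⊤ hc) χ v := fun χ v q =>
    Wts.apply_comp (f := abLift (restr ρ hI) ⊤ hc) χ (Abelianization.of ⟨q, trivial⟩) v
  have hafix : ∀ χ, Occ χ → ∀ u, ∀ z ∈ F, ev χ (α u z) = ev χ z := by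
    rintro χ ⟨v, hv⟩ u z hz
    refine Units.ext (smul_left_injective k hv ?_)
    show (ev χ (α u z) : k) • _ = (ev χ z : k) • _
    rw [← hval, ← hval]
    exact Subtype.ext (DFunLike.congr_fun (h.afix u z hz) _)
  -- translates of occurring weights occur
  have htrans : ∀ χ, Occ χ → ∀ u, ∃ χ', Occ χ' ∧ ∀ q, ev χ' q = ev χ (α u q) := by
    rintro χ ⟨v, hv⟩ u
    have haα : ∀ x, α u x ∈ (⊤ : Subgroup Q) ↔ x ∈ (⊤ : Subgroup Q) := fun x => Iff.intro (fun _ => trivial) fun _ => trivial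
    have hint : ∀ b, (Uop u).restrict (h.U_mab u) * abLift (restr ρ hI) ⊤ hc b =
        abLift (restr ρ hI) ⊤ hc (abAut (α u) ⊤ haα b) * (Uop u).restrict (h.U_mab u) :=
      abLift_intw (restr ρ hI) ⊤ hc haα fun q => LinearMap.ext fun w =>
        Subtype.ext (DFunLike.congr_fun (h.inter u q) (w : M))
    refine ⟨χ.comp (abAut (α u) ⊤ haα).toMonoidHom, ⟨(Uop u⁻¹).restrict (h.U_mab u⁻¹) v, fun h0 => hv ?_⟩,
      fun q => rfl⟩
    have h1 := Wts.intw_comp hint χ ((Uop u⁻¹).restrict (h.U_mab u⁻¹) v)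
    rw [h0, map_zero] at h1
    have h2 : (Uop u).restrict (h.U_mab u) ((Uop u⁻¹).restrict (h.U_mab u⁻¹) v) = v := Subtype.ext (by
      show Uop u (Uop u⁻¹ (v : M)) = (v : M)
      rw [← Module.End.mul_apply, ← map_mul, mul_inv_cancel, map_one, Module.End.one_apply])
    rwa [h2] at h1
  let φ : (Q →* kˣ) → Q → kˣ := fun l y => l y ^ Nat.card U / ∏ u, l (α u y)
  have hφmul : ∀ l a b, φ l (a * b) = φ l a * φ l b := fun l a b => by
    simp only [φ, map_mul, mul_pow, Finset.prod_mul_distrib, mul_div_mul_comm]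
  have hφF : ∀ χ, Occ χ → ∀ z ∈ F, φ (ev χ) z = 1 := fun χ hχ z hz => by
    simp only [φ]
    rw [Finset.prod_congr rfl fun u _ => hafix χ hχ u z hz, Finset.prod_const, Finset.card_univ,
      ← Nat.card_eq_fintype_card, div_self']
  have hφp : ∀ χ, Occ χ → ∀ y, φ (ev χ) y ^ p = 1 := fun χ hχ y => by
    have hp : ∀ n, φ (ev χ) (y ^ n) = φ (ev χ) y ^ n := by
      intro n
      induction n with
      | zero => rw [pow_zero, pow_zero]; exact hφF χ hχ 1 (one_mem _)
      | succ n ih => rw [pow_succ, hφmul, ih, pow_succ]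
    rw [← hp]; exact hφF χ hχ _ (h.expp y)
  have hdl1 : dl 1 = 0 := by
    have h1 := hdl 1 1 (one_pow p) (one_pow p)
    rw [one_mul] at h1
    exact left_eq_add.1 h1
  let fl : ∀ χ, Occ χ → funs k' F := fun χ hχ => ⟨fun y => dl (φ (ev χ) y),
    fun a b => by
      show dl (φ (ev χ) (a * b)) = _
      rw [hφmul]; exact hdl _ _ (hφp χ hχ a) (hφp χ hχ b),
    fun a ha => by
      show dl (φ (ev χ) a) = 0
      rw [hφF χ hχ a ha]; exact hdl1⟩
  -- the averaged element
  have hkey : ∀ d, σ d = d → ∃ d₁, σ d₁ = d₁ ∧ (∀ l : Q →* kˣ, l (π d₁) = φ l (π d)) ∧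
      ∀ g : funs k' F, (g : Q → k') (π d₁) = 0 →
        ∃ c : k', c = (Nat.card U : k') ∧ c * (((E g : funs k' F) : Q → k') d - (g : Q → k') d) = 0 := by
    intro d hd
    let Y : Abelianization Q := Abelianization.of d ^ Nat.card U / ∏ u, Abelianization.of (α u d)
    obtain ⟨y, hy⟩ : ∃ y, Abelianization.of y = Y := QuotientGroup.mk'_surjective _ Y
    have hYσ : Abelianization.of (σ y) = Y := by
      rw [← abelianizationCongr_of σ y, hy]
      simp only [Y, map_div, map_pow, map_prod, abelianizationCongr_of, hd]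
      congr 1
      rw [← Equiv.prod_comp τ.toEquiv fun u => Abelianization.of (α u d)]
      refine Finset.prod_congr rfl fun u _ => ?_
      rw [← h.atau, hd]; rfl
    have hyc : y⁻¹ * σ y ∈ commutator Q := QuotientGroup.eq.1 (hy.trans hYσ.symm)
    obtain ⟨d₁, hd₁, hd₁y⟩ := h.lift (N := commutator Q) (fun x hx =>
      Subgroup.characteristic_iff_le_comap.1 (inferInstance : (commutator Q).Characteristic) σ hx) hyc
    have hof : Abelianization.of d₁ = Y :=
      hy ▸ (QuotientGroup.eq.2 hd₁y : (y : Q ⧸ commutator Q) = d₁).symm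
    refine ⟨d₁, hd₁, fun l => ?_, fun g hg => ⟨_, rfl, ?_⟩⟩
    · let lπ : Q →* kˣ := MonoidHom.mk' (fun q => l (π q)) fun a b => hπ2 l a b
      have h1 : Abelianization.lift lπ (Abelianization.of d₁) = lπ d₁ := rfl
      rw [hof] at h1
      show lπ d₁ = _
      rw [← h1]
      simp only [Y, map_div, map_pow, map_prod]
      show lπ d ^ Nat.card U / ∏ u, lπ (α u d) = _
      rw [show (∏ u, lπ (α u d)) = ∏ u, l (α u (π d)) from hπ3 l d]
      rfl
    · obtain ⟨G, hG⟩ : ∃ G : funs k' F, G = E g - g := ⟨_, rfl⟩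
      have hGd₁ : (G : Q → k') d₁ = 0 := by
        rw [hG]; show ((E g : funs k' F) : Q → k') d₁ - (g : Q → k') d₁ = 0
        rw [(hE g d₁).1 hg, sub_self]
      -- `d₁` is a power of `d` modulo `F`
      let Gm : Q →* Multiplicative k' := MonoidHom.mk'
        (fun q => Multiplicative.ofAdd ((G : Q → k') q)) fun a b => by rw [funs_mul]; rfl
      have h2 : Abelianization.lift Gm (Abelianization.of d₁) = Multiplicative.ofAdd (0 : k') := by
        rw [Abelianization.lift_apply_of, ← hGd₁]; rfl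
      rw [hof] at h2
      simp only [Y, map_div, map_pow, map_prod, Abelianization.lift_apply_of] at h2
      have h2' := (congrArg Multiplicative.toAdd h2).symm
      have hsum : ∑ u, (G : Q → k') (α u d) = 0 := by
        have hinv : ∀ w x, ∑ u, (G : Q → k') (α u (α w x)) = ∑ u, (G : Q → k') (α u x) := fun w x => by
          conv_rhs => rw [← Equiv.sum_comp (Equiv.mulRight w) fun u => (G : Q → k') (α u x)]
          exact Finset.sum_congr rfl fun u _ => by rw [← MulAut.mul_apply, ← map_mul]; rfl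
        let K : Subgroup Q :=
          { carrier := {x | ∑ u, (G : Q → k') (α u x) = 0}
            one_mem' := Finset.sum_eq_zero fun u _ => by rw [map_one]; exact funs_one G
            mul_mem' := fun {a b} (ha : ∑ u, (G : Q → k') (α u a) = 0)
                (hb : ∑ u, (G : Q → k') (α u b) = 0) => by
              show ∑ u, (G : Q → k') (α u (a * b)) = 0
              simp only [map_mul, funs_mul, Finset.sum_add_distrib, ha, hb, add_zero]
            inv_mem' := fun {a} (ha : ∑ u, (G : Q → k') (α u a) = 0) => by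
              show ∑ u, (G : Q → k') (α u a⁻¹) = 0
              simp only [map_inv, funs_inv, Finset.sum_neg_distrib, ha, neg_zero] }
        have hK : (⊤ : Subgroup Q) ≤ K := by
          rw [← h.agen, Subgroup.closure_le]
          rintro a (ha | ⟨w, x, rfl⟩)
          · exact Finset.sum_eq_zero fun u _ => funs_zero G (h.amem u a ha)
          · show ∑ u, (G : Q → k') (α u (x⁻¹ * α w x)) = 0
            simp only [map_mul, map_inv, funs_mul, funs_inv, Finset.sum_add_distrib,
              Finset.sum_neg_distrib, hinv, neg_add_cancel]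
        exact hK (Subgroup.mem_top d)
      simp only [toAdd_div, toAdd_pow, toAdd_prod, toAdd_ofAdd] at h2'
      change 0 = Nat.card U • (G : Q → k') d - ∑ u, (G : Q → k') (α u d) at h2'
      rw [hsum, sub_zero, nsmul_eq_mul, hG] at h2'
      exact h2'.symm
  -- moved weights
  have hmoved : ∀ χ, Occ χ → ¬ FixedChar (abAut σ ⊤ hσtop) χ → ∀ x, Killer ρ σ S x → ev χ x = 1 := by
    rintro χ ⟨v, hv⟩ hχ x hx
    have h1 := h.killer_moved hI h.S_mab hσtop hc hx (fun z _ => h.comm_mab x z) hχ v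
    rw [hval] at h1
    exact Units.ext (smul_left_injective k hv (h1.trans (one_smul k _).symm))
  have hzero : ∀ χ (hχ : Occ χ), ¬ FixedChar (abAut σ ⊤ hσtop) χ → ∀ d, σ d = d →
      (fl χ hχ : Q → k') (π d) = 0 := fun χ hχ hm d hd => by
    obtain ⟨d₁, hd₁, hl, -⟩ := hkey d hd
    show dl (φ (ev χ) (π d)) = 0
    rw [← hl, hmoved χ hχ hm _ (hkill d₁ hd₁)]
    exact hdl1
  have hfixed : ∀ χ (hχ : Occ χ), FixedChar (abAut σ ⊤ hσtop) χ → E (fl χ hχ) = fl χ hχ := by
    intro χ hχ hfx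
    have hlσ : ∀ q, ev χ (σ q) = ev χ q := fun q => hfx (Abelianization.of ⟨q, trivial⟩)
    refine hT.fix_of_sums h.ugen hNoU hP htame (funs_ext fun y => ?_) fun u => ?_
    · show dl (φ (ev χ) (σ.symm y)) = dl (φ (ev χ) y)
      congr 1
      conv_rhs => rw [← σ.apply_symm_apply y]
      simp only [φ, hlσ]
      congr 1
      conv_rhs => rw [← Equiv.prod_comp τ.toEquiv fun u => ev χ (α u (σ (σ.symm y)))]
      refine Finset.prod_congr rfl fun u _ => ?_
      show ev χ (α u (σ.symm y)) = ev χ (α (τ u) (σ (σ.symm y)))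
      rw [h.atau, hlσ]
    obtain ⟨χ', hχ', hev⟩ := htrans χ hχ u⁻¹
    have hg : funRep k' α h.amem u (fl χ hχ) = fl χ' hχ' := funs_ext fun y => by
      show dl (φ (ev χ) (α u⁻¹ y)) = dl (φ (ev χ') y)
      congr 1
      simp only [φ, hev]
      congr 1
      refine Eq.trans (Fintype.prod_equiv (Equiv.mulRight u⁻¹) _ (fun w => ev χ (α w y)) fun w => ?_)
        (Fintype.prod_equiv (Equiv.mulLeft u⁻¹) _ _ fun w => ?_).symm
      · show ev χ (α w (α u⁻¹ y)) = ev χ (α (w * u⁻¹) y)
        rw [map_mul, MulAut.mul_apply]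
      · show ev χ (α u⁻¹ (α w y)) = ev χ (α (u⁻¹ * w) y)
        rw [map_mul, MulAut.mul_apply]
    rw [hg]
    by_cases hfx' : FixedChar (abAut σ ⊤ hσtop) χ'
    · left
      have hlσ' : ∀ q, ev χ' (σ q) = ev χ' q := fun q => hfx' (Abelianization.of ⟨q, trivial⟩)
      refine funs_ext fun y => ?_
      show dl (φ (ev χ') (σ.symm y)) = dl (φ (ev χ') y)
      congr 1
      conv_rhs => rw [← σ.apply_symm_apply y]
      simp only [φ, hlσ']
      congr 1
      conv_rhs => rw [← Equiv.prod_comp τ.toEquiv fun u => ev χ' (α u (σ (σ.symm y)))]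
      refine Finset.prod_congr rfl fun w _ => ?_
      show ev χ' (α w (σ.symm y)) = ev χ' (α (τ w) (σ (σ.symm y)))
      rw [h.atau, hlσ']
    right
    obtain ⟨g, hgdef⟩ : ∃ g, g = avg (funPull k' σ h.symm_mem) r (fl χ' hχ') := ⟨_, rfl⟩
    rw [← hgdef]
    obtain ⟨G, hG⟩ : ∃ G : funs k' F, G = E g - g := ⟨_, rfl⟩
    have hgS : funPull k' σ h.symm_mem g = g := hgdef ▸ apply_avg hT.Spow _
    have hGS : funPull k' σ h.symm_mem G = G := by
      rw [hG, map_sub, ← Module.End.mul_apply, ← hP.commS, Module.End.mul_apply, hgS]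
    have hGd : ∀ d, σ d = d → (G : Q → k') d = 0 := fun d hd => by
      have h1 : (g : Q → k') (π d) = 0 := by
        rw [hgdef, sum_pow_apply_fixed h.symm_mem r _ (hπ1 d hd), hzero χ' hχ' hfx' d hd, mul_zero]
      rw [hG]; show ((E g : funs k' F) : Q → k') d - (g : Q → k') d = 0
      rw [(hE g d).1 h1, sub_self]
    refine sub_eq_zero.1 (hG ▸ (funs_ext fun y => ?_ : G = 0))
    show (G : Q → k') y = 0
    obtain ⟨c, hc, hcF⟩ := h.lift (fun z hz => (h.mem z).2 hz) (sprod_comm h.pow h.comm y)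
    have hGσ : ∀ i, (G : Q → k') ((σ ^ i) y) = (G : Q → k') y := by
      intro i
      induction i with
      | zero => rfl
      | succ i ih =>
        rw [pow_succ', MulAut.mul_apply]
        conv_lhs => rw [← hGS, funPull_apply, MulEquiv.symm_apply_apply, ih]
    have hsp : ∀ n, (G : Q → k') (sprod σ n y) = (n : k') * (G : Q → k') y := by
      intro n
      induction n with
      | zero => rw [Nat.cast_zero, zero_mul]; exact funs_one G
      | succ n ih => rw [sprod, funs_mul, ih, hGσ, Nat.cast_succ, add_mul, one_mul]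
    have h2 := funs_zero G hcF
    rw [funs_mul, funs_inv, hGd c hc, add_zero, neg_eq_zero, hsp] at h2
    exact (mul_eq_zero.1 h2).resolve_left hT.rk
  have hφ1 : ∀ χ, Occ χ → φ (ev χ) (π d) = 1 := fun χ hχ => by
    refine hdl0 _ (hφp χ hχ _) ?_
    by_cases hfx : FixedChar (abAut σ ⊤ hσtop) χ
    · exact (hE (fl χ hχ) d).2 (by rw [hfixed χ hχ hfx])
    · exact hzero χ hχ hfx d hd
  -- the averaged killer is trivial
  obtain ⟨d₁, hd₁, hl, hlin⟩ := hkey d hd
  have hk := hkill d₁ hd₁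
  obtain ⟨x, hx⟩ : ∃ x, x = π d₁ := ⟨_, rfl⟩
  rw [← hx] at hk
  have hmab : ∀ v : mab ρ, restr ρ hI x v = v := fun v => hWab.ext_comp fun χ => by
    rw [show restr ρ hI x = abLift (restr ρ hI) ⊤ hc (Abelianization.of ⟨x, trivial⟩) from rfl,
      Wts.comp_apply']
    by_cases hv : idem (abLift (restr ρ hI) ⊤ hc) χ v = 0
    · rw [hv, smul_zero]
    · have h1 : ev χ x = 1 := by rw [hx, hl]; exact hφ1 χ ⟨v, hv⟩
      show (ev χ x : k) • _ = _
      rw [h1, Units.val_one, one_smul]
  haveI := Fintype.ofFinite (Abelianization F)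
  have hcF : ∀ a ∈ F, ∀ b ∈ F, ρ a * ρ b = ρ b * ρ a := fun a _ b hb => h.cen hb a
  have hWF : Wts (abLift ρ F hcF) (abAut σ F h.mem) S r :=
    mkWts h.card h.prime h.rk h.cop h.pow h.Spow h.Scomm _ hcF
  have hρx : ρ x = 1 := LinearMap.ext fun v => hWF.ext_comp fun χ => by
    rw [Module.End.one_apply, show idem (abLift ρ F hcF) χ (ρ x v) =
      ρ x (idem (abLift ρ F hcF) χ v) from DFunLike.congr_fun
        (commute_idem (abLift ρ F hcF) χ (y := ρ x) fun b => by
          obtain ⟨z, rfl⟩ := ab_of_surjective F b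
          exact h.cen z.2 x).eq.symm v]
    by_cases hχ : FixedChar (abAut σ F h.mem) χ
    · have hIW : Inv ρ (wspace (abLift ρ F hcF) χ) := fun q w hw => hWF.map_wspace (fun b => by
        obtain ⟨z, rfl⟩ := ab_of_surjective F b
        exact h.cen z.2 q) hw
      have hSW : ∀ w ∈ wspace (abLift ρ F hcF) χ, S w ∈ wspace (abLift ρ F hcF) χ :=
        fun w hw => hWF.S_wspace hχ hw
      have key : ∀ z : F, ∀ w : wspace (abLift ρ F hcF) χ,
          restr ρ hIW z w = (χ (Abelianization.of z) : k) • w := fun z w => Subtype.ext (by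
        rw [coe_restr, Submodule.coe_smul]
        exact hWF.wspace_smul w.2 (Abelianization.of z))
      have hs : Scal (restr ρ hIW) F σ := fun z hz => ⟨⟨_, LinearMap.ext fun w => key ⟨z, hz⟩ w⟩,
        LinearMap.ext fun w => by
          rw [key ⟨σ z, (h.mem z).2 hz⟩ w, key ⟨z, hz⟩ w,
            show (Abelianization.of (⟨σ z, (h.mem z).2 hz⟩ : F)) =
              abAut σ F h.mem (Abelianization.of ⟨z, hz⟩) from rfl, hχ]⟩
      by_cases hnab : ∃ a b, restr ρ hIW a * restr ρ hIW b ≠ restr ρ hIW b * restr ρ hIW a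
      · exact congrArg Subtype.val (h.killer_nab hIW hSW hs hnab hk
          (⟨_, Wts.idem_mem χ v⟩ : wspace (abLift ρ F hcF) χ))
      · push Not at hnab
        have hm : idem (abLift ρ F hcF) χ v ∈ mab ρ := fun a b => congrArg Subtype.val
          (DFunLike.congr_fun ((rho_comm_iff (restr ρ hIW) a b).1 (hnab b a))
            (⟨_, Wts.idem_mem χ v⟩ : wspace (abLift ρ F hcF) χ))
        exact congrArg Subtype.val (hmab ⟨_, hm⟩)
    · have hIT : Inv ρ (⊤ : Submodule k M) := fun _ _ _ => Submodule.mem_top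
      have hcT : ∀ a ∈ F, ∀ b ∈ F, restr ρ hIT a * restr ρ hIT b = restr ρ hIT b * restr ρ hIT a :=
        fun a ha b hb => LinearMap.ext fun w => Subtype.ext (DFunLike.congr_fun (hcF a ha b hb) (w : M))
      have h1 := congrArg Subtype.val (h.killer_moved hIT (fun _ _ => Submodule.mem_top) h.mem hcT hk
        (fun z hz => LinearMap.ext fun w => Subtype.ext (DFunLike.congr_fun (h.cen hz x) (w : M)))
        hχ ⟨v, Submodule.mem_top⟩)
      rwa [coe_restr, idem_restr ρ hIT F hcF hcT] at h1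
  have hxF : π d₁ ∈ F := hx ▸ h.ker x hρx
  by_contra hne
  obtain ⟨g, hg⟩ := funs_sep (k := k') h.pp h.normal h.comm h.expp hne
  obtain ⟨c, hc', hc0⟩ := hlin g (funs_zero g hxF)
  exact hg ((hE g d).2 (sub_eq_zero.1 ((mul_eq_zero.1 hc0).resolve_left (hc' ▸ hT.card))))

end LayerData

end Cfsg.Agent.Solv.FHeight
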