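import Cfsg.Agent.Lib.Solv.FHeight.Pairing

/-!
A fixed vector, the orbit sums of its translates and an operator fixing these sums.
-/

set_option autoImplicit false
set_option linter.unusedSectionVars false
set_option linter.style.haveILetI false

namespace Cfsg.Agent.Solv.FHeight

open Module

variable {k : Type*} [Field k] {M : Type*} [AddCommGroup M] [Module k M] {U : Type*} [Group U]
  [Fintype U]

/-- The sum of the powers of `S`. -/
noncomputable def avg (S : Module.End k M) (r : ℕ) : Module.End k M := ∑ l ∈ Finset.range r, S ^ l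

theorem commute_avg {E S : Module.End k M} (r : ℕ) (h : Commute E S) : Commute E (avg S r) :=
  Commute.sum_right _ _ _ fun l _ => h.pow_right l

theorem avg_fixed {S : Module.End k M} (r : ℕ) {x : M} (h : S x = x) :
    avg S r x = (r : k) • x := by
  have hp : ∀ l, (S ^ l) x = x := by
    intro l
    induction l with
    | zero => rfl
    | succ l ih => rw [pow_succ, Module.End.mul_apply, h, ih]
  rw [avg, LinearMap.sum_apply, Finset.sum_congr rfl fun l _ => hp l, Finset.sum_const,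
    Finset.card_range, Nat.cast_smul_eq_nsmul]

theorem apply_avg {S : Module.End k M} {r : ℕ} (h : S ^ r = 1) (x : M) :
    S (avg S r x) = avg S r x := by
  have h1 : S * avg S r = avg S r := by
    rw [avg, Finset.mul_sum]
    simp only [← pow_succ']
    have h2 := Finset.sum_range_succ' (fun l => S ^ l) r
    rw [Finset.sum_range_succ, h, pow_zero] at h2
    exact (add_right_cancel h2).symm
  exact DFunLike.congr_fun h1 x

/-- An operator `E` inducing `e` on the image and commuting with `S`. -/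
structure Pert (ρ : U →* Module.End k M) (Z : Subgroup U) (σ : MulAut U) (S : Module.End k M)
    (e : MulAut U) (E : Module.End k M) : Prop where
  fix : ∀ z ∈ Z, ρ (e z) = ρ z
  mem : ∀ u, e u ∈ Z ↔ u ∈ Z
  comm : e * σ = σ * e
  intw : ∀ v, E * ρ v = ρ (e v) * E
  commS : E * S = S * E

theorem Pert.npow {ρ : U →* Module.End k M} {Z : Subgroup U} {σ : MulAut U} {S : Module.End k M}
    {e : MulAut U} {E : Module.End k M} (h : Pert ρ Z σ S e E) :
    ∀ n, Pert ρ Z σ S (e ^ n) (E ^ n)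
  | 0 => ⟨fun _ _ => rfl, fun _ => Iff.rfl, by simp, fun v => by simp, by simp⟩
  | n + 1 => by
    have ih := h.npow n
    refine ⟨fun z hz => ?_, fun u => ?_, ((show Commute e σ from h.comm).pow_left _).eq,
      fun v => ?_, ((show Commute E S from h.commS).pow_left _).eq⟩
    · rw [pow_succ', MulAut.mul_apply, h.fix _ ((ih.mem z).2 hz), ih.fix z hz]
    · rw [pow_succ', MulAut.mul_apply, h.mem, ih.mem]
    · rw [pow_succ', mul_assoc, ih.intw, ← mul_assoc, h.intw, mul_assoc, pow_succ' e,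
        MulAut.mul_apply]

/-- `u` moved off the line gives an orbit sum fixed by `E`. -/
def SumFix (ρ : U →* Module.End k M) (S : Module.End k M) (r : ℕ) (ξ : M) (E : Module.End k M) :
    Prop := ∀ u, u ∉ line ρ ξ → E (avg S r (ρ u ξ)) = avg S r (ρ u ξ)

theorem SumFix.npow {ρ : U →* Module.End k M} {S : Module.End k M} {r : ℕ} {ξ : M}
    {E : Module.End k M} (h : SumFix ρ S r ξ E) : ∀ n, SumFix ρ S r ξ (E ^ n)
  | 0 => fun _ _ => rfl
  | n + 1 => fun u hu => by rw [pow_succ, Module.End.mul_apply, h u hu, h.npow n u hu]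

/-- The line stabiliser is its own annihilator. -/
def Lag {ρ : U →* Module.End k M} {Z : Subgroup U} (h : Nd ρ Z) (ξ : M) : Prop :=
  ∀ u, (∀ v ∈ line ρ ξ, h.pair v u = 1) → u ∈ line ρ ξ

variable [IsAlgClosed k] [FiniteDimensional k M] [Nontrivial M] {ρ : U →* Module.End k M}
  {Z : Subgroup U} {σ : MulAut U} {S : Module.End k M} {r : ℕ} {ξ : M}

namespace Act

theorem line_Z (h : Act ρ Z σ S r) (hξ : ξ ≠ 0) : Z ≤ line ρ ξ := fun z hz => by
  obtain ⟨c, hc⟩ := h.toNd.scal z hz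
  exact mem_line hξ (c := c) (by rw [hc]; rfl)

theorem lineChar_Z (h : Act ρ Z σ S r) (hξ : ξ ≠ 0) {z : U} (hz : z ∈ Z) :
    ρ z = lineChar ρ ξ z • 1 := by
  obtain ⟨c, hc⟩ := h.toNd.scal z hz
  have h1 := lineChar_spec (h.line_Z hξ hz)
  rw [hc, LinearMap.smul_apply, Module.End.one_apply] at h1
  rw [hc, smul_left_injective k hξ h1]

theorem line_sigma (h : Act ρ Z σ S r) (hξ : ξ ≠ 0) (hS : S ξ = ξ) {v : U} (hv : v ∈ line ρ ξ) :
    σ v ∈ line ρ ξ ∧ lineChar ρ ξ (σ v) = lineChar ρ ξ v := by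
  have h1 : ρ (σ v) ξ = lineChar ρ ξ v • ξ := by
    conv_lhs => rw [← hS, ← Module.End.mul_apply, ← h.Scomm, Module.End.mul_apply, lineChar_spec hv,
      map_smul, hS]
  exact ⟨mem_line hξ h1,
    smul_left_injective k hξ ((lineChar_spec (mem_line hξ h1)).symm.trans h1)⟩

theorem line_sigma_pow (h : Act ρ Z σ S r) (hξ : ξ ≠ 0) (hS : S ξ = ξ) {v : U}
    (hv : v ∈ line ρ ξ) : ∀ n, (σ ^ n) v ∈ line ρ ξ ∧ lineChar ρ ξ ((σ ^ n) v) = lineChar ρ ξ v
  | 0 => ⟨hv, rfl⟩
  | n + 1 => by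
    obtain ⟨h1, h2⟩ := h.line_sigma_pow hξ hS hv n
    rw [pow_succ', MulAut.mul_apply]
    exact ⟨(h.line_sigma hξ hS h1).1, (h.line_sigma hξ hS h1).2.trans h2⟩

theorem line_sigma_iff (h : Act ρ Z σ S r) (hξ : ξ ≠ 0) (hS : S ξ = ξ) {v : U} :
    σ v ∈ line ρ ξ ↔ v ∈ line ρ ξ := by
  refine ⟨fun hv => ?_, fun hv => (h.line_sigma hξ hS hv).1⟩
  have h1 := (h.line_sigma_pow hξ hS hv (r - 1)).1
  rwa [← MulAut.mul_apply, ← pow_succ, Nat.sub_add_cancel h.prime.one_le, h.pow] at h1

theorem line_normal (h : Act ρ Z σ S r) (hξ : ξ ≠ 0) : (line ρ ξ).Normal :=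
  ⟨fun n hn g => by
    have h1 := mul_mem (h.line_Z hξ (h.toNd.comm n g)) hn
    rwa [inv_mul_cancel_right] at h1⟩

theorem line_iso (h : Act ρ Z σ S r) (hξ : ξ ≠ 0) {v w : U} (hv : v ∈ line ρ ξ)
    (hw : w ∈ line ρ ξ) : h.toNd.pair v w = 1 := by
  have h1 : ρ (v * w * v⁻¹) ξ = lineChar ρ ξ w • ξ := by
    have h2 : ρ v⁻¹ ξ = lineChar ρ ξ v⁻¹ • ξ := lineChar_spec (inv_mem hv)
    have h3 : lineChar ρ ξ v⁻¹ * lineChar ρ ξ v = 1 := smul_left_injective k hξ (by
      show (lineChar ρ ξ v⁻¹ * lineChar ρ ξ v) • ξ = (1 : k) • ξ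
      rw [mul_smul, one_smul, ← lineChar_spec hv, ← map_smul, ← h2, ← Module.End.mul_apply,
        ← map_mul, mul_inv_cancel, map_one, Module.End.one_apply])
    rw [map_mul, map_mul, Module.End.mul_apply, Module.End.mul_apply, h2, map_smul, map_smul,
      lineChar_spec hw, map_smul, lineChar_spec hv, smul_smul, smul_smul]
    congr 1
    rw [mul_right_comm, h3, one_mul]
  rw [h.toNd.pair_spec, LinearMap.smul_apply, lineChar_spec hw, smul_smul] at h1
  have h4 := smul_left_injective k hξ h1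
  have h5 : lineChar ρ ξ w ≠ 0 := fun h0 => rho_apply_ne ρ w hξ (by
    rw [lineChar_spec hw, h0, zero_smul])
  exact (mul_eq_right₀ h5).1 h4

theorem wt_translate (h : Act ρ Z σ S r) {η : M} (hη : Wt ρ (line ρ ξ) η (lineChar ρ ξ)) (u : U) :
    Wt ρ (line ρ ξ) (ρ u η) (fun v => h.toNd.pair v u * lineChar ρ ξ v) := fun v hv => by
  rw [← Module.End.mul_apply, ← map_mul, show v * u = v * u * v⁻¹ * v by group, map_mul,
    h.toNd.pair_spec, Module.End.mul_apply, LinearMap.smul_apply, hη v hv, map_smul, smul_smul]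

theorem wt_self : Wt ρ (line ρ ξ) ξ (lineChar ρ ξ) := fun _ hv => lineChar_spec hv

theorem card_line_ne (h : Act ρ Z σ S r) : (Nat.card (line ρ ξ) : k) ≠ 0 := by
  intro h0
  obtain ⟨c, hc⟩ := Subgroup.card_subgroup_dvd_card (line ρ ξ)
  exact h.toNd.card (by rw [hc, Nat.cast_mul, h0, zero_mul])

/-- The weight of `u`. -/
noncomputable def proj (h : Act ρ Z σ S r) (ξ : M) (u : U) : Module.End k M :=
  wproj ρ (line ρ ξ) (fun v => h.toNd.pair v u * lineChar ρ ξ v)

theorem proj_same (h : Act ρ Z σ S r) (hξ : ξ ≠ 0) {η : M} (hη : Wt ρ (line ρ ξ) η (lineChar ρ ξ))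
    {u u' : U} (huu : u⁻¹ * u' ∈ line ρ ξ) :
    h.proj ξ u (ρ u' η) = (Nat.card (line ρ ξ) : k) • ρ u' η := by
  rcases eq_or_ne η 0 with rfl | hη0
  · simp
  refine wproj_same (h.wt_translate hη u') (rho_apply_ne ρ u' hη0) fun v hv => ?_
  have h1 : h.toNd.pair v u' = h.toNd.pair v u := by
    conv_lhs => rw [← mul_inv_cancel_left u u', h.toNd.pair_mul_right, h.line_iso hξ hv huu, mul_one]
  rw [h1]

theorem proj_diff (h : Act ρ Z σ S r) (hξ : ξ ≠ 0) (hlag : Lag h.toNd ξ) {η : M}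
    (hη : Wt ρ (line ρ ξ) η (lineChar ρ ξ)) {u u' : U} (huu : u⁻¹ * u' ∉ line ρ ξ) :
    h.proj ξ u (ρ u' η) = 0 := by
  rcases eq_or_ne η 0 with rfl | hη0
  · simp
  obtain ⟨w, hw, hne⟩ : ∃ w ∈ line ρ ξ, h.toNd.pair w u' ≠ h.toNd.pair w u := by
    by_contra hno
    push Not at hno
    exact huu (hlag _ fun v hv => by
      rw [h.toNd.pair_mul_right, h.toNd.pair_inv_right, hno v hv,
        inv_mul_cancel₀ (h.toNd.pair_ne v u)])
  refine wproj_diff (h.wt_translate hη u') (h.wt_translate hη u) (rho_apply_ne ρ u hη0) hw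
    fun he => hne (mul_right_cancel₀ ?_ he)
  exact Wt.ne_zero (x := η) hη hη0 hw

theorem avg_translate (h : Act ρ Z σ S r) {η : M} (hS : S η = η) (u : U) :
    avg S r (ρ u η) = ∑ l ∈ Finset.range r, ρ ((σ ^ l) u) η := by
  rw [avg, LinearMap.sum_apply]
  refine Finset.sum_congr rfl fun l hl => ?_
  clear hl
  induction l with
  | zero => rfl
  | succ l ih =>
    rw [pow_succ', Module.End.mul_apply, ih, ← Module.End.mul_apply, h.Scomm, Module.End.mul_apply,
      hS, pow_succ', MulAut.mul_apply]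

theorem line_of_fixed (h : Act ρ Z σ S r) (hξ : ξ ≠ 0) (hS : S ξ = ξ) {u : U}
    (hu : S (ρ u ξ) = ρ u ξ) : u ∈ line ρ ξ := by
  rw [← Module.End.mul_apply, h.Scomm, Module.End.mul_apply, hS] at hu
  have h1 : u⁻¹ * σ u ∈ line ρ ξ := mem_line hξ (c := 1) (by
    rw [one_smul, map_mul, Module.End.mul_apply, hu, ← Module.End.mul_apply, ← map_mul,
      inv_mul_cancel, map_one, Module.End.one_apply])
  exact free_mod h.toNd.normal σ h.mem (h.line_Z hξ) (fun v hv => (h.line_sigma hξ hS hv).1) h.free h1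

theorem free_line (h : Act ρ Z σ S r) (hξ : ξ ≠ 0) (hS : S ξ = ξ) {u : U} (hu : u ∉ line ρ ξ)
    {l : ℕ} (hl : l < r) (hl0 : l ≠ 0) : u⁻¹ * (σ ^ l) u ∉ line ρ ξ := fun hm => hu <|
  free_of_prime σ h.prime (fun _ => h.line_sigma_iff hξ hS)
    (fun v => by rw [h.pow, MulAut.one_apply, inv_mul_cancel]; exact one_mem _)
    (fun v hv => free_mod h.toNd.normal σ h.mem (h.line_Z hξ)
      (fun w hw => (h.line_sigma hξ hS hw).1) h.free hv)
    l (fun hd => hl0 (Nat.eq_zero_of_dvd_of_lt hd hl)) u hm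

/-- Off the line, the projection of an orbit sum is one translate. -/
theorem proj_avg (h : Act ρ Z σ S r) (hξ : ξ ≠ 0) (hS : S ξ = ξ) (hlag : Lag h.toNd ξ) {η : M}
    (hη : Wt ρ (line ρ ξ) η (lineChar ρ ξ)) (hSη : S η = η) {u : U} (hu : u ∉ line ρ ξ) :
    h.proj ξ u (avg S r (ρ u η)) = (Nat.card (line ρ ξ) : k) • ρ u η := by
  rw [h.avg_translate hSη, map_sum, Finset.sum_eq_single 0 (fun l hl hl0 => h.proj_diff hξ hlag hη
    (h.free_line hξ hS hu (Finset.mem_range.1 hl) hl0))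
    (fun h0 => absurd (Finset.mem_range.2 h.prime.pos) h0), pow_zero]
  exact h.proj_same hξ hη (by rw [MulAut.one_apply, inv_mul_cancel]; exact one_mem _)

/-- An operator fixing the orbit sums fixes `ξ`, unless the line stabiliser is self-annihilating. -/
theorem fix_or_lag (h : Act ρ Z σ S r) (hξ : ξ ≠ 0) (hS : S ξ = ξ) {e : MulAut U}
    {E : Module.End k M} (hP : Pert ρ Z σ S e E) (hsum : SumFix ρ S r ξ E) :
    E ξ = ξ ∨ Lag h.toNd ξ := by
  classical
  obtain ⟨X, hXm, hX, hXc, hSX, -, -, hXe⟩ := h.exists_X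
  have hEX : E * X = X * E := hXe E e hP.intw hP.comm
  obtain ⟨ζ, hζ⟩ := exists_primitive (k := k) h.rk
  rw [or_iff_not_imp_left]
  intro hne
  have hSE : S (E ξ) = E ξ := by
    rw [← Module.End.mul_apply, ← hP.commS, Module.End.mul_apply, hS]
  set L := line ρ ξ with hL
  obtain ⟨EL, hEL⟩ : ∃ EL, EL = wproj ρ L (lineChar ρ ξ) := ⟨_, rfl⟩
  have hELm : EL ∈ alg ρ := hEL ▸ sum_mem fun v _ => by
    split_ifs
    · exact Submodule.smul_mem _ _ (rho_mem_alg ρ v)
    · exact zero_mem _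
  have hcne : ∀ v ∈ L, lineChar ρ ξ v ≠ 0 := fun v hv => Wt.ne_zero (x := ξ) wt_self hξ hv
  have hcmul : ∀ v ∈ L, ∀ w ∈ L, lineChar ρ ξ (v * w) = lineChar ρ ξ v * lineChar ρ ξ w :=
    fun v hv w hw => Wt.map_mul (x := ξ) wt_self hξ hv hw
  -- traces
  have hθ : theta ρ EL = ((Nat.card U : k) * Nat.card Z) • 1 := by
    rw [hEL, wproj, map_sum, Finset.sum_congr rfl fun v _ => (show
      theta ρ (if v ∈ L then (lineChar ρ ξ v)⁻¹ • ρ v else 0) =
        if v ∈ Z then (Nat.card U : k) • (1 : Module.End k M) else 0 by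
        by_cases hv : v ∈ Z
        · have hvL : v ∈ L := h.line_Z hξ hv
          rw [if_pos hvL, if_pos hv, map_smul, h.toNd.theta_mem hv, h.lineChar_Z hξ hv, smul_smul,
            smul_smul, mul_assoc, mul_comm (Nat.card U : k), ← mul_assoc,
            inv_mul_cancel₀ (hcne v hvL), one_mul]
        · rw [if_neg hv]
          split_ifs
          · rw [map_smul, h.toNd.theta_not_mem hv, smul_zero]
          · rw [map_zero]), ← Finset.sum_filter, Finset.sum_const, ← Nat.cast_smul_eq_nsmul k,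
      smul_smul, mul_comm]
    congr 3
    rw [Nat.card_eq_fintype_card, Fintype.card_subtype]
  have hin : ∀ u ∈ L, ρ u * EL = lineChar ρ ξ u • EL := by
    intro u hu
    rw [hEL, wproj, Finset.mul_sum, Finset.smul_sum]
    conv_rhs => rw [← Equiv.sum_comp (Equiv.mulLeft u)
      fun v => lineChar ρ ξ u • if v ∈ L then (lineChar ρ ξ v)⁻¹ • ρ v else 0]
    refine Finset.sum_congr rfl fun v _ => ?_
    simp only [Equiv.coe_mulLeft, Subgroup.mul_mem_cancel_left L hu]
    split_ifs with hv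
    · rw [mul_smul_comm, ← map_mul, smul_smul, hcmul u hu v hv, mul_inv, ← mul_assoc,
        mul_inv_cancel₀ (hcne u hu), one_mul]
    · rw [mul_zero, smul_zero]
  have hout : ∀ u, u ∉ L → theta ρ (ρ u * EL) = 0 := by
    intro u hu
    rw [hEL, wproj, Finset.mul_sum, map_sum]
    refine Finset.sum_eq_zero fun v _ => ?_
    split_ifs with hv
    · rw [mul_smul_comm, ← map_mul, map_smul, h.toNd.theta_not_mem (fun hm => hu ?_), smul_zero]
      simpa using mul_mem (h.line_Z hξ hm) (inv_mem hv)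
    · rw [mul_zero, map_zero]
  have hD : ((Nat.card U : k) * Nat.card Z) ≠ 0 := mul_ne_zero h.toNd.card fun h0 => by
    obtain ⟨c, hc⟩ := Subgroup.card_subgroup_dvd_card Z
    exact h.toNd.card (by rw [hc, Nat.cast_mul, h0, zero_mul])
  set η := E ξ - ξ with hη
  have hΨ : ∀ a ∈ alg ρ, ∃ s : k, theta ρ (a * EL) = s • 1 ∧
      ((Nat.card U : k) * Nat.card Z) • (E (avg S r (a ξ)) - avg S r (a ξ)) = (s * r) • η := by
    intro a ha
    induction ha using Submodule.span_induction with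
    | mem x hx =>
      obtain ⟨u, rfl⟩ := hx
      by_cases hu : u ∈ L
      · refine ⟨lineChar ρ ξ u * ((Nat.card U : k) * Nat.card Z), ?_, ?_⟩
        · show theta ρ (ρ u * EL) = _
          rw [hin u hu, map_smul, hθ, smul_smul]
        · show _ • (E (avg S r (ρ u ξ)) - avg S r (ρ u ξ)) = _
          rw [lineChar_spec hu, map_smul, avg_fixed r hS, map_smul, map_smul, smul_smul, smul_smul,
            ← smul_sub, smul_smul]
          congr 1
          ring
      · refine ⟨0, ?_, ?_⟩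
        · show theta ρ (ρ u * EL) = _
          rw [hout u hu, zero_smul]
        · show _ • (E (avg S r (ρ u ξ)) - avg S r (ρ u ξ)) = _
          rw [hsum u hu, sub_self, smul_zero, zero_mul, zero_smul]
    | zero => exact ⟨0, by simp, by simp⟩
    | add x y _ _ h1 h2 =>
      obtain ⟨s, hs, hs'⟩ := h1
      obtain ⟨s', ht, ht'⟩ := h2
      refine ⟨s + s', by rw [add_mul, map_add, hs, ht, add_smul], ?_⟩
      rw [LinearMap.add_apply, map_add, map_add, add_sub_add_comm, smul_add, hs', ht', ← add_smul,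
        add_mul]
    | smul c x _ h1 =>
      obtain ⟨s, hs, hs'⟩ := h1
      refine ⟨c * s, by rw [smul_mul_assoc, map_smul, hs, smul_smul], ?_⟩
      rw [LinearMap.smul_apply, map_smul, map_smul, ← smul_sub, smul_comm, hs', smul_smul,
        mul_assoc]
  have hPm : ∀ j, eproj X ζ r j ∈ alg ρ := fun j =>
    Submodule.smul_mem _ _ (sum_mem fun l _ => Submodule.smul_mem _ _ (pow_mem_alg ρ hXm l))
  have hPc : ∀ {A : Module.End k M}, Commute A X → ∀ j, Commute A (eproj X ζ r j) := fun hA j =>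
    Commute.smul_right (Commute.sum_right _ _ _ fun l _ => Commute.smul_right (hA.pow_right l) _) _
  have hPid : ∀ (j : ℕ), j < r → ∀ x, eproj X ζ r j (eproj X ζ r j x) = eproj X ζ r j x :=
    fun j hj x => by
      rw [eproj_apply_eigen hζ h.rk hj hj (Module.End.mem_eigenspace_iff.1
        (eproj_mem hX hζ h.prime.ne_zero j x)), if_pos rfl]
  have hB : ∀ (j : ℕ), j < r → ∀ u w, S w = w →
      eproj X ζ r j (avg S r (ρ u (eproj X ζ r j w))) = avg S r (ρ u (eproj X ζ r j w)) := by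
    intro j hj u w hw
    have hw' : S (eproj X ζ r j w) = eproj X ζ r j w := by
      rw [← Module.End.mul_apply, (hPc hSX j).eq, Module.End.mul_apply, hw]
    obtain ⟨B, hBdef⟩ : ∃ B : Module.End k M, B = ∑ l ∈ Finset.range r, ρ ((σ ^ l) u) := ⟨_, rfl⟩
    have hBX : Commute B X := by
      have h1 : ∀ l, X * ρ ((σ ^ (l + 1)) u) = ρ ((σ ^ l) u) * X := fun l => by
        rw [pow_succ', MulAut.mul_apply, hXc]
      have h2 := Finset.sum_range_succ' (fun l => ρ ((σ ^ l) u)) r
      rw [Finset.sum_range_succ, h.pow] at h2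
      have h3 := add_right_cancel h2
      show B * X = X * B
      conv_rhs => rw [hBdef, h3, Finset.mul_sum]
      rw [hBdef, Finset.sum_mul]
      exact Finset.sum_congr rfl fun l _ => (h1 l).symm
    rw [h.avg_translate hw', ← LinearMap.sum_apply, ← hBdef, ← Module.End.mul_apply _ B,
      ← (hPc hBX j).eq, Module.End.mul_apply, hPid j hj]
  have hsingle : ∀ j < r, eproj X ζ r j * EL ≠ 0 → eproj X ζ r j η = η := by
    intro j hj hne'
    obtain ⟨u, hu⟩ := h.toNd.exists_theta_ne_zero (mul_mem_alg ρ (hPm j) hELm) hne'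
    obtain ⟨s, hs, hs'⟩ := hΨ (ρ u * eproj X ζ r j) (mul_mem_alg ρ (rho_mem_alg ρ u) (hPm j))
    have hs0 : s ≠ 0 := fun h0 => hu (by rw [← mul_assoc, hs, h0, zero_smul])
    have h1 : eproj X ζ r j (((Nat.card U : k) * Nat.card Z) •
        (E (avg S r ((ρ u * eproj X ζ r j) ξ)) - avg S r ((ρ u * eproj X ζ r j) ξ))) =
      ((Nat.card U : k) * Nat.card Z) •
        (E (avg S r ((ρ u * eproj X ζ r j) ξ)) - avg S r ((ρ u * eproj X ζ r j) ξ)) := by
      rw [map_smul, map_sub, Module.End.mul_apply, hB j hj u ξ hS]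
      congr 2
      rw [← Module.End.mul_apply E, (commute_avg r hP.commS).eq, Module.End.mul_apply,
        ← Module.End.mul_apply E, hP.intw, Module.End.mul_apply, ← Module.End.mul_apply E,
        (hPc hEX j).eq, Module.End.mul_apply, hB j hj (e u) (E ξ) hSE]
    rw [hs', map_smul] at h1
    exact (smul_right_injective M (mul_ne_zero hs0 h.rk)) h1
  have hη0 : η ≠ 0 := sub_ne_zero.2 hne
  have hELne : EL ≠ 0 := fun h0 => by
    rw [h0, map_zero] at hθ
    exact smul_ne_zero hD one_ne_zero hθ.symm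
  obtain ⟨j, hj, hjne⟩ : ∃ j, j < r ∧ eproj X ζ r j * EL ≠ 0 := by
    by_contra hno
    push Not at hno
    exact hELne (by
      rw [← one_mul EL, ← sum_eproj (X := X) hζ h.rk, Finset.sum_mul,
        Finset.sum_eq_zero fun j hj => hno j (Finset.mem_range.1 hj)])
  have hXEL : X * EL = ζ ^ j • EL := by
    have hELj : eproj X ζ r j * EL = EL := by
      conv_rhs => rw [← one_mul EL, ← sum_eproj (X := X) hζ h.rk, Finset.sum_mul]
      rw [Finset.sum_eq_single j (fun i hi hij => by_contra fun hi' => hη0 ?_)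
        (fun h0 => absurd (Finset.mem_range.2 hj) h0)]
      have h1 := hsingle i (Finset.mem_range.1 hi) hi'
      have h2 := hsingle j hj hjne
      rw [← h1, ← h2, eproj_apply_eigen hζ h.rk (Finset.mem_range.1 hi) hj
        (Module.End.mem_eigenspace_iff.1 (eproj_mem hX hζ h.prime.ne_zero j η)), if_neg hij]
    rw [← hELj, ← mul_assoc, mul_eproj hX hζ h.prime.ne_zero, smul_mul_assoc]
  have hELX : EL * X = X * EL := by
    rw [hEL, wproj, Finset.sum_mul, Finset.mul_sum]
    conv_rhs => rw [← Equiv.sum_comp σ.toEquiv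
      fun v => X * if v ∈ L then (lineChar ρ ξ v)⁻¹ • ρ v else 0]
    refine Finset.sum_congr rfl fun v _ => ?_
    show (if v ∈ L then (lineChar ρ ξ v)⁻¹ • ρ v else 0) * X =
      X * if σ v ∈ L then (lineChar ρ ξ (σ v))⁻¹ • ρ (σ v) else 0
    by_cases hv : v ∈ L
    · rw [if_pos hv, if_pos ((h.line_sigma_iff hξ hS).2 hv), mul_smul_comm, hXc, smul_mul_assoc,
        (h.line_sigma hξ hS hv).2]
    · rw [if_neg hv, if_neg (fun hh => hv ((h.line_sigma_iff hξ hS).1 hh)), mul_zero, zero_mul]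
  -- the annihilator of the line stabiliser
  intro u hu
  have hcomm : ∀ w, (∀ v ∈ L, h.toNd.pair v w = 1) → ρ w * EL = EL * ρ w := by
    intro w hw
    rw [hEL, wproj, Finset.sum_mul, Finset.mul_sum]
    refine Finset.sum_congr rfl fun v _ => ?_
    split_ifs with hv
    · rw [mul_smul_comm, smul_mul_assoc, ← map_mul, ← map_mul]
      congr 1
      rw [show v * w = v * w * v⁻¹ * v by group, map_mul ρ (v * w * v⁻¹), h.toNd.pair_spec, hw v hv,
        one_smul, map_mul]
    · rw [mul_zero, zero_mul]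
  have hσu : ∀ v ∈ L, h.toNd.pair v (σ u) = 1 := fun v hv => by
    have hv' : (σ ^ (r - 1)) v ∈ L := (h.line_sigma_pow hξ hS hv (r - 1)).1
    have hvv : σ ((σ ^ (r - 1)) v) = v := by
      rw [← MulAut.mul_apply, ← pow_succ', Nat.sub_add_cancel h.prime.one_le, h.pow,
        MulAut.one_apply]
    rw [← hvv, h.toNd.pair_map σ h.fix, hu _ hv']
  have h1 : ρ u * EL = ρ (σ u) * EL := by
    have e1 : X * (ρ (σ u) * EL) = ρ u * (X * EL) := by rw [← mul_assoc, hXc, mul_assoc]
    have e2 : X * (ρ (σ u) * EL) = X * EL * ρ (σ u) := by rw [hcomm _ hσu, ← mul_assoc]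
    rw [e2, hXEL, mul_smul_comm, smul_mul_assoc, ← hcomm _ hσu] at e1
    exact (smul_right_injective _ (pow_ne_zero j (hζ.ne_zero h.prime.ne_zero)) e1).symm
  have h2 := DFunLike.congr_fun h1 ξ
  rw [Module.End.mul_apply, Module.End.mul_apply, hEL,
    wproj_same (ρ := ρ) (x := ξ) wt_self hξ (fun _ _ => rfl), map_smul, map_smul] at h2
  refine h.line_of_fixed hξ hS ?_
  rw [← Module.End.mul_apply, h.Scomm, Module.End.mul_apply, hS]
  exact (smul_right_injective M h.card_line_ne h2).symm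

/-- An automorphism trivial modulo `Z` of order prime to `|U|` fixes all operators. -/
theorem rho_eq_of_trivial (h : Act ρ Z σ S r) {e : MulAut U} {E : Module.End k M}
    (hP : Pert ρ Z σ S e E) {n : ℕ} (hn : n.Coprime (Nat.card U))
    (hper : ∀ u, ρ ((e ^ n) u) = ρ u) (htriv : ∀ u, u⁻¹ * e u ∈ Z) (u : U) : ρ (e u) = ρ u := by
  obtain ⟨c, hc⟩ := h.toNd.scal _ (htriv u)
  have hcu : ρ (e u) = c • ρ u := by
    conv_lhs => rw [← mul_inv_cancel_left u (e u), map_mul, hc, mul_smul_comm, mul_one]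
  have hp : ∀ m, ρ ((e ^ m) u) = c ^ m • ρ u := by
    intro m
    induction m with
    | zero => simp
    | succ m ih =>
      rw [pow_succ, MulAut.mul_apply]
      conv_lhs => rw [← mul_inv_cancel_left u (e u), map_mul, map_mul, ih, (hP.npow m).fix _ (htriv u),
        hc, smul_mul_assoc, mul_smul_comm, mul_one, smul_smul, ← pow_succ]
  have h1 : c ^ n = 1 := smul_left_injective k (rho_ne_zero ρ u)
    ((hp n).symm.trans ((hper u).trans (one_smul k _).symm))
  have h2 : c ^ Nat.card U = 1 := by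
    have h3 : ρ ((u⁻¹ * e u) ^ Nat.card U) = (1 : Module.End k M) := by
      rw [pow_card_eq_one', map_one]
    rw [map_pow, hc, smul_pow, one_pow] at h3
    exact smul_left_injective k (one_ne_zero (α := Module.End k M)) (h3.trans (one_smul k _).symm)
  have h4 := pow_gcd_eq_one.2 ⟨h1, h2⟩
  rw [hn, pow_one] at h4
  rw [hcu, h4, one_smul]

/-- An automorphism preserving a self-annihilating line stabiliser and fixing the orbit sums. -/
theorem trivial_of_lag (h : Act ρ Z σ S r) (hξ : ξ ≠ 0) (hS : S ξ = ξ) {e : MulAut U}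
    {E : Module.End k M} (hP : Pert ρ Z σ S e E) (hsum : SumFix ρ S r ξ E) (hlag : Lag h.toNd ξ)
    (heL : ∀ v ∈ line ρ ξ, e v ∈ line ρ ξ) {t : ℕ} (ht : t.Prime) (htr : t ≠ r)
    (htU : t.Coprime (Nat.card U)) (hper : ∀ u, u⁻¹ * (e ^ t) u ∈ Z) (u : U) :
    u⁻¹ * e u ∈ Z := by
  classical
  haveI := h.line_normal (ξ := ξ) hξ
  set L := line ρ ξ with hL
  have hcne : ∀ v ∈ L, lineChar ρ ξ v ≠ 0 := fun v hv => Wt.ne_zero (x := ξ) wt_self hξ hv
  have hcmul : ∀ v ∈ L, ∀ w ∈ L, lineChar ρ ξ (v * w) = lineChar ρ ξ v * lineChar ρ ξ w :=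
    fun v hv w hw => Wt.map_mul (x := ξ) wt_self hξ hv hw
  have hcinv : ∀ v ∈ L, lineChar ρ ξ v⁻¹ * lineChar ρ ξ v = 1 := fun v hv => by
    rw [← hcmul _ (inv_mem hv) v hv, inv_mul_cancel]
    have h1 : ρ 1 ξ = (1 : k) • ξ := by rw [map_one, one_smul]; rfl
    exact smul_left_injective k hξ ((lineChar_spec (one_mem _)).symm.trans h1)
  have hce : ∀ w ∈ L, lineChar ρ ξ (e w) = lineChar ρ ξ w := by
    intro w hw
    obtain ⟨z, hz, hzw⟩ := exists_delta h.toNd.normal σ h.mem
      (fun v hv => (h.line_sigma hξ hS hv).1) (fun v _ => h.free v) hw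
    have hσz := (h.line_sigma hξ hS hz)
    have hz0 : lineChar ρ ξ (e ((z⁻¹ * σ z)⁻¹ * w)) = lineChar ρ ξ ((z⁻¹ * σ z)⁻¹ * w) :=
      smul_left_injective k (one_ne_zero (α := Module.End k M)) (by
        show lineChar ρ ξ (e _) • (1 : Module.End k M) = lineChar ρ ξ _ • 1
        rw [← h.lineChar_Z hξ ((hP.mem _).2 hzw), ← h.lineChar_Z hξ hzw, hP.fix _ hzw])
    have hd : z⁻¹ * σ z ∈ L := mul_mem (inv_mem hz) hσz.1
    have hce1 : lineChar ρ ξ (e (z⁻¹ * σ z)) = lineChar ρ ξ (z⁻¹ * σ z) := by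
      have h1 : e (σ z) = σ (e z) := DFunLike.congr_fun hP.comm z
      rw [map_mul, map_inv, h1, hcmul _ (inv_mem (heL z hz)) _ (h.line_sigma hξ hS (heL z hz)).1,
        (h.line_sigma hξ hS (heL z hz)).2, hcmul _ (inv_mem hz) _ hσz.1, hσz.2,
        hcinv _ (heL z hz), hcinv _ hz]
    have hd' : (z⁻¹ * σ z)⁻¹ * w ∈ L := h.line_Z hξ hzw
    conv_lhs => rw [← mul_inv_cancel_left (z⁻¹ * σ z) w, map_mul e, hcmul _ (heL _ hd) _ (heL _ hd'),
      hce1, hz0, ← hcmul _ hd _ hd', mul_inv_cancel_left]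
  have hEw : Wt ρ L (E ξ) (lineChar ρ ξ) := by
    intro v hv
    have hbij : Function.Surjective fun w : L => (⟨e w, heL w w.2⟩ : L) :=
      Finite.surjective_of_injective fun a b hab =>
        Subtype.ext (e.injective (congrArg Subtype.val hab))
    obtain ⟨⟨w, hw⟩, hwv⟩ := hbij ⟨v, hv⟩
    have hwv' : e w = v := congrArg Subtype.val hwv
    rw [← hwv', ← Module.End.mul_apply, ← hP.intw, Module.End.mul_apply, lineChar_spec hw, map_smul,
      hce w hw]
  have hSE : S (E ξ) = E ξ := by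
    rw [← Module.End.mul_apply, ← hP.commS, Module.End.mul_apply, hS]
  have hmod : ∀ u, u⁻¹ * e u ∈ L := by
    intro u
    by_cases hu : u ∈ L
    · exact mul_mem (inv_mem hu) (heL u hu)
    have h1 := congrArg (h.proj ξ u) (hsum u hu)
    rw [h.proj_avg hξ hS hlag wt_self hS hu, ← Module.End.mul_apply E,
      (commute_avg r hP.commS).eq, Module.End.mul_apply, ← Module.End.mul_apply E, hP.intw,
      Module.End.mul_apply, h.avg_translate hSE, map_sum] at h1
    obtain ⟨l, hl⟩ : ∃ l, u⁻¹ * (σ ^ l) (e u) ∈ L := by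
      by_contra hno
      push Not at hno
      rw [Finset.sum_eq_zero fun l _ => h.proj_diff hξ hlag hEw (hno l)] at h1
      exact smul_ne_zero h.card_line_ne (rho_apply_ne ρ u hξ) h1.symm
    have hcl : ∀ n, ((σ ^ n) u)⁻¹ * (σ ^ n) ((σ ^ l) (e u)) ∈ L := fun n => by
      rw [← map_inv, ← map_mul]; exact (h.line_sigma_pow hξ hS hl n).1
    have hit : ∀ n, u⁻¹ * (σ ^ (l * n)) ((e ^ n) u) ∈ L := by
      intro n
      induction n with
      | zero => simp
      | succ n ih =>
        have h2 : (σ ^ (l * n)) ((e ^ n) u⁻¹) * (σ ^ (l * (n + 1))) ((e ^ (n + 1)) u) ∈ L := by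
          have hc : (σ ^ (l * n)) * (e ^ n) * ((σ ^ l) * e) = (σ ^ (l * (n + 1))) * e ^ (n + 1) := by
            have hcomm : Commute (e ^ n) (σ ^ l) :=
              (show Commute e σ from hP.comm).pow_pow n l
            rw [mul_assoc, ← mul_assoc (e ^ n), hcomm.eq, mul_assoc, ← pow_succ, ← mul_assoc,
              ← pow_add, Nat.mul_succ]
          have h3 : ((σ ^ (l * n)) * (e ^ n)) (u⁻¹ * (σ ^ l) (e u)) ∈ L := by
            rw [MulAut.mul_apply]
            refine (h.line_sigma_pow hξ hS ?_ _).1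
            clear ih h1 hc
            induction n with
            | zero => exact hl
            | succ n ih => rw [pow_succ', MulAut.mul_apply]; exact heL _ ih
          rw [map_mul, MulAut.mul_apply] at h3
          have h6 := DFunLike.congr_fun hc u
          simp only [MulAut.mul_apply] at h6 h3
          rw [← h6]
          exact h3
        have h4 := mul_mem ih h2
        rwa [map_inv, map_inv, mul_assoc, mul_inv_cancel_left] at h4
    have ht' := hit t
    have hσt : u⁻¹ * (σ ^ (l * t)) u ∈ L := by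
      have h5 : ((σ ^ (l * t)) u)⁻¹ * (σ ^ (l * t)) ((e ^ t) u) ∈ L := by
        rw [← map_inv, ← map_mul]; exact (h.line_sigma_pow hξ hS (h.line_Z hξ (hper u)) _).1
      have h6 := mul_mem ht' (inv_mem h5)
      rwa [mul_inv_rev, inv_inv, mul_assoc, mul_inv_cancel_left] at h6
    have hdvd : r ∣ l * t := by
      by_contra hnd
      refine h.free_line hξ hS hu (Nat.mod_lt _ h.prime.pos)
        (fun h0 => hnd (Nat.dvd_of_mod_eq_zero h0)) ?_
      rwa [← Nat.mod_add_div (l * t) r, pow_add, pow_mul, h.pow, one_pow, mul_one] at hσt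
    obtain ⟨q, hq⟩ := ((Nat.coprime_primes h.prime ht).2 htr.symm).dvd_of_dvd_mul_right hdvd
    rwa [hq, pow_mul, h.pow, one_pow, MulAut.one_apply] at hl
  have hLZ : ∀ v ∈ L, v⁻¹ * e v ∈ Z := fun v hv => h.toNd.mem_of_pair' fun w => by
    have h1 : h.toNd.pair (e v) w = h.toNd.pair v w := by
      conv_rhs => rw [← h.toNd.pair_map e hP.fix v w, ← mul_inv_cancel_left w (e w),
        h.toNd.pair_mul_right, h.line_iso hξ (heL v hv) (hmod w), mul_one]
    rw [h.toNd.pair_mul_left, h.toNd.pair_inv_left, h1, inv_mul_cancel₀ (h.toNd.pair_ne v w)]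
  haveI := h.toNd.normal
  have hq : ∀ n, (((e ^ n) u : U) : U ⧸ Z) = (u : U ⧸ Z) * ((u⁻¹ * e u : U) : U ⧸ Z) ^ n := by
    intro n
    induction n with
    | zero => simp
    | succ n ih =>
      have he : ∀ {a b : U}, (a : U ⧸ Z) = b → ((e a : U) : U ⧸ Z) = (e b : U) := fun hab =>
        QuotientGroup.eq.2 (by rw [← map_inv, ← map_mul]; exact (hP.mem _).2 (QuotientGroup.eq.1 hab))
      have h1 : (((e ^ (n + 1)) u : U) : U ⧸ Z) = (e (u * (u⁻¹ * e u) ^ n) : U) := by
        rw [pow_succ', MulAut.mul_apply]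
        exact he (by rw [ih]; rfl)
      rw [h1, map_mul, map_pow, QuotientGroup.mk_mul, QuotientGroup.mk_pow,
        show ((e (u⁻¹ * e u) : U) : U ⧸ Z) = ((u⁻¹ * e u : U) : U ⧸ Z) from
          (QuotientGroup.eq.2 (hLZ _ (hmod u))).symm, pow_succ', ← mul_assoc, ← QuotientGroup.mk_mul,
        mul_inv_cancel_left]
  have ht1 : ((u⁻¹ * e u : U) : U ⧸ Z) ^ t = 1 := by
    have h1 := hq t
    rw [← (QuotientGroup.eq.2 (hper u) : (u : U ⧸ Z) = ((e ^ t) u : U)), left_eq_mul] at h1
    exact h1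
  have hU : ((u⁻¹ * e u : U) : U ⧸ Z) ^ Nat.card U = 1 := by
    rw [← QuotientGroup.mk_pow, pow_card_eq_one']; rfl
  have h4 := pow_gcd_eq_one.2 ⟨ht1, hU⟩
  rw [htU, pow_one] at h4
  exact (QuotientGroup.eq_one_iff _).1 h4

end Act

end Cfsg.Agent.Solv.FHeight
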