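import Cfsg.Agent.Lib.Solv.FHeight.Sums
import Cfsg.Agent.Lib.Solv.FHeight.Involutions

/-!
Automorphisms of coprime order whose operators centralise the fixed vectors.
-/

set_option autoImplicit false
set_option linter.unusedSectionVars false
set_option linter.style.haveILetI false

namespace Cfsg.Agent.Solv.FHeight

open Module Cfsg.Agent.Perm.WeightIdem

variable {k : Type*} [Field k] [IsAlgClosed k] {M : Type*} [AddCommGroup M] [Module k M]
  {U : Type*} [Group U] [Fintype U]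
  {ρ : U →* Module.End k M} {Z : Subgroup U} {σ : MulAut U} {S : Module.End k M} {r : ℕ}

/-- An element of `t`-power order inducing `e`, by an operator fixing the fixed vectors. -/
structure Cof (ρ : U →* Module.End k M) (Z : Subgroup U) (σ : MulAut U) (S : Module.End k M)
    (t : ℕ) (e : MulAut U) (E : Module.End k M) : Prop where
  pert : Pert ρ Z σ S e E
  ord : ∃ n, e ^ t ^ n = 1
  triv : ∀ v, S v = v → E v = v

/-- `e` does not move the image. -/
def Still (ρ : U →* Module.End k M) (e : MulAut U) : Prop := ∀ u, ρ (e u) = ρ u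

theorem Cof.restrictSpace {t : ℕ} {e : MulAut U} {E : Module.End k M} (hC : Cof ρ Z σ S t e E)
    {W : Submodule k M} (hW : Inv ρ W) (hS : ∀ w ∈ W, S w ∈ W) (hE : ∀ w ∈ W, E w ∈ W) :
    Cof (restr ρ hW) Z σ (S.restrict hS) t e (E.restrict hE) where
  pert := hC.pert.restrictSpace hW hS hE
  ord := hC.ord
  triv v hv := Subtype.ext (hC.triv v (congrArg Subtype.val hv))

theorem wspace_eq_zero {B : Type*} [CommGroup B] [Fintype B] {f : B →* Module.End k M}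
    {χ : B →* kˣ} (h : wspace f χ = ⊥) (x : M) : idem f χ x = 0 :=
  (Submodule.mem_bot k).1 (h ▸ (⟨x, rfl⟩ : idem f χ x ∈ wspace f χ))

namespace Two

variable {t : ℕ} {e : MulAut U} {E : Module.End k M}

theorem rad_iff (h : Two ρ Z σ S r) (hC : Cof ρ Z σ S t e E) (u : U) :
    e u ∈ rad ρ ↔ u ∈ rad ρ :=
  mem_iff_of_forward (fun _ hu => rad_fwd h.comm hC.pert.fix hu) u

theorem moved_eq (h : Two ρ Z σ S r) (hs : Scal ρ Z σ) [Fintype (Abelianization (rad ρ))]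
    (hC : Cof ρ Z σ S t e E) (ht : t.Prime) (htr : t ≠ r) {θ : Abelianization (rad ρ) →* kˣ}
    (hθ : ¬ FixedChar (abAut σ (rad ρ) (h.sigma_rad hs)) θ) (u : U) (x : M) :
    ρ (e u) (idem (abLift ρ (rad ρ) (rad_comm ρ)) θ x) =
      ρ u (idem (abLift ρ (rad ρ) (rad_comm ρ)) θ x) := by
  obtain ⟨n, hn⟩ := hC.ord
  have hW := h.wts (h.sigma_rad hs) (rad_comm ρ)
  have hN : (abAut e (rad ρ) (h.rad_iff hC)) ^ t ^ n = 1 := MulEquiv.ext fun b => by
    obtain ⟨y, rfl⟩ := ab_of_surjective (rad ρ) b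
    rw [abAut_pow]
    exact congrArg Abelianization.of (Subtype.ext (by rw [coe_autRes_pow, hn]; rfl))
  have hfix := hW.moved_triv (abLift_intw ρ (rad ρ) (rad_comm ρ) (h.rad_iff hC) hC.pert.intw)
    (abAut_comm (h.rad_iff hC) (h.sigma_rad hs) hC.pert.comm) hC.pert.commS hN
    (((Nat.coprime_primes h.prime ht).2 htr.symm).pow_right n) hC.triv hθ
  have hm : ρ u (idem (abLift ρ (rad ρ) (rad_comm ρ)) θ x) =
      idem (abLift ρ (rad ρ) (rad_comm ρ)) θ (ρ u x) := DFunLike.congr_fun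
    (commute_idem (abLift ρ (rad ρ) (rad_comm ρ)) θ (y := ρ u) fun b => by
      obtain ⟨y, rfl⟩ := ab_of_surjective (rad ρ) b
      exact y.2 u).eq x
  have h1 := DFunLike.congr_fun (hC.pert.intw u) (idem (abLift ρ (rad ρ) (rad_comm ρ)) θ x)
  rw [Module.End.mul_apply, Module.End.mul_apply, hfix x, hm, hfix, ← hm] at h1
  exact h1.symm

/-- The perturbation on the fixed weight space of the radical. -/
theorem core_cof (h : Two ρ Z σ S r) (hs : Scal ρ Z σ) [Fintype (Abelianization (rad ρ))]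
    (hC : Cof ρ Z σ S t e E) {θ : Abelianization (rad ρ) →* kˣ}
    (hθ : FixedChar (abAut σ (rad ρ) (h.sigma_rad hs)) θ)
    (hne : wspace (abLift ρ (rad ρ) (rad_comm ρ)) θ ≠ ⊥) :
    ∃ hE : ∀ w ∈ wspace (abLift ρ (rad ρ) (rad_comm ρ)) θ,
        E w ∈ wspace (abLift ρ (rad ρ) (rad_comm ρ)) θ,
      Cof (restr ρ (h.inv_wspace (h.sigma_rad hs) le_rfl θ)) (rad ρ) σ
        (S.restrict fun _ hw => (h.wts (h.sigma_rad hs) (rad_comm ρ)).S_wspace hθ hw) t e
        (E.restrict hE) := by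
  have hW := h.wts (h.sigma_rad hs) (rad_comm ρ)
  have heR := h.rad_iff hC
  have hεc := abAut_comm heR (h.sigma_rad hs) hC.pert.comm
  have hE := abLift_intw ρ (rad ρ) (rad_comm ρ) heR hC.pert.intw
  obtain ⟨x, hx⟩ : ∃ x, idem (abLift ρ (rad ρ) (rad_comm ρ)) θ x ≠ 0 := by
    by_contra hno
    push Not at hno
    exact hne (eq_bot_iff.2 (by rintro _ ⟨y, rfl⟩; rw [hno]; exact zero_mem _))
  have hθε : θ.comp (abAut e (rad ρ) heR).toMonoidHom = θ := by
    refine h.fixed_ext hs (fun b => ?_) hθ fun z hz => Units.ext ?_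
    · show θ (abAut e (rad ρ) heR (abAut σ (rad ρ) (h.sigma_rad hs) b)) = θ (abAut e (rad ρ) heR b)
      rw [← MulAut.mul_apply, hεc, MulAut.mul_apply, hθ]
    · obtain ⟨c, hc⟩ := (hs z hz).1
      rw [h.weight_val hx (h.cen hz) hc]
      exact h.weight_val hx _ (z := e z) ((hC.pert.fix z hz).trans hc)
  have hEI : ∀ w ∈ wspace (abLift ρ (rad ρ) (rad_comm ρ)) θ,
      E w ∈ wspace (abLift ρ (rad ρ) (rad_comm ρ)) θ := fun w hw => by
    rw [hW.mem_wspace] at hw ⊢; rw [Wts.intw_comp hE, hθε, hw]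
  refine ⟨hEI, ⟨fun z hz => LinearMap.ext fun w => Subtype.ext ?_, heR, hC.pert.comm,
    fun v => LinearMap.ext fun w => Subtype.ext (DFunLike.congr_fun (hC.pert.intw v) (w : M)),
    LinearMap.ext fun w => Subtype.ext (DFunLike.congr_fun hC.pert.commS (w : M))⟩, hC.ord,
    fun v hv => Subtype.ext (hC.triv v (congrArg Subtype.val hv))⟩
  have k1 := hW.wspace_smul w.2 (Abelianization.of ⟨z, hz⟩)
  have k2 := hW.wspace_smul w.2 (Abelianization.of ⟨e z, (heR z).2 hz⟩)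
  rw [abLift_of] at k1 k2
  rw [coe_restr, coe_restr, k1, k2]
  congr 2
  exact DFunLike.congr_fun hθε (Abelianization.of ⟨z, hz⟩)

/-- Triviality modulo the radical is triviality on the image. -/
theorem still_iff [FiniteDimensional k M] (h : Two ρ Z σ S r) (hs : Scal ρ Z σ)
    (hC : Cof ρ Z σ S t e E) (ht : t.Prime) (htr : t ≠ r) (htU : t.Coprime (Nat.card U)) :
    Still ρ e ↔ ∀ u, u⁻¹ * e u ∈ rad ρ := by
  refine ⟨fun h1 u v => ?_, fun h1 u => ?_⟩
  · rw [show ρ (u⁻¹ * e u) = 1 by rw [map_mul, h1, ← map_mul, inv_mul_cancel, map_one], mul_one,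
      one_mul]
  haveI := Fintype.ofFinite (Abelianization (rad ρ))
  have hW := h.wts (h.sigma_rad hs) (rad_comm ρ)
  refine LinearMap.ext fun x => ?_
  refine hW.ext_comp fun θ => ?_
  have hm : ∀ v y, idem (abLift ρ (rad ρ) (rad_comm ρ)) θ (ρ v y) =
      ρ v (idem (abLift ρ (rad ρ) (rad_comm ρ)) θ y) := fun v y => DFunLike.congr_fun
    (commute_idem (abLift ρ (rad ρ) (rad_comm ρ)) θ (y := ρ v) fun b => by
      obtain ⟨z, rfl⟩ := ab_of_surjective (rad ρ) b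
      exact z.2 v).eq.symm y
  rw [hm, hm]
  by_cases hθ : FixedChar (abAut σ (rad ρ) (h.sigma_rad hs)) θ
  swap
  · exact h.moved_eq hs hC ht htr hθ u x
  by_cases hbot : wspace (abLift ρ (rad ρ) (rad_comm ρ)) θ = ⊥
  · rw [wspace_eq_zero hbot x, map_zero, map_zero]
  obtain ⟨hEI, hC'⟩ := h.core_cof hs hC hθ hbot
  haveI := (Submodule.nontrivial_iff_ne_bot
    (p := wspace (abLift ρ (rad ρ) (rad_comm ρ)) θ)).2 hbot
  obtain ⟨n, hn⟩ := hC.ord
  exact congrArg Subtype.val (DFunLike.congr_fun ((h.act_core hs hθ hbot).rho_eq_of_trivial hC'.pert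
    (htU.pow_left n) (fun v => by rw [hn]; rfl) h1 u)
    (⟨_, Wts.idem_mem θ x⟩ : wspace (abLift ρ (rad ρ) (rad_comm ρ)) θ))

/-- A moved automorphism is moved on a fixed weight space of the radical. -/
theorem exists_core [FiniteDimensional k M] (h : Two ρ Z σ S r) (hs : Scal ρ Z σ)
    [Fintype (Abelianization (rad ρ))] (hC : Cof ρ Z σ S t e E) (ht : t.Prime) (htr : t ≠ r)
    (hne : ¬ Still ρ e) :
    ∃ θ : Abelianization (rad ρ) →* kˣ, FixedChar (abAut σ (rad ρ) (h.sigma_rad hs)) θ ∧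
      wspace (abLift ρ (rad ρ) (rad_comm ρ)) θ ≠ ⊥ := by
  by_contra hno
  push Not at hno
  have hW := h.wts (h.sigma_rad hs) (rad_comm ρ)
  refine hne fun u => LinearMap.ext fun x => hW.ext_comp fun θ => ?_
  have hm : ∀ v y, idem (abLift ρ (rad ρ) (rad_comm ρ)) θ (ρ v y) =
      ρ v (idem (abLift ρ (rad ρ) (rad_comm ρ)) θ y) := fun v y => DFunLike.congr_fun
    (commute_idem (abLift ρ (rad ρ) (rad_comm ρ)) θ (y := ρ v) fun b => by
      obtain ⟨z, rfl⟩ := ab_of_surjective (rad ρ) b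
      exact z.2 v).eq.symm y
  rw [hm, hm]
  by_cases hθ : FixedChar (abAut σ (rad ρ) (h.sigma_rad hs)) θ
  · rw [wspace_eq_zero (hno θ hθ) x, map_zero, map_zero]
  · exact h.moved_eq hs hC ht htr hθ u x

/-- A moved automorphism of period `t` modulo the radical. -/
theorem exc_min [FiniteDimensional k M] (h : Two ρ Z σ S r) (hs : Scal ρ Z σ)
    (hC : Cof ρ Z σ S t e E) (ht : t.Prime) (htr : t ≠ r) (htU : t.Coprime (Nat.card U))
    (hne : ¬ Still ρ e) (hper : ∀ u, u⁻¹ * (e ^ t) u ∈ rad ρ) :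
    t = 2 ∧ (∃ v, v ≠ 0 ∧ S v = v) ∧ ∃ H : Subgroup U, (∀ u, u ∈ H ↔ u * e u ∈ rad ρ) ∧
      ∃ d, d + 1 = 2 * r ∧ Nat.card (H ⧸ (rad ρ).subgroupOf H) = d * d := by
  haveI := Fintype.ofFinite (Abelianization (rad ρ))
  obtain ⟨θ, hθ, hbot⟩ := h.exists_core hs hC ht htr hne
  obtain ⟨hEI, hC'⟩ := h.core_cof hs hC hθ hbot
  haveI := (Submodule.nontrivial_iff_ne_bot
    (p := wspace (abLift ρ (rad ρ) (rad_comm ρ)) θ)).2 hbot
  have hA := h.act_core hs hθ hbot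
  obtain ⟨H, hRH, hσH, heH, hbase, hfree, hnd⟩ := exists_moved_part hA hC'.pert htU hper
  haveI : Fintype H := Fintype.ofFinite H
  have hAH := hA.restrict H hσH hnd
  obtain ⟨n, hn⟩ := hC.ord
  have het : ∀ u, restr ρ (h.inv_wspace (h.sigma_rad hs) le_rfl θ) ((e ^ t) u) =
      restr ρ (h.inv_wspace (h.sigma_rad hs) le_rfl θ) u :=
    hA.rho_eq_of_trivial (hC'.pert.npow t) (htU.pow_left n)
      (fun v => by rw [← pow_mul, mul_comm, pow_mul, hn, one_pow]; rfl) hper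
  have hPH := hC'.pert.restrict H hσH heH
  rcases hAH.fixed_scalar ht.two_le ((Nat.coprime_primes h.prime ht).2 htr.symm) hPH.fix hPH.mem
    (fun i hi u hu => free_of_prime (autRes e H heH) ht hPH.mem (fun v => by
        show ((v⁻¹ * ((autRes e H heH) ^ t) v : H) : U) ∈ rad ρ
        rw [Subgroup.coe_mul, Subgroup.coe_inv, coe_autRes_pow]
        exact hper v) (fun v hv => hfree v v.2 hv) i hi u hu)
    (fun u => by
      show (restr ρ (h.inv_wspace (h.sigma_rad hs) le_rfl θ)) ((((autRes e H heH) ^ t) u : H) : U) = (restr ρ (h.inv_wspace (h.sigma_rad hs) le_rfl θ)) (u : U)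
      rw [coe_autRes_pow]
      exact het u) hPH.comm hPH.intw hPH.commS hC'.triv with h1 | ⟨rfl, hd, v, hv, hSv⟩
  · refine absurd ((h.still_iff hs hC ht htr htU).2 fun u => ?_) hne
    have h2 : (⟨_, hbase u⟩ : H) ∈ (rad ρ).subgroupOf H := h1 ▸ Subgroup.mem_top _
    exact h2
  refine ⟨rfl, ⟨v, fun h0 => hv (Subtype.ext h0), congrArg Subtype.val hSv⟩, H,
    fun u => ⟨fun hu => ?_, fun hu => ?_⟩, hd⟩
  · have hn : (rad ρ).Normal := hA.toNd.normal
    refine hfree _ (mul_mem hu ((heH u).2 hu)) ?_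
    have h2 : (u⁻¹ * (e ^ 2) u) ∈ rad ρ := hper u
    rw [pow_two, MulAut.mul_apply] at h2
    have h4 : u⁻¹ * (e u * u⁻¹ * (e u)⁻¹ * u) * u⁻¹⁻¹ ∈ rad ρ := by
      refine hn.conj_mem _ ?_ u⁻¹
      have h5 := hA.toNd.comm u⁻¹ (e u)
      rwa [inv_inv] at h5
    rw [show (u * e u)⁻¹ * e (u * e u) =
      (e u)⁻¹ * u⁻¹ * e u * u * (u⁻¹ * e (e u)) by rw [map_mul]; group]
    refine mul_mem ?_ h2
    have h6 := hA.toNd.comm u⁻¹ (e u)⁻¹
    rwa [inv_inv, inv_inv] at h6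
  · obtain ⟨m, hm⟩ : Odd (Nat.card U) := Nat.coprime_two_left.1 htU
    have h2 : u * u ∈ H := by
      have h3 := mul_mem (hRH hu) (inv_mem (hbase u))
      rwa [mul_inv_rev, inv_inv, mul_assoc, mul_inv_cancel_left] at h3
    have h3 : u = (u * u) ^ (m + 1) := by
      rw [← pow_two, ← pow_mul, show 2 * (m + 1) = Nat.card U + 1 by omega, pow_succ,
        pow_card_eq_one', one_mul]
    exact h3 ▸ pow_mem h2 _

end Two

theorem Cof.npow {t : ℕ} {e : MulAut U} {E : Module.End k M} (hC : Cof ρ Z σ S t e E) (n : ℕ) :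
    Cof ρ Z σ S t (e ^ n) (E ^ n) where
  pert := hC.pert.npow n
  ord := hC.ord.imp fun m hm => by rw [← pow_mul, mul_comm, pow_mul, hm, one_pow]
  triv v hv := by
    induction n with
    | zero => rfl
    | succ n ih => rw [pow_succ, Module.End.mul_apply, hC.triv v hv, ih]

namespace Two

variable {t : ℕ} {e : MulAut U} {E : Module.End k M}

/-- A moved automorphism is an involution modulo the radical. -/
theorem exc [FiniteDimensional k M] (h : Two ρ Z σ S r) (hs : Scal ρ Z σ)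
    (hC : Cof ρ Z σ S t e E) (ht : t.Prime) (htr : t ≠ r) (htU : t.Coprime (Nat.card U))
    (hne : ¬ Still ρ e) :
    t = 2 ∧ (∃ v, v ≠ 0 ∧ S v = v) ∧ (∀ u, u⁻¹ * (e ^ 2) u ∈ rad ρ) ∧
      ∃ H : Subgroup U, (∀ u, u ∈ H ↔ u * e u ∈ rad ρ) ∧
      ∃ d, d + 1 = 2 * r ∧ Nat.card (H ⧸ (rad ρ).subgroupOf H) = d * d := by
  classical
  obtain ⟨n, hn⟩ := hC.ord
  have hex : ∃ s, ∀ u, u⁻¹ * (e ^ t ^ s) u ∈ rad ρ := ⟨n, fun u => by
    rw [hn, MulAut.one_apply, inv_mul_cancel]; exact one_mem _⟩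
  obtain ⟨s, hs0⟩ : ∃ s, s = Nat.find hex := ⟨_, rfl⟩
  have hsper : ∀ u, u⁻¹ * (e ^ t ^ s) u ∈ rad ρ := hs0 ▸ Nat.find_spec hex
  have hnot : ∀ i < s, ¬ Still ρ (e ^ t ^ i) := fun i hi h1 => Nat.find_min hex (hs0 ▸ hi)
    ((h.still_iff hs (hC.npow _) ht htr htU).1 h1)
  obtain ⟨a, rfl⟩ : ∃ a, s = a + 1 := ⟨s - 1, (Nat.sub_add_cancel (Nat.one_le_iff_ne_zero.2 fun h0 =>
    hne ((h.still_iff hs hC ht htr htU).2 fun u => by
      have := hsper u
      rwa [h0, pow_zero, pow_one] at this))).symm⟩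
  obtain ⟨ht2, hv, H, hH, hd⟩ := h.exc_min hs (hC.npow (t ^ a)) ht htr htU (hnot a (Nat.lt_succ_self a))
    fun u => by rw [← pow_mul, ← pow_succ]; exact hsper u
  rcases Nat.eq_zero_or_pos a with rfl | ha
  · rw [pow_zero, pow_one] at hH
    rw [zero_add, pow_one] at hsper
    exact ⟨ht2, hv, ht2 ▸ hsper, H, hH, hd⟩
  exfalso
  obtain ⟨c, rfl⟩ : ∃ c, a = c + 1 := ⟨a - 1, (Nat.sub_add_cancel ha).symm⟩
  subst ht2
  obtain ⟨b, hb⟩ : ∃ b, b = e ^ 2 ^ c := ⟨_, rfl⟩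
  have hCb : Cof ρ Z σ S 2 b (E ^ 2 ^ c) := hb ▸ hC.npow _
  have hb2 : e ^ 2 ^ (c + 1) = b ^ 2 := by rw [hb, ← pow_mul, ← pow_succ]
  rw [hb2] at hH
  haveI := Fintype.ofFinite (Abelianization (rad ρ))
  have hCb2 := hCb.npow 2
  have hnb2 : ¬ Still ρ (b ^ 2) := hb2 ▸ hnot (c + 1) (Nat.lt_succ_self _)
  obtain ⟨θ, hθ, hbot⟩ := h.exists_core hs hCb ht htr fun h1 => hnb2 fun u => by
    rw [pow_two, MulAut.mul_apply, h1, h1]
  obtain ⟨hEI, hC'⟩ := h.core_cof hs hCb hθ hbot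
  haveI := (Submodule.nontrivial_iff_ne_bot
    (p := wspace (abLift ρ (rad ρ) (rad_comm ρ)) θ)).2 hbot
  have hA := h.act_core hs hθ hbot
  haveI := hA.toNd.normal
  have hσb : b * σ = σ * b := hCb.pert.comm
  have hinv : ∀ φ : MulAut U, φ * b = b * φ → (∀ u, φ u ∈ rad ρ ↔ u ∈ rad ρ) →
      ∀ u, φ u ∈ H ↔ u ∈ H := fun φ hc hR u => by
    rw [hH, hH, ← MulAut.mul_apply, ← ((show Commute φ b from hc).pow_right 2).eq, MulAut.mul_apply,
      ← map_mul, hR]
  have hσH := hinv σ hσb.symm hA.mem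
  have hbH := hinv b rfl hC'.pert.mem
  have hR4 : ∀ u, u⁻¹ * (b ^ 4) u ∈ rad ρ := fun u => by
    have := hsper u
    rwa [show e ^ 2 ^ (c + 1 + 1) = b ^ 4 by rw [hb, ← pow_mul]; ring_nf] at this
  -- the inverted part is free and non-degenerate
  obtain ⟨H', hRH', hσH', heH', hbase', hfree', hnd'⟩ :=
    exists_moved_part hA (hC'.pert.npow 2) htU fun u => by rw [← pow_mul]; exact hR4 u
  have hodd : ∀ u, u * u ∈ H' → u ∈ H' := fun u hu => by
    obtain ⟨m, hm⟩ : Odd (Nat.card U) := Nat.coprime_two_left.1 htU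
    have h3 : u = (u * u) ^ (m + 1) := by
      rw [← pow_two, ← pow_mul, show 2 * (m + 1) = Nat.card U + 1 by omega, pow_succ,
        pow_card_eq_one', one_mul]
    exact h3 ▸ pow_mem hu _
  have hbH' : ∀ u, b u ∈ H' ↔ u ∈ H' := by
    have hchar : ∀ u, u ∈ H' ↔ u ∈ H := fun u => by
      rw [hH]
      refine ⟨fun hu => hfree' _ (mul_mem hu ((heH' u).2 hu)) ?_, fun hu => hodd u ?_⟩
      · have h2 : u⁻¹ * (b ^ 2) ((b ^ 2) u) ∈ rad ρ := by
          rw [← MulAut.mul_apply, ← pow_add]; exact hR4 u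
        rw [show (u * (b ^ 2) u)⁻¹ * (b ^ 2) (u * (b ^ 2) u) =
          ((b ^ 2) u)⁻¹ * u⁻¹ * (b ^ 2) u * u * (u⁻¹ * (b ^ 2) ((b ^ 2) u)) by rw [map_mul]; group]
        refine mul_mem ?_ h2
        have h6 := hA.toNd.comm u⁻¹ ((b ^ 2) u)⁻¹
        rwa [inv_inv, inv_inv] at h6
      · have h3 := mul_mem (hRH' hu) (inv_mem (hbase' u))
        rwa [mul_inv_rev, inv_inv, mul_assoc, mul_inv_cancel_left] at h3
    intro u
    rw [hchar, hchar, hbH]
  haveI : Fintype H' := Fintype.ofFinite H'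
  have hAH := hA.restrict H' hσH' hnd'
  have hPH := hC'.pert.restrict H' hσH' hbH'
  have hf2 : ∀ i, ¬ 2 ∣ i → ∀ u : H', u⁻¹ * (((autRes b H' hbH') ^ 2) ^ i) u ∈ (rad ρ).subgroupOf H' →
      u ∈ (rad ρ).subgroupOf H' := fun i hi u hu => free_of_prime ((autRes b H' hbH') ^ 2)
    Nat.prime_two (fun w => (hPH.npow 2).mem w) (fun w => by
      show ((w⁻¹ * (((autRes b H' hbH') ^ 2) ^ 2) w : H') : U) ∈ rad ρ
      rw [Subgroup.coe_mul, Subgroup.coe_inv, ← pow_mul, coe_autRes_pow]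
      exact hR4 w) (fun w hw => hfree' w w.2 (by
      have : ((w⁻¹ * ((autRes b H' hbH') ^ 2) w : H') : U) ∈ rad ρ := hw
      rwa [Subgroup.coe_mul, Subgroup.coe_inv, coe_autRes_pow] at this)) i hi u hu
  have hf4 : ∀ i, ¬ 4 ∣ i → ∀ u : H', u⁻¹ * ((autRes b H' hbH') ^ i) u ∈ (rad ρ).subgroupOf H' →
      u ∈ (rad ρ).subgroupOf H' := fun i hi u hu => by
    by_cases h2i : 2 ∣ i
    · obtain ⟨m, rfl⟩ := h2i
      exact hf2 m (fun ⟨q, hq⟩ => hi ⟨q, by omega⟩) u (by rwa [← pow_mul])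
    · refine hf2 i h2i u ?_
      rw [← pow_mul, mul_comm, pow_mul]
      exact fix_pow _ (mem_pow_iff _ hPH.mem i) hu 2
  rcases hAH.fixed_scalar (t := 4) (by norm_num)
    (Nat.Coprime.pow_right 2 ((Nat.coprime_primes h.prime Nat.prime_two).2 htr.symm)) hPH.fix
    hPH.mem hf4 (fun u => by
      show (restr ρ (h.inv_wspace (h.sigma_rad hs) le_rfl θ)) ((((autRes b H' hbH') ^ 4) u : H') : U) =
        (restr ρ (h.inv_wspace (h.sigma_rad hs) le_rfl θ)) (u : U)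
      rw [coe_autRes_pow]
      obtain ⟨q, hq⟩ := hCb.ord
      exact hA.rho_eq_of_trivial (hC'.pert.npow 4) (htU.pow_left q)
        (fun v => by rw [← pow_mul, mul_comm, pow_mul, hq, one_pow]; rfl) hR4 u)
    hPH.comm hPH.intw hPH.commS hC'.triv
    with h1 | ⟨h1, -, -⟩
  · refine hnb2 ((h.still_iff hs hCb2 ht htr htU).2 fun u => ?_)
    have h2 : (⟨_, hbase' u⟩ : H') ∈ (rad ρ).subgroupOf H' := h1 ▸ Subgroup.mem_top _
    exact h2
  · exact absurd h1 (by norm_num)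

end Two

end Cfsg.Agent.Solv.FHeight
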