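import Cfsg.Agent.Lib.Solv.FHeight.LinkMain
import Cfsg.Agent.Lib.Solv.FPFMinimal

/-!
A group of automorphisms fixing the fixed vectors is still, if a second group moves no fixed vector.
-/

set_option autoImplicit false
set_option linter.unusedSectionVars false
set_option linter.style.haveILetI false

namespace Cfsg.Agent.Solv.FHeight

open Module Cfsg.Agent.Perm.WeightIdem

variable {k : Type*} [Field k] [IsAlgClosed k] {M : Type*} [AddCommGroup M] [Module k M]
  [FiniteDimensional k M] {U : Type*} [Group U] [Fintype U]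
  {ρ : U →* Module.End k M} {Z : Subgroup U} {σ : MulAut U} {S : Module.End k M} {r : ℕ}

/-- The fixed elements of `Z`. -/
def fixIn (Z : Subgroup U) (σ : MulAut U) : Subgroup U where
  carrier := {u | u ∈ Z ∧ σ u = u}
  one_mem' := ⟨one_mem Z, map_one σ⟩
  mul_mem' := fun {a b} ha hb => ⟨mul_mem ha.1 hb.1, by rw [map_mul, ha.2, hb.2]⟩
  inv_mem' := fun {a} ha => ⟨inv_mem ha.1, by rw [map_inv, ha.2]⟩

theorem sigma_fixIn (σ : MulAut U) (Z : Subgroup U) (h : ∀ u, σ u ∈ Z ↔ u ∈ Z) (u : U) :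
    σ u ∈ fixIn Z σ ↔ u ∈ fixIn Z σ :=
  ⟨fun hu => ⟨(h u).1 hu.1, σ.injective hu.2⟩, fun hu => hu.2.symm ▸ hu⟩

theorem sigma_sprod (σ : MulAut U) (w : U) : ∀ n, σ (sprod σ n w) = w⁻¹ * sprod σ (n + 1) w
  | 0 => by simp [sprod]
  | n + 1 => by
    rw [show sprod σ (n + 1) w = sprod σ n w * (σ ^ n) w from rfl, map_mul, sigma_sprod σ w n,
      show sprod σ (n + 1 + 1) w = sprod σ (n + 1) w * (σ ^ (n + 1)) w from rfl,
      show σ ((σ ^ n) w) = (σ ^ (n + 1)) w by rw [pow_succ', MulAut.mul_apply],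
      show sprod σ (n + 1) w = sprod σ n w * (σ ^ n) w from rfl, mul_assoc]

namespace Two

/-- Every element is still, when a second group generating it by commutators moves no fixed vector. -/
theorem link_group (h : Two ρ Z σ S r) {T : Type*} [Group T] (ε : T →* MulAut U)
    (Eo : T →* Module.End k M) {t : ℕ} (ht : t.Prime) (htr : t ≠ r) (htU : t.Coprime (Nat.card U))
    (hC : ∀ a, Cof ρ Z σ S t (ε a) (Eo a)) {Y : Type*} (f : Y → MulAut U)
    (Yo : Y → Module.End k M) (φ : Y → T → T) (hinj : ∀ y, Function.Injective (Yo y))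
    (hfσ : ∀ y, f y * σ = σ * f y) (hfZ : ∀ y u, f y u ∈ Z ↔ u ∈ Z)
    (hY : ∀ y v, Yo y * ρ v = ρ (f y v) * Yo y)
    (hφ : ∀ y a, ε (φ y a) * f y = f y * ε a)
    (hgen : Subgroup.closure (Set.range fun x : Y × T => φ x.1 x.2 * x.2⁻¹) = ⊤)
    (hfix : ∀ y z, z ∈ Z → σ z = z → ∀ v, S v = v → ρ (z⁻¹ * f y z) v = v) (a : T) :
    Still ρ (ε a) := by
  classical
  haveI := Fintype.ofFinite (Abelianization (fixIn Z σ))
  have hH := sigma_fixIn σ Z h.mem
  have hle : fixIn Z σ ≤ rad ρ := fun u hu => h.cen hu.1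
  have hc : ∀ x ∈ fixIn Z σ, ∀ z ∈ fixIn Z σ, ρ x * ρ z = ρ z * ρ x :=
    fun x _ z hz => hle hz x
  have hW := h.wts hH hc
  intro u
  refine LinearMap.ext fun x => hW.ext_comp fun μ => ?_
  have hfixed : FixedChar (abAut σ (fixIn Z σ) hH) μ := fun b => by
    obtain ⟨z, rfl⟩ := ab_of_surjective (fixIn Z σ) b
    rw [abAut_of, show autRes σ (fixIn Z σ) hH z = z from Subtype.ext z.2.2]
  have hm : ∀ v y, idem (abLift ρ (fixIn Z σ) hc) μ (ρ v y) =
      ρ v (idem (abLift ρ (fixIn Z σ) hc) μ y) := fun v y => DFunLike.congr_fun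
    (commute_idem (abLift ρ (fixIn Z σ) hc) μ (y := ρ v) fun b => by
      obtain ⟨z, rfl⟩ := ab_of_surjective (fixIn Z σ) b
      exact hle z.2 v).eq.symm y
  rw [hm, hm]
  have hI : Inv ρ (wspace (abLift ρ (fixIn Z σ) hc) μ) := fun q w hw => hW.map_wspace (fun b => by
    obtain ⟨z, rfl⟩ := ab_of_surjective (fixIn Z σ) b
    exact hle z.2 q) hw
  have hSI : ∀ w ∈ wspace (abLift ρ (fixIn Z σ) hc) μ, S w ∈ wspace (abLift ρ (fixIn Z σ) hc) μ :=
    fun w hw => hW.S_wspace hfixed hw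
  have hEI : ∀ b, ∀ w ∈ wspace (abLift ρ (fixIn Z σ) hc) μ,
      Eo b w ∈ wspace (abLift ρ (fixIn Z σ) hc) μ := fun b w hw => hW.map_wspace (fun q => by
    obtain ⟨z, rfl⟩ := ab_of_surjective (fixIn Z σ) q
    show Eo b * _ = _ * Eo b
    rw [abLift_of, (hC b).pert.intw, (hC b).pert.fix z z.2.1]) hw
  have hT := h.restrict hI hSI
  have hC' := fun b => (hC b).restrictSpace hI hSI (hEI b)
  suffices hall : ∀ b, Still (restr ρ hI) (ε b) from congrArg Subtype.val
    (DFunLike.congr_fun (hall a u) (⟨_, Wts.idem_mem μ x⟩ : wspace (abLift ρ (fixIn Z σ) hc) μ))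
  by_contra hex
  push Not at hex
  obtain ⟨b₀, hb₀⟩ := hex
  rcases hT.link_elem (hC' b₀) ht htr htU with hs | ⟨rfl, v, hv, hSv⟩
  · exact hb₀ hs
  have hμ : ∀ z ∈ Z, ∃ c : k, restr ρ hI (sprod σ r z) = c • 1 := by
    intro z hz
    haveI := Fact.mk h.prime
    obtain ⟨c, hcσ, hcN⟩ := FPFOp.exists_fixed_in_left_coset σ (k := 1)
      (by rw [pow_one]; exact h.pow) (Z ⊓ ρ.ker)
      (fun w hw => ⟨(h.mem w).2 hw.1, by
        show ρ (σ w) = 1
        have h1 := h.Scomm w
        rw [show ρ w = 1 from hw.2, mul_one] at h1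
        have h2 : S ^ r = S ^ (r - 1) * S := by rw [← pow_succ, Nat.sub_add_cancel h.prime.one_le]
        have h3 := congrArg (fun A => A * S ^ (r - 1)) h1.symm
        simp only [mul_assoc, ← pow_succ', Nat.sub_add_cancel h.prime.one_le, h.Spow, mul_one] at h3
        exact h3⟩)
      (fun hd => h.prime.ne_one (Nat.dvd_one.1 (h.cop.gcd_eq_one ▸
        Nat.dvd_gcd dvd_rfl (hd.trans (Subgroup.card_subgroup_dvd_card _)))))
      (a := sprod σ r z)
      (by
        have hsp := sprod_mem h.mem hz r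
        have he : σ (sprod σ r z) = z⁻¹ * (sprod σ r z * z) := by
          rw [sigma_sprod, show sprod σ (r + 1) z = sprod σ r z * (σ ^ r) z from rfl, h.pow,
            MulAut.one_apply]
        refine Subgroup.mem_inf.2 ⟨Z.mul_mem (Z.inv_mem hsp) ((h.mem _).2 hsp), ?_⟩
        show ρ ((sprod σ r z)⁻¹ * σ (sprod σ r z)) = 1
        have hz' : ρ (sprod σ r z * z) = ρ (z * sprod σ r z) := by
          rw [map_mul, map_mul]; exact h.cen hz _
        rw [he, map_mul, map_mul ρ z⁻¹, hz', ← map_mul, ← map_mul,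
          show (sprod σ r z)⁻¹ * (z⁻¹ * (z * sprod σ r z)) = 1 by group, map_one])
    have hcZ : c ∈ Z := (Z.mul_mem_cancel_left (inv_mem (sprod_mem h.mem hz r))).1 hcN.1
    refine ⟨(μ (Abelianization.of ⟨c, hcZ, hcσ⟩) : k), LinearMap.ext fun w => Subtype.ext ?_⟩
    rw [coe_restr, LinearMap.smul_apply, Module.End.one_apply, Submodule.coe_smul,
      ← hW.wspace_smul w.2 (Abelianization.of ⟨c, hcZ, hcσ⟩), abLift_of]
    show ρ (sprod σ r z) _ = ρ c _
    conv_rhs => rw [← mul_inv_cancel_left (sprod σ r z) c, map_mul,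
      show ρ ((sprod σ r z)⁻¹ * c) = 1 from hcN.2, mul_one]
  -- the second group preserves the component
  have hYW : ∀ y, ∀ w ∈ wspace (abLift ρ (fixIn Z σ) hc) μ,
      Yo y w ∈ wspace (abLift ρ (fixIn Z σ) hc) μ := by
    intro y
    have hfH : ∀ z, f y z ∈ fixIn Z σ ↔ z ∈ fixIn Z σ := fun z => by
      have h1 : σ (f y z) = f y (σ z) := (DFunLike.congr_fun (hfσ y) z).symm
      exact ⟨fun hz => ⟨(hfZ y z).1 hz.1, (f y).injective (h1.symm.trans hz.2)⟩,
        fun hz => ⟨(hfZ y z).2 hz.1, by rw [h1, hz.2]⟩⟩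
    have hint := abLift_intw ρ (fixIn Z σ) hc hfH (hY y)
    have hμf : μ.comp (abAut (f y) (fixIn Z σ) hfH).toMonoidHom = μ := by
      refine MonoidHom.ext fun b => ?_
      obtain ⟨z, rfl⟩ := ab_of_surjective (fixIn Z σ) b
      have hd : (z : U)⁻¹ * f y z ∈ fixIn Z σ := mul_mem (inv_mem z.2) ((hfH z).2 z.2)
      have h1 := hfix y z z.2.1 z.2.2 (v : M) (congrArg Subtype.val hSv)
      have h2 := hW.wspace_smul v.2 (Abelianization.of ⟨_, hd⟩)
      rw [abLift_of] at h2
      change ρ ((z : U)⁻¹ * f y z) _ = _ at h2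
      rw [h1] at h2
      have h3 : (μ (Abelianization.of ⟨_, hd⟩) : k) = 1 :=
        smul_left_injective k (fun h0 => hv (Subtype.ext h0)) (h2.symm.trans (one_smul k _).symm)
      rw [Units.val_eq_one] at h3
      rw [show (⟨_, hd⟩ : fixIn Z σ) = z⁻¹ * autRes (f y) (fixIn Z σ) hfH z from rfl, map_mul,
        map_mul, map_inv, map_inv, inv_mul_eq_one] at h3
      exact h3.symm
    intro w hw
    rw [hW.mem_wspace] at hw ⊢
    rw [Wts.intw_comp hint, hμf, hw]
  -- the still elements form everything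
  let N : Subgroup T :=
    { carrier := {b | Still (restr ρ hI) (ε b)}
      one_mem' := fun u => by rw [map_one, MulAut.one_apply]
      mul_mem' := fun {b c} hb hc u => by rw [map_mul, MulAut.mul_apply, hb, hc]
      inv_mem' := fun {b} hb u => by
        rw [← hb (ε b⁻¹ u), ← MulAut.mul_apply, ← map_mul, mul_inv_cancel, map_one,
          MulAut.one_apply] }
  have hsame : ∀ y b, φ y b ∈ N ↔ b ∈ N := by
    intro y b
    have hYr : ∀ v, (Yo y).restrict (hYW y) * restr ρ hI v =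
        restr ρ hI (f y v) * (Yo y).restrict (hYW y) :=
      fun v => LinearMap.ext fun w => Subtype.ext (DFunLike.congr_fun (hY y v) (w : M))
    have hYinj : Function.Injective ((Yo y).restrict (hYW y)) := fun w w' hww =>
      Subtype.ext (hinj y (congrArg Subtype.val hww))
    have hφ' : ∀ u, ε (φ y b) (f y u) = f y (ε b u) := fun u => DFunLike.congr_fun (hφ y b) u
    have hcancel : ∀ {A B : Module.End k (wspace (abLift ρ (fixIn Z σ) hc) μ)},
        A * (Yo y).restrict (hYW y) = B * (Yo y).restrict (hYW y) → A = B := fun hAB => by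
      refine LinearMap.ext fun w => ?_
      obtain ⟨w, rfl⟩ := LinearMap.injective_iff_surjective.1 hYinj w
      exact DFunLike.congr_fun hAB w
    constructor
    · intro hN u
      refine LinearMap.ext fun w => hYinj ?_
      rw [← Module.End.mul_apply, hYr, ← hφ', hN, ← hYr, Module.End.mul_apply]
    · intro hN u
      obtain ⟨u, rfl⟩ := (f y).surjective u
      refine hcancel ?_
      rw [hφ', ← hYr, hN, hYr]
  refine hb₀ (show b₀ ∈ N from ?_)
  have htop : (⊤ : Subgroup T) ≤ N := by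
    rw [← hgen, Subgroup.closure_le]
    rintro _ ⟨⟨y, b⟩, rfl⟩
    by_cases hb : b ∈ N
    · exact mul_mem ((hsame y b).2 hb) (inv_mem hb)
    · have hP := hC (φ y b * b⁻¹)
      rw [map_mul, map_mul] at hP
      have h1 := hT.link_pair htr.symm hμ (hC' (φ y b)) (hC' b⁻¹)
        (hP.restrictSpace hI hSI fun w hw => hEI (φ y b) _ (hEI b⁻¹ w hw)) htU
        ((hsame y b).not.2 hb) (fun h' => hb (inv_mem_iff.1 (show b⁻¹ ∈ N from h')))
      show Still (restr ρ hI) (ε (φ y b * b⁻¹))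
      rw [map_mul]; exact h1
  exact htop trivial

end Two

end Cfsg.Agent.Solv.FHeight
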