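import Cfsg.Agent.Lib.Solv.FHeight.Link

/-!
Operators centralising the fixed vectors: the exceptional automorphisms form at most one class.
-/

set_option autoImplicit false
set_option linter.unusedSectionVars false
set_option linter.style.haveILetI false

namespace Cfsg.Agent.Solv.FHeight

open Module Cfsg.Agent.Perm.WeightIdem

variable {k : Type*} [Field k] [IsAlgClosed k] {M : Type*} [AddCommGroup M] [Module k M]
  [FiniteDimensional k M] {U : Type*} [Group U] [Fintype U]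
  {ρ : U →* Module.End k M} {Z : Subgroup U} {σ : MulAut U} {S : Module.End k M} {r : ℕ}

/-- The ordered product of the first translates. -/
def sprod (σ : MulAut U) : ℕ → U → U
  | 0, _ => 1
  | n + 1, z => sprod σ n z * (σ ^ n) z

theorem sprod_mem {σ : MulAut U} {H : Subgroup U} (hH : ∀ u, σ u ∈ H ↔ u ∈ H) {z : U} (hz : z ∈ H) :
    ∀ n, sprod σ n z ∈ H
  | 0 => one_mem H
  | n + 1 => mul_mem (sprod_mem hH hz n) ((mem_pow_iff σ hH n z).2 hz)

/-- The value of a fixed character on the ordered product. -/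
theorem fixedChar_sprod {H : Subgroup U} [Fintype (Abelianization H)] {σ : MulAut U} (hH : ∀ u, σ u ∈ H ↔ u ∈ H)
    {χ : Abelianization H →* kˣ} (hχ : FixedChar (abAut σ H hH) χ) (z : H) : ∀ n,
    χ (Abelianization.of ⟨sprod σ n z, sprod_mem hH z.2 n⟩) = χ (Abelianization.of z) ^ n
  | 0 => by
    rw [pow_zero, show (⟨sprod σ 0 z, sprod_mem hH z.2 0⟩ : H) = 1 from rfl, map_one, map_one]
  | n + 1 => by
    rw [show (⟨sprod σ (n + 1) z, sprod_mem hH z.2 (n + 1)⟩ : H) =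
      ⟨sprod σ n z, sprod_mem hH z.2 n⟩ * ((autRes σ H hH) ^ n) z from
        Subtype.ext (by rw [Subgroup.coe_mul, coe_autRes_pow]; rfl),
      map_mul, map_mul, fixedChar_sprod hH hχ z n, ← abAut_pow, pow_succ]
    congr 1
    exact DFunLike.congr_fun (Wts.fixed_pow hχ n) (Abelianization.of z)

namespace Two

variable {t : ℕ} {e : MulAut U} {E : Module.End k M}

/-- Triviality on the image is decided on the fixed weight spaces of `Z`. -/
theorem still_of_fixed (h : Two ρ Z σ S r) [Fintype (Abelianization Z)] (hC : Cof ρ Z σ S t e E)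
    (hfx : ∀ χ : Abelianization Z →* kˣ, FixedChar (abAut σ Z h.mem) χ → ∀ u x,
      ρ (e u) (idem (abLift ρ Z h.comm_Z) χ x) = ρ u (idem (abLift ρ Z h.comm_Z) χ x)) :
    Still ρ e := by
  have hW := h.wts h.mem h.comm_Z
  have hm : ∀ (χ : Abelianization Z →* kˣ) v y, idem (abLift ρ Z h.comm_Z) χ (ρ v y) =
      ρ v (idem (abLift ρ Z h.comm_Z) χ y) := fun χ v y => DFunLike.congr_fun
    (commute_idem (abLift ρ Z h.comm_Z) χ (y := ρ v) fun b => by
      obtain ⟨z, rfl⟩ := ab_of_surjective Z b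
      exact h.cen z.2 v).eq.symm y
  intro u
  refine LinearMap.ext fun x => hW.ext_comp fun χ => ?_
  rw [hm, hm]
  by_cases hχ : FixedChar (abAut σ Z h.mem) χ
  · exact hfx χ hχ u x
  have hE : ∀ b, E * abLift ρ Z h.comm_Z b =
      abLift ρ Z h.comm_Z ((1 : MulAut (Abelianization Z)) b) * E := by
    intro b
    obtain ⟨⟨z, hz⟩, rfl⟩ := ab_of_surjective Z b
    rw [MulAut.one_apply, abLift_of, hC.pert.intw, hC.pert.fix z hz]
  have hfix := hW.moved_triv hE (by rw [one_mul, mul_one]) hC.pert.commS (N := 1) (one_pow 1)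
    (Nat.coprime_one_right r) hC.triv hχ
  have h1 := DFunLike.congr_fun (hC.pert.intw u) (idem (abLift ρ Z h.comm_Z) χ x)
  rw [Module.End.mul_apply, Module.End.mul_apply, hfix x, ← hm χ u, hfix, hm χ u] at h1
  exact h1.symm

theorem E_wspace (h : Two ρ Z σ S r) [Fintype (Abelianization Z)] (hC : Cof ρ Z σ S t e E)
    (χ : Abelianization Z →* kˣ) :
    ∀ w ∈ wspace (abLift ρ Z h.comm_Z) χ, E w ∈ wspace (abLift ρ Z h.comm_Z) χ := fun w hw =>
  (h.wts h.mem h.comm_Z).map_wspace (fun b => by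
    obtain ⟨⟨z, hz⟩, rfl⟩ := ab_of_surjective Z b
    show E * _ = _ * E
    rw [abLift_of, hC.pert.intw, hC.pert.fix z hz]) hw

/-- An operator fixing the fixed vectors is trivial, or is an exception of order two. -/
theorem link_elem (h : Two ρ Z σ S r) (hC : Cof ρ Z σ S t e E) (ht : t.Prime) (htr : t ≠ r)
    (htU : t.Coprime (Nat.card U)) : Still ρ e ∨ (t = 2 ∧ ∃ v, v ≠ 0 ∧ S v = v) := by
  haveI := Fintype.ofFinite (Abelianization Z)
  rw [or_iff_not_imp_left]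
  intro hne
  have hW := h.wts h.mem h.comm_Z
  by_contra hno
  refine hne (h.still_of_fixed hC fun χ hχ u x => ?_)
  have hI := h.inv_wspace h.mem h.cen χ
  have hSI : ∀ w ∈ wspace (abLift ρ Z h.comm_Z) χ, S w ∈ wspace (abLift ρ Z h.comm_Z) χ :=
    fun w hw => hW.S_wspace hχ hw
  by_cases hst : Still (restr ρ hI) e
  · exact congrArg Subtype.val (DFunLike.congr_fun (hst u)
      (⟨_, Wts.idem_mem χ x⟩ : wspace (abLift ρ Z h.comm_Z) χ))
  obtain ⟨h2, ⟨v, hv, hSv⟩, -, -⟩ := (h.restrict hI hSI).exc (h.scal_wspace hχ)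
    (hC.restrictSpace hI hSI (h.E_wspace hC χ)) ht htr htU hst
  exact absurd ⟨h2, (v : M), fun h0 => hv (Subtype.ext h0), congrArg Subtype.val hSv⟩ hno

/-- Two exceptional automorphisms differ trivially, for scalar `Z`. -/
theorem pair_scal (h : Two ρ Z σ S r) (hs : Scal ρ Z σ) (hr2 : r ≠ 2) {ea eb : MulAut U}
    {Ea Eb : Module.End k M} (hA : Cof ρ Z σ S 2 ea Ea) (hB : Cof ρ Z σ S 2 eb Eb)
    (hAB : Cof ρ Z σ S 2 (ea * eb) (Ea * Eb)) (htU : Nat.Coprime 2 (Nat.card U))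
    (ha : ¬ Still ρ ea) (hb : ¬ Still ρ eb) : Still ρ (ea * eb) := by
  by_contra hab
  obtain ⟨-, -, pa, Ha, hHa, da, hda, hca⟩ := h.exc hs hA Nat.prime_two hr2.symm htU ha
  obtain ⟨-, -, pb, Hb, hHb, db, hdb, hcb⟩ := h.exc hs hB Nat.prime_two hr2.symm htU hb
  obtain ⟨-, -, pc, Hc, hHc, dc, hdc, hcc⟩ := h.exc hs hAB Nat.prime_two hr2.symm htU hab
  have hn : (rad ρ).Normal := ⟨fun z hz v => by
    have h1 := mul_mem (h.cen (h.comm z v)) hz
    rwa [inv_mul_cancel_right] at h1⟩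
  have hcomm : ∀ a b : U ⧸ rad ρ, a * b = b * a := by
    intro a b
    obtain ⟨a, rfl⟩ := QuotientGroup.mk_surjective a
    obtain ⟨b, rfl⟩ := QuotientGroup.mk_surjective b
    rw [← QuotientGroup.mk_mul, ← QuotientGroup.mk_mul, eq_comm]
    refine QuotientGroup.eq.2 ?_
    rw [show (b * a)⁻¹ * (a * b) = a⁻¹ * b⁻¹ * a * b by group]
    have h1 := h.cen (h.comm b⁻¹ a⁻¹)
    rwa [inv_inv, inv_inv] at h1
  letI : CommGroup (U ⧸ rad ρ) := { (inferInstance : Group (U ⧸ rad ρ)) with mul_comm := hcomm }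
  let q : ∀ (φ : MulAut U), (∀ u, φ u ∈ rad ρ ↔ u ∈ rad ρ) → (U ⧸ rad ρ →* U ⧸ rad ρ) :=
    fun φ hφ => QuotientGroup.map (rad ρ) (rad ρ) (φ : U ≃* U).toMonoidHom fun u hu => (hφ u).2 hu
  have hq : ∀ φ hφ (u : U), q φ hφ (u : U ⧸ rad ρ) = ((φ u : U) : U ⧸ rad ρ) := fun φ hφ u => rfl
  have hneg : ∀ φ hφ (H : Subgroup U), (∀ u, u ∈ H ↔ u * φ u ∈ rad ρ) →
      Nat.card (negOf (q φ hφ)) = Nat.card (H ⧸ (rad ρ).subgroupOf H) := by
    intro φ hφ H hH
    let g : H →* U ⧸ rad ρ := (QuotientGroup.mk' (rad ρ)).comp H.subtype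
    have hker : g.ker = (rad ρ).subgroupOf H := by
      ext u
      exact QuotientGroup.eq_one_iff (u : U)
    have hrange : g.range = negOf (q φ hφ) := by
      ext y
      obtain ⟨u, rfl⟩ := QuotientGroup.mk_surjective y
      have key : (u : U ⧸ rad ρ) ∈ negOf (q φ hφ) ↔ u ∈ H := by
        rw [mem_negOf, hq φ hφ, hcomm, ← QuotientGroup.mk_mul, QuotientGroup.eq_one_iff, hH]
      refine ⟨?_, fun hy => ⟨⟨u, key.1 hy⟩, rfl⟩⟩
      rintro ⟨⟨v, hv⟩, hvu⟩
      have hv' : (v : U ⧸ rad ρ) = (u : U ⧸ rad ρ) := hvu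
      rw [← hv', mem_negOf, hq φ hφ, hcomm, ← QuotientGroup.mk_mul, QuotientGroup.eq_one_iff]
      exact (hH v).1 hv
    rw [← hrange, ← hker]
    exact (Nat.card_congr (QuotientGroup.quotientKerEquivRange g).toEquiv).symm
  have hσ := h.sigma_rad hs
  have hodd : Odd (Nat.card (U ⧸ rad ρ)) :=
    (Nat.coprime_two_left.1 htU).of_dvd_nat (Subgroup.card_quotient_dvd_card _)
  let τ : MulAut (U ⧸ rad ρ) := QuotientGroup.congr (rad ρ) (rad ρ) σ (by
    ext u
    refine ⟨fun ⟨z, hz, hzu⟩ => hzu ▸ (hσ z).2 hz, fun hu => ⟨σ.symm u, (hσ _).1 ?_,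
      MulEquiv.apply_symm_apply σ u⟩⟩
    rw [MulEquiv.apply_symm_apply]; exact hu)
  have hτ : ∀ n (u : U), (τ ^ n) (u : U ⧸ rad ρ) = (((σ ^ n) u : U) : U ⧸ rad ρ) := by
    intro n
    induction n with
    | zero => intro u; rfl
    | succ n ih => intro u; rw [pow_succ', MulAut.mul_apply, ih, pow_succ', MulAut.mul_apply]; rfl
  have hτ1 : ∀ u : U, τ (u : U ⧸ rad ρ) = ((σ u : U) : U ⧸ rad ρ) := fun u => rfl
  have hinvq : ∀ φ hφ, (∀ u, u⁻¹ * (φ ^ 2) u ∈ rad ρ) → ∀ v, q φ hφ (q φ hφ v) = v := by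
    intro φ hφ hp v
    obtain ⟨u, rfl⟩ := QuotientGroup.mk_surjective v
    rw [hq φ hφ, hq φ hφ, ← MulAut.mul_apply, ← pow_two]
    exact (QuotientGroup.eq.2 (hp u)).symm
  have hA' := h.rad_iff hA
  have hB' := h.rad_iff hB
  have hAB' := h.rad_iff hAB
  have hcompq : (q ea hA').comp (q eb hB') = q (ea * eb) hAB' :=
    MonoidHom.ext fun v => by obtain ⟨u, rfl⟩ := QuotientGroup.mk_surjective v; rfl
  have qA := hinvq ea hA' pa
  have qB := hinvq eb hB' pb
  have qAB := hinvq (ea * eb) hAB' pc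
  have hABc : ∀ v, q ea hA' (q eb hB' v) = q eb hB' (q ea hA' v) := by
    intro v
    have h1 := qAB (q eb hB' (q ea hA' v))
    rw [← hcompq] at h1
    simp only [MonoidHom.comp_apply, qB, qA] at h1
    exact h1
  have hcommτ : ∀ φ hφ, φ * σ = σ * φ → ∀ v, q φ hφ (τ v) = τ (q φ hφ v) := by
    intro φ hφ hc v
    obtain ⟨u, rfl⟩ := QuotientGroup.mk_surjective v
    rw [hτ1, hq φ hφ, hq φ hφ, hτ1, ← MulAut.mul_apply, hc, MulAut.mul_apply]
  have hx : ∀ {d}, d + 1 = 2 * r → d = 2 * r - 1 := fun hd => by omega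
  rw [hx hda] at hca
  rw [hx hdb] at hcb
  rw [hx hdc] at hcc
  refine no_three hodd h.prime hr2 τ (MulEquiv.ext fun v => ?_) (fun v hv => ?_) (q ea hA')
    (q eb hB') qA qB hABc (hcommτ ea hA' hA.pert.comm) (hcommτ eb hB' hB.pert.comm)
    (x := 2 * r - 1) (by have := h.prime.two_le; omega)
    ((hneg ea hA' Ha hHa).trans hca) ((hneg eb hB' Hb hHb).trans hcb)
    (hcompq ▸ (hneg (ea * eb) hAB' Hc hHc).trans hcc)
  · obtain ⟨u, rfl⟩ := QuotientGroup.mk_surjective v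
    rw [hτ, h.pow]; rfl
  · obtain ⟨u, rfl⟩ := QuotientGroup.mk_surjective v
    rw [hτ1] at hv
    refine (QuotientGroup.eq_one_iff u).2 ?_
    have hnZ : Z.Normal := ⟨fun z hz v => by
      have h1 := mul_mem (h.comm z v) hz
      rwa [inv_mul_cancel_right] at h1⟩
    exact free_mod hnZ σ h.mem h.cen (fun v hv => (hσ v).2 hv) h.free (QuotientGroup.eq.1 hv.symm)

/-- Two exceptional automorphisms differ trivially, when orbit products in `Z` act by scalars. -/
theorem link_pair (h : Two ρ Z σ S r) (hr2 : r ≠ 2)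
    (hμ : ∀ z ∈ Z, ∃ c : k, ρ (sprod σ r z) = c • 1) {ea eb : MulAut U}
    {Ea Eb : Module.End k M} (hA : Cof ρ Z σ S 2 ea Ea) (hB : Cof ρ Z σ S 2 eb Eb)
    (hAB : Cof ρ Z σ S 2 (ea * eb) (Ea * Eb)) (htU : Nat.Coprime 2 (Nat.card U))
    (ha : ¬ Still ρ ea) (hb : ¬ Still ρ eb) : Still ρ (ea * eb) := by
  haveI := Fintype.ofFinite (Abelianization Z)
  have hW := h.wts h.mem h.comm_Z
  have huniq : ∀ χ χ' : Abelianization Z →* kˣ, FixedChar (abAut σ Z h.mem) χ →
      FixedChar (abAut σ Z h.mem) χ' → wspace (abLift ρ Z h.comm_Z) χ ≠ ⊥ →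
      wspace (abLift ρ Z h.comm_Z) χ' ≠ ⊥ → χ = χ' := by
    intro χ χ' hf hf' hne hne'
    refine MonoidHom.ext fun b => ?_
    obtain ⟨z, rfl⟩ := ab_of_surjective Z b
    obtain ⟨c, hc⟩ := hμ _ z.2
    have hval : ∀ φ, FixedChar (abAut σ Z h.mem) φ → wspace (abLift ρ Z h.comm_Z) φ ≠ ⊥ →
        ((φ (Abelianization.of z) ^ r : kˣ) : k) = c := by
      intro φ hφ hb'
      obtain ⟨w, hw, hw0⟩ := Submodule.ne_bot_iff _ |>.1 hb'
      rw [← fixedChar_sprod h.mem hφ z r]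
      have h1 := hW.wspace_smul hw (Abelianization.of ⟨sprod σ r z, sprod_mem h.mem z.2 r⟩)
      rw [abLift_of] at h1
      change ρ (sprod σ r z) w = _ at h1
      rw [hc, LinearMap.smul_apply, Module.End.one_apply] at h1
      exact (smul_left_injective k hw0 h1).symm
    have h1 : (χ (Abelianization.of z) / χ' (Abelianization.of z)) ^ r = 1 := by
      rw [div_pow, Units.ext ((hval χ hf hne).trans (hval χ' hf' hne').symm), div_self']
    have h2 : (χ (Abelianization.of z) / χ' (Abelianization.of z)) ^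
        Nat.card (Abelianization Z) = 1 := by
      rw [div_pow, ← map_pow χ, ← map_pow χ', pow_card_eq_one', map_one, map_one, div_one]
    have h3 := pow_gcd_eq_one.2 ⟨h1, h2⟩
    rw [(h.card_sub Z).2, pow_one] at h3
    exact div_eq_one.1 h3
  have hloc : ∀ {e : MulAut U} {E : Module.End k M}, Cof ρ Z σ S 2 e E → ¬ Still ρ e →
      ∃ χ, ∃ _hχ : FixedChar (abAut σ Z h.mem) χ, wspace (abLift ρ Z h.comm_Z) χ ≠ ⊥ ∧
        ¬ Still (restr ρ (h.inv_wspace h.mem h.cen χ)) e := by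
    intro e E hC hne
    by_contra hno
    push Not at hno
    refine hne (h.still_of_fixed hC fun χ hχ u x => ?_)
    by_cases hb' : wspace (abLift ρ Z h.comm_Z) χ = ⊥
    · rw [wspace_eq_zero hb' x, map_zero, map_zero]
    exact congrArg Subtype.val (DFunLike.congr_fun (hno χ hχ hb' u)
      (⟨_, Wts.idem_mem χ x⟩ : wspace (abLift ρ Z h.comm_Z) χ))
  obtain ⟨χ, hχ, hne, hsa⟩ := hloc hA ha
  obtain ⟨χ', hχ', hne', hsb⟩ := hloc hB hb
  obtain rfl := huniq χ χ' hχ hχ' hne hne'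
  have hI := h.inv_wspace h.mem h.cen χ
  have hSI : ∀ w ∈ wspace (abLift ρ Z h.comm_Z) χ, S w ∈ wspace (abLift ρ Z h.comm_Z) χ :=
    fun w hw => hW.S_wspace hχ hw
  by_contra hab
  obtain ⟨χ'', hχ'', hne'', hsab⟩ := hloc hAB hab
  obtain rfl := huniq χ χ'' hχ hχ'' hne hne''
  refine hsab ((h.restrict hI hSI).pair_scal (h.scal_wspace hχ) hr2
    (hA.restrictSpace hI hSI (h.E_wspace hA χ)) (hB.restrictSpace hI hSI (h.E_wspace hB χ)) ?_ htU
    hsa hsb)
  have h1 := hAB.restrictSpace hI hSI (h.E_wspace hAB χ)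
  exact h1

end Two

end Cfsg.Agent.Solv.FHeight
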