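import Cfsg.Agent.Lib.Solv.FHeight.ClassTwo

/-!
All non-trivial eigenvalues of multiplicity at most one: the fixed vectors form a line.
-/

set_option autoImplicit false
set_option linter.unusedSectionVars false
set_option linter.style.haveILetI false

namespace Cfsg.Agent.Solv.FHeight

open Module Cfsg.Agent.Perm.WeightIdem

variable {k : Type*} [Field k] [IsAlgClosed k] {M : Type*} [AddCommGroup M] [Module k M]
  [FiniteDimensional k M]

theorem exists_smul_of_le_one {W : Submodule k M} (hW : finrank k W ≤ 1) {v w : M} (hv : v ∈ W)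
    (hv0 : v ≠ 0) (hw : w ∈ W) : ∃ c : k, w = c • v := by
  have h1 : finrank k W = 1 := le_antisymm hW (Nat.one_le_iff_ne_zero.2 fun h0 => hv0 (by
    have := Submodule.finrank_eq_zero.1 h0
    exact (Submodule.mem_bot k).1 (this ▸ hv)))
  obtain ⟨c, hc⟩ := exists_smul_eq_of_finrank_eq_one h1 (x := (⟨v, hv⟩ : W))
    (fun h0 => hv0 (congrArg Subtype.val h0)) ⟨w, hw⟩
  exact ⟨c, (congrArg Subtype.val hc).symm⟩

/-- The conclusion: a fixed line, and the eigenvalue `μ` occurs. -/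
def FixLine (S : Module.End k M) (μ : k) : Prop :=
  (∃ x, x ≠ 0 ∧ S x = x ∧ ∀ y, S y = y → ∃ c : k, y = c • x) ∧ ∃ w, w ≠ 0 ∧ S w = μ • w

theorem Wts.line_of_moved {B : Type*} [CommGroup B] [Fintype B] {f : B →* Module.End k M}
    {τ : MulAut B} {S : Module.End k M} {r : ℕ} (h : Wts f τ S r) {μ : k} (hμ : μ ^ r = 1)
    (hall : ∀ χ : B →* kˣ, FixedChar τ χ → ∀ x, idem f χ x = 0) {v : M} (hv : v ≠ 0)
    (hdim : finrank k (Module.End.eigenspace S μ) ≤ 1) : FixLine S μ := by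
  obtain ⟨χ, hχ, hπ⟩ : ∃ χ : B →* kˣ, ¬ FixedChar τ χ ∧ idem f χ v ≠ 0 := by
    by_contra hno
    push Not at hno
    refine hv (h.ext_comp fun χ => ?_)
    rw [map_zero]
    by_cases hχ : FixedChar τ χ
    · exact hall χ hχ v
    · exact hno χ hχ
  obtain ⟨x, hx⟩ : ∃ x, x = avg S r (idem f χ v) := ⟨_, rfl⟩
  have hxπ : idem f χ x = idem f χ v := by rw [hx, h.comp_avg hχ]
  have hSx : S x = x := hx ▸ apply_avg h.Spow _
  obtain ⟨w, hw⟩ : ∃ w, w = Wts.muAvg S r μ (idem f χ x) := ⟨_, rfl⟩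
  have hwm : w ∈ Module.End.eigenspace S μ := hw ▸ h.muAvg_mem hμ _
  have hwπ : idem f χ w = idem f χ x := by rw [hw, h.comp_muAvg hχ]
  have hw0 : w ≠ 0 := fun h0 => hπ (by rw [← hxπ, ← hwπ, h0, map_zero])
  refine ⟨⟨x, fun h0 => hπ (by rw [← hxπ, h0, map_zero]), hSx, fun y hy => ?_⟩,
    w, hw0, Module.End.mem_eigenspace_iff.1 hwm⟩
  obtain ⟨c, hc⟩ := exists_smul_of_le_one hdim hwm hw0 (h.muAvg_mem hμ (idem f χ y))
  obtain ⟨z, hz⟩ : ∃ z, z = y - c • x := ⟨_, rfl⟩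
  have hzπ : idem f χ z = 0 := by
    rw [hz, map_sub, map_smul, ← h.comp_muAvg hχ μ y, hc, map_smul, hwπ, sub_self]
  have hSz : ∀ l, (S ^ l) z = z := by
    intro l
    induction l with
    | zero => rfl
    | succ l ih => rw [pow_succ, Module.End.mul_apply, hz, map_sub, map_smul, hy, hSx, ← hz, ih]
  refine ⟨c, sub_eq_zero.1 (hz ▸ h.ext_comp fun χ' => ?_)⟩
  rw [map_zero]
  by_cases hχ' : FixedChar τ χ'
  · exact hall χ' hχ' z
  obtain ⟨c', hc'⟩ := exists_smul_of_le_one hdim hwm hw0 (h.muAvg_mem hμ (idem f χ' z))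
  have h1 : idem f χ (Wts.muAvg S r μ (idem f χ' z)) = 0 := by
    rw [Wts.muAvg, LinearMap.sum_apply, map_sum]
    refine Finset.sum_eq_zero fun l _ => ?_
    rw [LinearMap.smul_apply, map_smul, h.comp_pow]
    by_cases he : χ.comp (τ ^ l).toMonoidHom = χ'
    · rw [← he, h.idem_idem, ← h.comp_pow, hSz, hzπ, smul_zero]
    · rw [h.idem_ne he, map_zero, smul_zero]
  rw [hc', map_smul, hwπ] at h1
  have h2 : c' = 0 := (smul_eq_zero.1 h1).resolve_right (hxπ ▸ hπ)
  rw [← h.comp_muAvg hχ' μ z, hc', h2, zero_smul, map_zero]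

variable {U : Type*} [Group U] [Fintype U] {ρ : U →* Module.End k M} {Z : Subgroup U} {σ : MulAut U}
  {S : Module.End k M} {r : ℕ}

theorem Two.line_scal (h : Two ρ Z σ S r) (hs : Scal ρ Z σ) (hg : Gen σ) (hN : NoU ρ) (hr2 : r ≠ 2)
    (hodd : Odd (Nat.card U)) {μ : k} (hμ : μ ^ r = 1) (hμ1 : μ ≠ 1)
    (hdim : ∀ ν : k, ν ≠ 1 → finrank k (Module.End.eigenspace S ν) ≤ 1) {v : M} (hv : v ≠ 0) :
    FixLine S μ := by
  haveI := Fintype.ofFinite (Abelianization (rad ρ))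
  have hW := h.wts (h.sigma_rad hs) (rad_comm ρ)
  refine hW.line_of_moved hμ (fun θ hθ x => ?_) hv (hdim μ hμ1)
  by_contra hne
  have hb := wspace_ne_bot hne
  haveI := (Submodule.nontrivial_iff_ne_bot
    (p := wspace (abLift ρ (rad ρ) (rad_comm ρ)) θ)).2 hb
  refine (h.act_core hs hθ hb).no_mult_one hr2
    (hodd.of_dvd_nat (Subgroup.card_quotient_dvd_card _)) (h.core_proper hs hg hN hθ hb)
    fun ν hν => le_trans ?_ (hdim ν hν)
  exact LinearMap.finrank_le_finrank_of_injective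
    (f := LinearMap.codRestrict (Module.End.eigenspace S ν)
      ((wspace (abLift ρ (rad ρ) (rad_comm ρ)) θ).subtype.comp (Submodule.subtype _))
      fun w => eigenspace_restrict.1 w.2)
    fun a b hab => by
      have h1 := congrArg Subtype.val hab
      exact Subtype.ext (Subtype.ext h1)

/-- If non-trivial eigenvalues have multiplicity at most one, the fixed vectors form a line. -/
theorem Two.fixed_line (h : Two ρ Z σ S r) (hg : Gen σ) (hN : NoU ρ) (hr2 : r ≠ 2)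
    (hodd : Odd (Nat.card U)) {μ : k} (hμ : μ ^ r = 1) (hμ1 : μ ≠ 1)
    (hdim : ∀ ν : k, ν ≠ 1 → finrank k (Module.End.eigenspace S ν) ≤ 1) {v : M} (hv : v ≠ 0) :
    FixLine S μ := by
  haveI := Fintype.ofFinite (Abelianization Z)
  have hW := h.wts h.mem h.comm_Z
  by_cases hall : ∀ χ : Abelianization Z →* kˣ, FixedChar (abAut σ Z h.mem) χ →
      ∀ x, idem (abLift ρ Z h.comm_Z) χ x = 0
  · exact hW.line_of_moved hμ hall hv (hdim μ hμ1)
  push Not at hall
  obtain ⟨χ, hχ, x₀, hx₀⟩ := hall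
  have heig : ∀ χ' : Abelianization Z →* kˣ, FixedChar (abAut σ Z h.mem) χ' →
      ∀ x, idem (abLift ρ Z h.comm_Z) χ' x ≠ 0 →
      ∃ w, w ≠ 0 ∧ S w = μ • w ∧ idem (abLift ρ Z h.comm_Z) χ' w = w := by
    intro χ' hχ' x hx
    have hI := h.inv_wspace h.mem h.cen χ'
    have hSI : ∀ w ∈ wspace (abLift ρ Z h.comm_Z) χ', S w ∈ wspace (abLift ρ Z h.comm_Z) χ' :=
      fun w hw => hW.S_wspace hχ' hw
    obtain ⟨-, w, hw, hSw⟩ := (h.restrict hI hSI).line_scal (h.scal_wspace hχ') hg (hN.restrict hI)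
      hr2 hodd hμ hμ1 (fun ν hν => le_trans (LinearMap.finrank_le_finrank_of_injective
        (f := LinearMap.codRestrict (Module.End.eigenspace S ν)
          ((wspace (abLift ρ Z h.comm_Z) χ').subtype.comp (Submodule.subtype _))
          fun w => eigenspace_restrict.1 w.2)
        fun a b hab => by
      have h1 := congrArg Subtype.val hab
      exact Subtype.ext (Subtype.ext h1)) (hdim ν hν))
      (v := ⟨_, Wts.idem_mem χ' x⟩) (fun h0 => hx (congrArg Subtype.val h0))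
    exact ⟨w, fun h0 => hw (Subtype.ext h0), congrArg Subtype.val hSw, hW.mem_wspace.1 w.2⟩
  obtain ⟨w, hw, hSw, hwc⟩ := heig χ hχ x₀ hx₀
  have hother : ∀ χ', χ' ≠ χ → ∀ x, idem (abLift ρ Z h.comm_Z) χ' x = 0 := by
    intro χ' hne x
    by_contra hx
    obtain ⟨w', hw'm, hw'c⟩ : ∃ w', w' ∈ Module.End.eigenspace S μ ∧
        idem (abLift ρ Z h.comm_Z) χ' w' ≠ 0 := by
      by_cases hχ' : FixedChar (abAut σ Z h.mem) χ'
      · obtain ⟨w', hw', hSw', hwc'⟩ := heig χ' hχ' x hx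
        exact ⟨w', Module.End.mem_eigenspace_iff.2 hSw', by rwa [hwc']⟩
      · exact ⟨_, hW.muAvg_mem hμ (idem (abLift ρ Z h.comm_Z) χ' x), by rwa [hW.comp_muAvg hχ']⟩
    obtain ⟨c, rfl⟩ := exists_smul_of_le_one (hdim μ hμ1) (Module.End.mem_eigenspace_iff.2 hSw) hw hw'm
    exact hw'c (by rw [map_smul, ← hwc, hW.idem_ne hne, smul_zero])
  have hone : ∀ x, idem (abLift ρ Z h.comm_Z) χ x = x := fun x => hW.ext_comp fun χ' => by
    rcases eq_or_ne χ' χ with rfl | hne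
    · exact hW.idem_idem _ x
    · rw [hW.idem_ne hne, hother χ' hne x]
  have key : ∀ z : Z, ρ z = (χ (Abelianization.of z) : k) • 1 := fun z => LinearMap.ext fun x => by
    have h1 := Wts.apply_comp (f := abLift ρ Z h.comm_Z) χ (Abelianization.of z) x
    rwa [hone x, abLift_of] at h1
  refine h.line_scal (fun z hz => ⟨⟨_, key ⟨z, hz⟩⟩, ?_⟩) hg hN hr2 hodd hμ hμ1 hdim hv
  rw [key ⟨σ z, (h.mem z).2 hz⟩, key ⟨z, hz⟩,
    show (Abelianization.of (⟨σ z, (h.mem z).2 hz⟩ : Z)) = abAut σ Z h.mem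
      (Abelianization.of ⟨z, hz⟩) from rfl, hχ]

end Cfsg.Agent.Solv.FHeight
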