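import Cfsg.Agent.Lib.Solv.FHeight.Sums
import Cfsg.Agent.Lib.Solv.FHeight.MultOne
import Cfsg.Agent.Lib.Solv.FHeight.LinkMain
import Cfsg.Agent.Lib.Solv.FHeight.FunRep

/-!
A non-abelian representation with a commutator form invariant under a second group has fixed vectors.
-/

set_option autoImplicit false
set_option linter.unusedSectionVars false
set_option linter.style.haveILetI false

namespace Cfsg.Agent.Solv.FHeight

open Module Cfsg.Agent.Perm.WeightIdem

/-- The Fermat bound. -/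
theorem two_pow_bound {n a : ℕ} (hr : (2 ^ n + 1).Prime) (ha : 0 < a)
    (hd : 2 ^ n + 1 ∣ 2 ^ a - 1) : 2 * n ≤ a := by
  by_contra hlt
  push Not at hlt
  have h1 : 1 < 2 ^ a := Nat.one_lt_two_pow ha.ne'
  rcases le_or_gt a n with han | han
  · have h2 := Nat.le_of_dvd (by omega) hd
    have h3 := Nat.pow_le_pow_right (show 0 < 2 by norm_num) han
    omega
  obtain ⟨b, rfl⟩ := Nat.exists_eq_add_of_le han.le
  have hb : b < n := by omega
  have h4 : 2 ^ n + 1 ∣ 2 ^ b + 1 := by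
    have h5 : 2 ^ n + 1 ∣ (2 ^ n + 1) * 2 ^ b := dvd_mul_right _ _
    have h6 := Nat.dvd_sub h5 hd
    rwa [show (2 ^ n + 1) * 2 ^ b - (2 ^ (n + b) - 1) = 2 ^ b + 1 by
      have := Nat.one_le_two_pow (n := n + b)
      rw [add_mul, one_mul, ← pow_add]
      generalize 2 ^ (n + b) = A at this ⊢
      generalize 2 ^ b = B
      omega] at h6
  have h7 := Nat.le_of_dvd (Nat.succ_pos _) h4
  have h8 := Nat.pow_lt_pow_right (show 1 < 2 by norm_num) hb
  omega

variable {k : Type*} [Field k] {M : Type*} [AddCommGroup M] [Module k M] {Q U : Type*} [Group Q]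
  [Fintype Q] [Group U] [Fintype U]

/-- A form invariant under `U` without fixed points on `Q ⧸ F`. -/
structure LiveData (ρ : Q →* Module.End k M) (F : Subgroup Q) (σ : MulAut Q) (S : Module.End k M)
    (r p : ℕ) (α : U →* MulAut Q) (Z : Subgroup U) (τ : MulAut U) : Prop where
  card : (Nat.card Q : k) ≠ 0
  prime : r.Prime
  rk : (r : k) ≠ 0
  cop : r.Coprime (Nat.card Q)
  pp : p.Prime
  grp : IsPGroup p Q
  expp : ∀ a : Q, a ^ p ∈ F
  pow : σ ^ r = 1
  Spow : S ^ r = 1
  Scomm : ∀ v, S * ρ v = ρ (σ v) * S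
  mem : ∀ x, σ x ∈ F ↔ x ∈ F
  comm : ∀ a b : Q, b * a * b⁻¹ * a⁻¹ ∈ F
  scal : Scal ρ F σ
  nab : ∃ a b, ρ a * ρ b ≠ ρ b * ρ a
  amem : ∀ u, ∀ x ∈ F, α u x ∈ F
  afix : ∀ u, ∀ z ∈ F, ρ (α u z) = ρ z
  atau : ∀ u x, α (τ u) (σ x) = σ (α u x)
  agen : Subgroup.closure ((F : Set Q) ∪ {y | ∃ u x, y = x⁻¹ * α u x}) = ⊤
  ucop : r.Coprime (Nat.card U)
  pcop : p.Coprime (Nat.card U)
  upow : τ ^ r = 1
  umem : ∀ u, τ u ∈ Z ↔ u ∈ Z
  ucomm : ∀ a b : U, b * a * b⁻¹ * a⁻¹ ∈ Z
  ucen : ∀ z ∈ Z, ∀ u x, (α (z * u) x)⁻¹ * α (u * z) x ∈ F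
  ufree : ∀ u, u⁻¹ * τ u ∈ Z → u ∈ Z
  ugen : Gen τ

namespace LiveData

variable {ρ : Q →* Module.End k M} {F : Subgroup Q} {σ : MulAut Q} {S : Module.End k M} {r p : ℕ}
  {α : U →* MulAut Q} {Z : Subgroup U} {τ : MulAut U}

theorem F_le_rad (h : LiveData ρ F σ S r p α Z τ) : F ≤ rad ρ := fun z hz v => by
  obtain ⟨c, hc⟩ := (h.scal z hz).1
  rw [hc, mul_smul_comm, mul_one, smul_mul_assoc, one_mul]

theorem rad_normal (h : LiveData ρ F σ S r p α Z τ) : (rad ρ).Normal :=
  ⟨fun z hz v => by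
    have h1 := mul_mem (h.F_le_rad (h.comm z v)) hz
    rwa [inv_mul_cancel_right] at h1⟩

theorem sigma_rad (h : LiveData ρ F σ S r p α Z τ) (x : Q) : σ x ∈ rad ρ ↔ x ∈ rad ρ :=
  mem_iff_of_forward (fun _ hx => rad_fwd h.comm (fun z hz => (h.scal z hz).2) hx) x

theorem alpha_rad (h : LiveData ρ F σ S r p α Z τ) (u : U) (x : Q) :
    α u x ∈ rad ρ ↔ x ∈ rad ρ :=
  mem_iff_of_forward (fun _ hx => rad_fwd h.comm (h.afix u) hx) x

/-- `σ` moves `Q` modulo the radical. -/
theorem sigma_moves (h : LiveData ρ F σ S r p α Z τ) : ∃ x, x⁻¹ * σ x ∉ rad ρ := by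
  by_contra hno
  push Not at hno
  haveI := h.rad_normal
  have he : ∀ x, ((σ x : Q) : Q ⧸ rad ρ) = x := fun x => (QuotientGroup.eq.2 (hno x)).symm
  have hmap : ∀ u {x y : Q}, (x : Q ⧸ rad ρ) = y → ((α u x : Q) : Q ⧸ rad ρ) = (α u y : Q) :=
    fun u {x y} hxy => QuotientGroup.eq.2 (by
      rw [← map_inv, ← map_mul]; exact (h.alpha_rad u _).2 (QuotientGroup.eq.1 hxy))
  let W : Subgroup U :=
    { carrier := {u | ∀ x, ((α u x : Q) : Q ⧸ rad ρ) = x}
      one_mem' := fun x => by rw [map_one, MulAut.one_apply]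
      mul_mem' := fun {a b} ha hb x => by
        rw [map_mul, MulAut.mul_apply, hmap a (hb x), ha]
      inv_mem' := fun {a} ha x => by
        conv_rhs => rw [← MulAut.one_apply Q x, ← map_one α, ← inv_mul_cancel a, map_mul,
          MulAut.mul_apply]
        exact (hmap a⁻¹ (ha x)).symm }
  have hW : W = ⊤ := by
    refine eq_top_iff.2 (h.ugen.symm.le.trans ((Subgroup.closure_le _).2 ?_))
    rintro _ ⟨u, rfl⟩ x
    show ((α (u⁻¹ * τ u) x : Q) : Q ⧸ rad ρ) = x
    have h1 : ((α (τ u) x : Q) : Q ⧸ rad ρ) = (α u x : Q) := by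
      rw [← hmap (τ u) (he x), h.atau, he]
    rw [map_mul, MulAut.mul_apply, hmap u⁻¹ h1, ← MulAut.mul_apply, ← map_mul, inv_mul_cancel,
      map_one, MulAut.one_apply]
  have hall : (⊤ : Subgroup Q) ≤ rad ρ := by
    rw [← h.agen, Subgroup.closure_le]
    rintro y (hy | ⟨u, x, rfl⟩)
    · exact h.F_le_rad hy
    · exact QuotientGroup.eq.1 ((hW ▸ Subgroup.mem_top u : u ∈ W) x).symm
  obtain ⟨a, b, hab⟩ := h.nab
  exact hab (rad_comm ρ a (hall trivial) b (hall trivial))

theorem cop_r (h : LiveData ρ F σ S r p α Z τ) (x : Q) : x⁻¹ * (σ ^ r) x ∈ rad ρ := by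
  rw [h.pow, MulAut.one_apply, inv_mul_cancel]; exact one_mem _

/-- No vector is fixed by all `x⁻¹ * σ x`. -/
theorem no_moved_fixed (h : LiveData ρ F σ S r p α Z τ) {v : M}
    (hv : ∀ x, ρ (x⁻¹ * σ x) v = v) : v = 0 := by
  by_contra hv0
  obtain ⟨x, hx⟩ := h.sigma_moves
  haveI := h.rad_normal
  let L : Subgroup Q :=
    { carrier := {q | ρ q v = v}
      one_mem' := by simp
      mul_mem' := fun {a b} (ha : ρ a v = v) (hb : ρ b v = v) => by
        show ρ (a * b) v = v
        rw [map_mul, Module.End.mul_apply, hb, ha]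
      inv_mem' := fun {a} (ha : ρ a v = v) => by
        show ρ a⁻¹ v = v
        conv_lhs => rw [← ha, ← Module.End.mul_apply, ← map_mul, inv_mul_cancel, map_one,
          Module.End.one_apply] }
  have hLc : ∀ a ∈ L, ∀ b ∈ L, ρ (b * a * b⁻¹ * a⁻¹) = 1 := by
    intro a ha b hb
    obtain ⟨c, hc⟩ := (h.scal _ (h.comm a b)).1
    have h1 : ρ (b * a * b⁻¹ * a⁻¹) v = v :=
      mul_mem (mul_mem (mul_mem hb ha) (inv_mem hb)) (inv_mem ha)
    rw [hc, LinearMap.smul_apply, Module.End.one_apply] at h1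
    rw [hc, smul_left_injective k hv0 (h1.trans (one_smul k v).symm), one_smul]
  -- modulo the radical every element is a product of a fixed element and a moved one
  refine hx (fun w => (rho_comm_iff ρ (x⁻¹ * σ x) w).2 ?_)
  obtain ⟨c, hc⟩ := (h.scal _ (h.comm (x⁻¹ * σ x) w)).1
  suffices hc1 : c = 1 by rw [hc, hc1, one_smul]
  haveI : Nontrivial M := nontrivial_of_ne v 0 hv0
  choose g hg using fun w => (h.scal _ (h.comm (x⁻¹ * σ x) w)).1
  let χ : Q →* k :=
    { toFun := g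
      map_one' := smul_left_injective k (one_ne_zero (α := Module.End k M)) (by
        show g 1 • (1 : Module.End k M) = (1 : k) • 1
        rw [← hg]; simp)
      map_mul' := fun a b => smul_left_injective k (one_ne_zero (α := Module.End k M)) (by
        show g (a * b) • (1 : Module.End k M) = (g a * g b) • 1
        rw [← hg, show a * b * (x⁻¹ * σ x) * (a * b)⁻¹ * (x⁻¹ * σ x)⁻¹ =
            a * (b * (x⁻¹ * σ x) * b⁻¹ * (x⁻¹ * σ x)⁻¹) * a⁻¹ *
              (a * (x⁻¹ * σ x) * a⁻¹ * (x⁻¹ * σ x)⁻¹) by group,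
          map_mul, map_mul, map_mul, hg b, mul_smul_comm, mul_one, smul_mul_assoc, ← map_mul ρ a,
          mul_inv_cancel, map_one, smul_mul_assoc, one_mul, hg a, smul_smul, mul_comm]) }
  have hχ : ∀ w, ρ (w * (x⁻¹ * σ x) * w⁻¹ * (x⁻¹ * σ x)⁻¹) = χ w • 1 := hg
  have hone : ∀ q, χ (q⁻¹ * σ q) = 1 := fun q => smul_left_injective k
    (one_ne_zero (α := Module.End k M)) (by
      show χ (q⁻¹ * σ q) • (1 : Module.End k M) = (1 : k) • 1
      rw [← hχ, hLc _ (hv x) _ (hv q), one_smul])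
  -- the moved part is non-degenerate
  have hch : c = χ w := smul_left_injective k (one_ne_zero (α := Module.End k M)) (hc.symm.trans (hχ w))
  rw [hch]
  have hinv : ∀ q, χ (σ q) = χ q := fun q => by
    conv_lhs => rw [← mul_inv_cancel_left q (σ q), map_mul, hone, mul_one]
  have hsp : ∀ n, χ (sprod σ n w) = χ w ^ n := by
    intro n
    induction n with
    | zero => simp [sprod]
    | succ n ih =>
      have hp : ∀ m, χ ((σ ^ m) w) = χ w := by
        intro m
        induction m with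
        | zero => rfl
        | succ m ih => rw [pow_succ', MulAut.mul_apply, hinv, ih]
      rw [sprod, map_mul, ih, hp, pow_succ]
  have hfx : ∀ n, σ (sprod σ n w) = w⁻¹ * sprod σ (n + 1) w := by
    intro n
    induction n with
    | zero => simp [sprod]
    | succ n ih =>
      rw [show sprod σ (n + 1) w = sprod σ n w * (σ ^ n) w from rfl, map_mul, ih,
        ← MulAut.mul_apply, ← pow_succ', mul_assoc]
      rfl
  have hP : (sprod σ r w)⁻¹ * σ (sprod σ r w) ∈ F := by
    rw [hfx, show sprod σ (r + 1) w = sprod σ r w * (σ ^ r) w from rfl, h.pow, MulAut.one_apply,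
      show (sprod σ r w)⁻¹ * (w⁻¹ * (sprod σ r w * w)) =
        (sprod σ r w)⁻¹ * w⁻¹ * (sprod σ r w)⁻¹⁻¹ * w⁻¹⁻¹ by group]
    exact h.comm w⁻¹ (sprod σ r w)⁻¹
  obtain ⟨P, hPdef⟩ : ∃ P, P = sprod σ r w := ⟨_, rfl⟩
  rw [← hPdef] at hP
  have hpair : ρ (P * (x⁻¹ * σ x) * P⁻¹ * (x⁻¹ * σ x)⁻¹) = 1 := by
    rw [← rho_comm_iff]
    have hPx : ρ (σ P) * ρ (σ x) = ρ (σ P * σ x) := (map_mul ρ _ _).symm
    obtain ⟨d, hd⟩ := (h.scal _ (h.comm x P)).1
    have e1 : ρ P * ρ x = d • (ρ x * ρ P) := by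
      rw [← map_mul, ← map_mul, show P * x = P * x * P⁻¹ * x⁻¹ * (x * P) by group, map_mul ρ _ (x * P),
        hd, smul_mul_assoc, one_mul]
    have e2 : ρ P * ρ (σ x) = d • (ρ (σ x) * ρ P) := by
      obtain ⟨g, hg⟩ := (h.scal _ hP).1
      have hg' : ρ (σ P) = g • ρ P := by
        rw [← mul_inv_cancel_left P (σ P), map_mul, hg, mul_smul_comm, mul_one]
      have hg0 : g ≠ 0 := fun h0 => rho_ne_zero ρ (σ P) (by rw [hg', h0, zero_smul])
      have h5 : ρ (σ (P * x * P⁻¹ * x⁻¹)) = d • 1 := by rw [(h.scal _ (h.comm x P)).2, hd]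
      have h6 : ρ (σ P) * ρ (σ x) = d • (ρ (σ x) * ρ (σ P)) := by
        rw [← map_mul ρ, ← map_mul ρ, show σ P * σ x = σ (P * x * P⁻¹ * x⁻¹) * (σ x * σ P) by
          simp only [map_mul, map_inv]; group, map_mul ρ _ (σ x * σ P), h5, smul_mul_assoc, one_mul]
      rw [hg', smul_mul_assoc, mul_smul_comm, smul_comm] at h6
      exact (smul_right_injective _ hg0) h6
    have e3 : ρ P * ρ x⁻¹ = d⁻¹ • (ρ x⁻¹ * ρ P) := by
      have hd0 : d ≠ 0 := fun h0 => rho_ne_zero ρ (P * x * P⁻¹ * x⁻¹) (by rw [hd, h0, zero_smul])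
      have h7 := congrArg (fun T => ρ x⁻¹ * T * ρ x⁻¹) e1
      simp only [mul_smul_comm, smul_mul_assoc] at h7
      rw [← mul_assoc (ρ x⁻¹) (ρ x), ← map_mul ρ x⁻¹ x, inv_mul_cancel, map_one, one_mul,
        mul_assoc (ρ x⁻¹) (ρ P * ρ x), mul_assoc (ρ P) (ρ x), ← map_mul ρ x, mul_inv_cancel, map_one,
        mul_one] at h7
      rw [h7, smul_smul, inv_mul_cancel₀ hd0, one_smul]
    have hd0 : d ≠ 0 := fun h0 => rho_ne_zero ρ (P * x * P⁻¹ * x⁻¹) (by rw [hd, h0, zero_smul])
    rw [map_mul, ← mul_assoc, e3, smul_mul_assoc, mul_assoc, e2, mul_smul_comm, smul_smul,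
      inv_mul_cancel₀ hd0, one_smul, mul_assoc]
  have h1 : χ w ^ r = 1 := by
    rw [← hsp, ← hPdef]
    exact smul_left_injective k (one_ne_zero (α := Module.End k M))
      (((hχ P).symm.trans hpair).trans (one_smul k _).symm)
  have h2 : χ w ^ Nat.card Q = 1 := by rw [← map_pow, pow_card_eq_one', map_one]
  have h3 := pow_gcd_eq_one.2 ⟨h1, h2⟩
  rwa [h.cop, pow_one] at h3

end LiveData

theorem sprod_comm {F : Subgroup Q} {σ : MulAut Q} {r : ℕ} (hpow : σ ^ r = 1)
    (hcomm : ∀ a b : Q, b * a * b⁻¹ * a⁻¹ ∈ F) (w : Q) :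
    (sprod σ r w)⁻¹ * σ (sprod σ r w) ∈ F := by
  have hfx : ∀ n, σ (sprod σ n w) = w⁻¹ * sprod σ (n + 1) w := by
    intro n
    induction n with
    | zero => simp [sprod]
    | succ n ih =>
      rw [show sprod σ (n + 1) w = sprod σ n w * (σ ^ n) w from rfl, map_mul, ih,
        ← MulAut.mul_apply, ← pow_succ', mul_assoc]
      rfl
  rw [hfx, show sprod σ (r + 1) w = sprod σ r w * (σ ^ r) w from rfl, hpow, MulAut.one_apply,
    show (sprod σ r w)⁻¹ * (w⁻¹ * (sprod σ r w * w)) =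
      (sprod σ r w)⁻¹ * w⁻¹ * (sprod σ r w)⁻¹⁻¹ * w⁻¹⁻¹ by group]
  exact hcomm w⁻¹ (sprod σ r w)⁻¹

namespace LiveData

variable [IsAlgClosed k] [FiniteDimensional k M] {ρ : Q →* Module.End k M} {F : Subgroup Q}
  {σ : MulAut Q} {S : Module.End k M} {r p : ℕ} {α : U →* MulAut Q} {Z : Subgroup U} {τ : MulAut U}

/-- There is a fixed vector. -/
theorem exists_fixed_vec (h : LiveData ρ F σ S r p α Z τ) {v : M} (hv : v ≠ 0) :
    ∃ w, w ≠ 0 ∧ S w = w := by
  classical
  by_contra hno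
  have hfix : ∀ w, S w = w → w = 0 := fun w hw => by_contra fun h0 => hno ⟨w, h0, hw⟩
  haveI hn := h.rad_normal
  haveI := Fintype.ofFinite (Abelianization (rad ρ))
  have hd : Nat.card (Abelianization (rad ρ)) ∣ Nat.card Q :=
    (Subgroup.card_quotient_dvd_card _).trans (Subgroup.card_subgroup_dvd_card _)
  have hW : Wts (abLift ρ (rad ρ) (rad_comm ρ)) (abAut σ (rad ρ) h.sigma_rad) S r :=
    { card := fun h0 => by
        obtain ⟨c, hc⟩ := hd
        exact h.card (by rw [hc, Nat.cast_mul, h0, zero_mul])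
      prime := h.prime
      rk := h.rk
      cop := h.cop.coprime_dvd_right hd
      pow := MulEquiv.ext fun b => by
        obtain ⟨x, rfl⟩ := ab_of_surjective (rad ρ) b
        rw [abAut_pow]
        exact congrArg Abelianization.of (Subtype.ext (by rw [coe_autRes_pow, h.pow]; rfl))
      Spow := h.Spow
      comm := abLift_intw ρ (rad ρ) (rad_comm ρ) h.sigma_rad h.Scomm }
  obtain ⟨θ, hθ, hne⟩ : ∃ θ, FixedChar (abAut σ (rad ρ) h.sigma_rad) θ ∧
      idem (abLift ρ (rad ρ) (rad_comm ρ)) θ v ≠ 0 := by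
    by_contra hno'
    push Not at hno'
    refine hv (hW.ext_comp fun θ => ?_)
    rw [map_zero]
    by_cases hθ : FixedChar (abAut σ (rad ρ) h.sigma_rad) θ
    · exact hno' θ hθ
    · exact hW.comp_eq_zero hfix hθ v
  haveI := (Submodule.nontrivial_iff_ne_bot
    (p := wspace (abLift ρ (rad ρ) (rad_comm ρ)) θ)).2 (wspace_ne_bot hne)
  haveI : Nontrivial M := nontrivial_of_ne v 0 hv
  have hI : Inv ρ (wspace (abLift ρ (rad ρ) (rad_comm ρ)) θ) := fun q w hw => by
    refine hW.map_wspace (fun b => ?_) hw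
    obtain ⟨x, rfl⟩ := ab_of_surjective (rad ρ) b
    exact x.2 q
  have hSI : ∀ w ∈ wspace (abLift ρ (rad ρ) (rad_comm ρ)) θ,
      S w ∈ wspace (abLift ρ (rad ρ) (rad_comm ρ)) θ := fun w hw => hW.S_wspace hθ hw
  have key : ∀ x : rad ρ, ∀ w : wspace (abLift ρ (rad ρ) (rad_comm ρ)) θ,
      restr ρ hI x w = (θ (Abelianization.of x) : k) • w := fun x w =>
    Subtype.ext (by
      rw [coe_restr, Submodule.coe_smul]
      exact hW.wspace_smul w.2 (Abelianization.of x))
  have hfixR : ∀ z ∈ rad ρ, restr ρ hI (σ z) = restr ρ hI z := fun z hz =>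
    LinearMap.ext fun w => by
      rw [key ⟨σ z, (h.sigma_rad z).2 hz⟩ w, key ⟨z, hz⟩ w,
        show (Abelianization.of (⟨σ z, (h.sigma_rad z).2 hz⟩ : rad ρ)) =
          abAut σ (rad ρ) h.sigma_rad (Abelianization.of ⟨z, hz⟩) from rfl, hθ]
  have hNd : Nd (restr ρ hI) (rad ρ) :=
    { card := h.card
      scal := fun z hz => ⟨_, LinearMap.ext fun w => key ⟨z, hz⟩ w⟩
      comm := fun a b => h.F_le_rad (h.comm a b)
      nd := fun u hu => by
        simp only [mem_rad, not_forall] at hu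
        obtain ⟨q, hq⟩ := hu
        obtain ⟨c, hc⟩ := (h.scal _ (h.comm u q)).1
        refine ⟨q, c, fun h1 => hq ((rho_comm_iff ρ u q).2 (by rw [hc, h1, one_smul])),
          LinearMap.ext fun w => Subtype.ext ?_⟩
        rw [coe_restr, LinearMap.smul_apply, Submodule.coe_smul, coe_restr,
          show q * u * q⁻¹ = q * u * q⁻¹ * u⁻¹ * u by group, map_mul, hc, smul_mul_assoc, one_mul]
        rfl }
  obtain ⟨H, hRH, hHinv, hbase, hfree, hnd⟩ := hNd.exists_moved hfixR h.sigma_rad h.cop h.cop_r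
  have hσH := hHinv σ h.sigma_rad rfl
  haveI : Fintype H := Fintype.ofFinite H
  have hA : Act ((restr ρ hI).comp H.subtype) ((rad ρ).subgroupOf H) (autRes σ H hσH)
      (S.restrict hSI) r :=
    { toNd :=
        { card := fun h0 => by
            obtain ⟨c, hc⟩ := Subgroup.card_subgroup_dvd_card H
            exact h.card (by rw [hc, Nat.cast_mul, h0, zero_mul])
          scal := fun z hz => hNd.scal _ hz
          comm := fun a b => hNd.comm (a : Q) b
          nd := fun u hu => by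
            obtain ⟨w, hw, c, hc, hcw⟩ := hnd u u.2 hu
            exact ⟨⟨w, hw⟩, c, hc, hcw⟩ }
      prime := h.prime
      rk := h.rk
      fix := fun z hz => hfixR _ hz
      mem := fun u => h.sigma_rad _
      free := fun u hu => hfree _ u.2 hu
      pow := MulEquiv.ext fun x => Subtype.ext (by rw [coe_autRes_pow, h.pow]; rfl)
      Spow := LinearMap.ext fun w => Subtype.ext (by rw [pow_restrict, h.Spow]; rfl)
      Scomm := fun q => LinearMap.ext fun w => Subtype.ext
        (DFunLike.congr_fun (h.Scomm (q : Q)) (w : M)) }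
  have htopc : (rad ρ).subgroupOf H ≠ ⊤ := fun htop => by
    obtain ⟨x, hx⟩ := h.sigma_moves
    exact hx (show (⟨_, hbase x⟩ : H) ∈ (rad ρ).subgroupOf H from htop ▸ Subgroup.mem_top _)
  obtain ⟨d, hd1, hd2⟩ := (hA.card_of_no_fixed fun w hw =>
    Subtype.ext (hfix _ (congrArg Subtype.val hw))).resolve_left htopc
  haveI := Fact.mk h.pp
  haveI : ((rad ρ).subgroupOf H).Normal := inferInstance
  obtain ⟨m, hm⟩ := IsPGroup.iff_card.1 ((h.grp.to_subgroup H).to_quotient ((rad ρ).subgroupOf H))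
  obtain ⟨n, -, hdn⟩ := (Nat.dvd_prime_pow h.pp).1 (hm ▸ hd2 ▸ dvd_mul_right d d)
  have hd0 : d ≠ 1 := fun h1 => htopc (Subgroup.index_eq_one.1 (by
    show Nat.card (H ⧸ (rad ρ).subgroupOf H) = 1
    rw [hd2, h1]))
  have hr2 : r ≠ 2 := fun h2 => hd0 (by omega)
  have hp2 : p = 2 := by
    by_contra hp2
    have h1 : Odd d := hdn ▸ (h.pp.odd_of_ne_two hp2).pow
    have h3 : 2 ∣ r := by rw [← hd1]; exact even_iff_two_dvd.1 h1.add_one
    exact hr2 ((h.prime.eq_one_or_self_of_dvd 2 h3).resolve_left (by norm_num)).symm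
  subst hp2 hdn
  -- the dual of `Q ⧸ rad`
  let k' := AlgebraicClosure (ZMod 2)
  haveI : CharP k' 2 := charP_of_injective_algebraMap (algebraMap (ZMod 2) k').injective 2
  have hodd_r : Odd r := h.prime.odd_of_ne_two hr2
  have hrk' : (r : k') = 1 := by
    obtain ⟨i, hi⟩ := hodd_r
    rw [hi, Nat.cast_add, Nat.cast_one, Nat.cast_mul, CharP.cast_eq_zero k' 2, zero_mul, zero_add]
  have hsymm : ∀ x ∈ rad ρ, σ.symm x ∈ rad ρ := fun x hx =>
    (h.sigma_rad _).1 (by rw [MulEquiv.apply_symm_apply]; exact hx)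
  let S' : Module.End k' (funs k' (rad ρ)) :=
    { toFun := fun φ => ⟨fun x => (φ : Q → k') (σ.symm x),
        fun a b => by
          show (φ : Q → k') (σ.symm (a * b)) = _
          rw [map_mul, funs_mul],
        fun a ha => funs_zero φ (hsymm a ha)⟩
      map_add' := fun φ ψ => rfl
      map_smul' := fun c φ => rfl }
  have hS'app : ∀ (φ : funs k' (rad ρ)) x, ((S' φ : funs k' (rad ρ)) : Q → k') x =
      (φ : Q → k') (σ.symm x) := fun φ x => rfl
  have hS'pow : ∀ l (φ : funs k' (rad ρ)) x,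
      (((S' ^ l) φ : funs k' (rad ρ)) : Q → k') ((σ ^ l) x) = (φ : Q → k') x := by
    intro l
    induction l with
    | zero => intro φ x; rfl
    | succ l ih =>
      intro φ x
      rw [pow_succ', Module.End.mul_apply, hS'app, pow_succ', MulAut.mul_apply,
        MulEquiv.symm_apply_apply, ih]
  let ρ' := funRep k' α (F := rad ρ) fun u x hx => (h.alpha_rad u x).2 hx
  haveI : Nontrivial k' := inferInstance
  have hU : Odd (Nat.card U) := Nat.coprime_two_left.1 h.pcop
  have hT : Two ρ' Z τ S' r :=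
    { card := fun h0 => by
        obtain ⟨i, hi⟩ := hU
        rw [hi, Nat.cast_add, Nat.cast_one, Nat.cast_mul, CharP.cast_eq_zero k' 2, zero_mul,
          zero_add] at h0
        exact one_ne_zero h0
      prime := h.prime
      rk := by rw [hrk']; exact one_ne_zero
      cop := h.ucop
      pow := h.upow
      Spow := LinearMap.ext fun φ => funs_ext fun x => by
        have h1 := hS'pow r φ x
        rw [h.pow, MulAut.one_apply] at h1
        exact h1
      Scomm := fun u => LinearMap.ext fun φ => funs_ext fun x => by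
        show (φ : Q → k') (α u⁻¹ (σ.symm x)) = (φ : Q → k') (σ.symm (α (τ u)⁻¹ x))
        refine congrArg (φ : Q → k') ((MulEquiv.eq_symm_apply σ).2 ?_)
        rw [← h.atau, MulEquiv.apply_symm_apply, map_inv τ]
      mem := h.umem
      comm := h.ucomm
      cen := fun z hz u => LinearMap.ext fun φ => funs_ext fun x => by
        show (φ : Q → k') (α z⁻¹ (α u⁻¹ x)) = (φ : Q → k') (α u⁻¹ (α z⁻¹ x))
        rw [← MulAut.mul_apply, ← MulAut.mul_apply, ← map_mul, ← map_mul]
        have h1 := funs_zero φ (h.F_le_rad (h.ucen z⁻¹ (inv_mem hz) u⁻¹ x))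
        rw [funs_mul, funs_inv] at h1
        exact (neg_add_eq_zero.1 h1)
      free := h.ufree }
  have hNoU : NoU ρ' := fun φ hφ => funs_ext fun y => by
    let K : Subgroup Q :=
      { carrier := {a | (φ : Q → k') a = 0}
        one_mem' := funs_one φ
        mul_mem' := fun {a b} (ha : (φ : Q → k') a = 0) (hb : (φ : Q → k') b = 0) => by
          show (φ : Q → k') (a * b) = 0
          rw [funs_mul, ha, hb, add_zero]
        inv_mem' := fun {a} (ha : (φ : Q → k') a = 0) => by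
          show (φ : Q → k') a⁻¹ = 0
          rw [funs_inv, ha, neg_zero] }
    have hK : (⊤ : Subgroup Q) ≤ K := by
      rw [← h.agen, Subgroup.closure_le]
      rintro a (ha | ⟨u, x, rfl⟩)
      · exact funs_zero φ (h.F_le_rad ha)
      · exact funRep_fixed α _ (hφ u) x
    exact hK trivial
  obtain ⟨x₀, hx₀⟩ := h.sigma_moves
  obtain ⟨v₀, hv₀, hv₀R⟩ : ∃ v₀, v₀ ∈ H ∧ v₀ ∉ rad ρ := ⟨_, hbase x₀, hx₀⟩
  obtain ⟨φ₀, hφ₀⟩ := funs_sep (k := k') h.pp hn (fun a b => h.F_le_rad (h.comm a b))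
    (fun a => h.F_le_rad (h.expp a)) hv₀R
  obtain ⟨μ, hμ⟩ := exists_primitive (k := k') (n := r) (by rw [hrk']; exact one_ne_zero)
  have hdim : ∀ ν : k', ν ≠ 1 → finrank k' (Module.End.eigenspace S' ν) ≤ 1 := by
    intro ν hν
    let ev : Module.End.eigenspace S' ν →ₗ[k'] k' :=
      { toFun := fun φ => ((φ : funs k' (rad ρ)) : Q → k') v₀
        map_add' := fun a b => rfl
        map_smul' := fun c a => rfl }
    refine le_trans (LinearMap.finrank_le_finrank_of_injective (f := ev) ?_) (by simp)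
    suffices hker : ∀ φ : Module.End.eigenspace S' ν, ev φ = 0 → φ = 0 from fun a b hab =>
      Subtype.ext (sub_eq_zero.1 (congrArg Subtype.val (hker
        ⟨(a : funs k' (rad ρ)) - (b : funs k' (rad ρ)), sub_mem a.2 b.2⟩ (sub_eq_zero.2 hab))))
    rintro ⟨φ, hφm⟩ hφ0
    have hφ0' : (φ : Q → k') v₀ = 0 := hφ0
    have hφe : ∀ y, (φ : Q → k') y = ν * (φ : Q → k') (σ y) := fun y => by
      have h1 : ((S' φ : funs k' (rad ρ)) : Q → k') (σ y) = ((ν • φ : funs k' (rad ρ)) : Q → k') (σ y) := by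
        rw [Module.End.mem_eigenspace_iff.1 hφm]
      rw [hS'app, MulEquiv.symm_apply_apply] at h1
      exact h1
    refine Subtype.ext (funs_ext fun y => ?_)
    show (φ : Q → k') y = 0
    rcases eq_or_ne ν 0 with hν0 | hν0
    · rw [hφe, hν0, zero_mul]
    have hHK : ∀ a ∈ H, (φ : Q → k') a = 0 := by
      have hcomm : ∀ a b : Q ⧸ rad ρ, a * b = b * a := by
        intro a b
        obtain ⟨a, rfl⟩ := QuotientGroup.mk_surjective a
        obtain ⟨b, rfl⟩ := QuotientGroup.mk_surjective b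
        rw [← QuotientGroup.mk_mul, ← QuotientGroup.mk_mul, eq_comm]
        refine QuotientGroup.eq.2 ?_
        rw [show (b * a)⁻¹ * (a * b) = a⁻¹ * b⁻¹ * a * b by group]
        have h1 := hNd.comm b⁻¹ a⁻¹
        rwa [inv_inv, inv_inv] at h1
      letI : CommGroup (Q ⧸ rad ρ) :=
        { (inferInstance : Group (Q ⧸ rad ρ)) with mul_comm := hcomm }
      let K : Subgroup Q :=
        { carrier := {a | a ∈ H ∧ (φ : Q → k') a = 0}
          one_mem' := ⟨one_mem H, funs_one φ⟩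
          mul_mem' := fun {a b} (ha : a ∈ H ∧ _) (hb : b ∈ H ∧ _) =>
            ⟨mul_mem ha.1 hb.1, by rw [funs_mul, ha.2, hb.2, add_zero]⟩
          inv_mem' := fun {a} (ha : a ∈ H ∧ _) =>
            ⟨inv_mem ha.1, by rw [funs_inv, ha.2, neg_zero]⟩ }
      have hKH : K ≤ H := fun a ha => ha.1
      let σb : MulAut (Q ⧸ rad ρ) := QuotientGroup.congr (rad ρ) (rad ρ) σ (by
        ext u
        refine ⟨fun ⟨z, hz, hzu⟩ => hzu ▸ (h.sigma_rad z).2 hz,
          fun hu => ⟨σ.symm u, hsymm u hu, MulEquiv.apply_symm_apply σ u⟩⟩)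
      have hσb : ∀ (l : ℕ) (u : Q), (σb ^ l) (u : Q ⧸ rad ρ) = (((σ ^ l) u : Q) : Q ⧸ rad ρ) := by
        intro l
        induction l with
        | zero => intro u; rfl
        | succ l ih => intro u; rw [pow_succ', MulAut.mul_apply, ih, pow_succ', MulAut.mul_apply]; rfl
      have hmod := card_modEq_one h.prime σb (MulEquiv.ext fun w => by
          obtain ⟨u, rfl⟩ := QuotientGroup.mk_surjective w
          rw [hσb, h.pow]; rfl) (K.map (QuotientGroup.mk' (rad ρ)))
        (by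
          rintro _ ⟨u, ⟨hu, hu'⟩, rfl⟩
          refine ⟨σ u, ⟨(hσH u).2 hu, ?_⟩, rfl⟩
          have h1 := hφe u
          rw [hu'] at h1
          exact (mul_eq_zero.1 h1.symm).resolve_left hν0)
        (by
          rintro _ ⟨u, ⟨hu, -⟩, rfl⟩ he
          have h1 : ((σ u : Q) : Q ⧸ rad ρ) = u := he
          exact (QuotientGroup.eq_one_iff u).2 (hfree u hu (QuotientGroup.eq.1 h1.symm)))
      have hsub : K.map (QuotientGroup.mk' (rad ρ)) ≤ H.map (QuotientGroup.mk' (rad ρ)) :=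
        Subgroup.map_mono hKH
      have hcardH : Nat.card ↥(H.map (QuotientGroup.mk' (rad ρ))) = 2 ^ (2 * n) := by
        let g : H →* Q ⧸ rad ρ := (QuotientGroup.mk' (rad ρ)).comp H.subtype
        have hker : g.ker = (rad ρ).subgroupOf H := by
          ext u; exact QuotientGroup.eq_one_iff (u : Q)
        have hrange : g.range = H.map (QuotientGroup.mk' (rad ρ)) := by
          ext y
          exact ⟨fun ⟨a, ha⟩ => ⟨a, a.2, ha⟩, fun ⟨a, ha, hay⟩ => ⟨⟨a, ha⟩, hay⟩⟩
        rw [← hrange, ← Nat.card_congr (QuotientGroup.quotientKerEquivRange g).toEquiv, hker, hd2,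
          ← pow_add, two_mul]
      have hdvd := Subgroup.card_dvd_of_le hsub
      rw [hcardH] at hdvd
      obtain ⟨a, ha, hca⟩ := (Nat.dvd_prime_pow Nat.prime_two).1 hdvd
      have ha0 : 0 < a := Nat.pos_of_ne_zero fun h0 => hv₀R ((QuotientGroup.eq_one_iff v₀).1 (by
        have h1 : (v₀ : Q ⧸ rad ρ) ∈ K.map (QuotientGroup.mk' (rad ρ)) := ⟨v₀, ⟨hv₀, hφ0'⟩, rfl⟩
        have h2 : Nat.card ↥(K.map (QuotientGroup.mk' (rad ρ))) = 1 := by rw [hca, h0, pow_zero]
        rw [Subgroup.card_eq_one.1 h2] at h1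
        exact Subgroup.mem_bot.1 h1))
      have hge : 2 * n ≤ a := by
        refine two_pow_bound (hd1.symm ▸ h.prime) ha0 ?_
        rw [hd1, ← hca]
        exact (Nat.modEq_iff_dvd' Nat.card_pos).1 hmod.symm
      have heq : K.map (QuotientGroup.mk' (rad ρ)) = H.map (QuotientGroup.mk' (rad ρ)) :=
        Subgroup.eq_of_le_of_card_ge hsub (by
          rw [hcardH, hca]; exact Nat.pow_le_pow_right two_pos hge)
      intro b hb
      have hb' : (b : Q ⧸ rad ρ) ∈ K.map (QuotientGroup.mk' (rad ρ)) := heq ▸ ⟨b, hb, rfl⟩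
      obtain ⟨c, ⟨-, hc⟩, hcb⟩ := hb'
      have h2 := funs_zero φ (QuotientGroup.eq.1 hcb)
      rw [funs_mul, funs_inv, hc, neg_zero, zero_add] at h2
      exact h2
    have h1 : (φ : Q → k') (σ y) = (φ : Q → k') y := by
      have h2 := hHK _ (hbase y)
      rw [funs_mul, funs_inv] at h2
      exact (neg_add_eq_zero.1 h2).symm
    have h3 := hφe y
    rw [h1] at h3
    have h4 : (1 - ν) * (φ : Q → k') y = 0 := by rw [sub_mul, one_mul, ← h3, sub_self]
    exact (mul_eq_zero.1 h4).resolve_left (sub_ne_zero.2 hν.symm)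
  haveI : FiniteDimensional k' (funs k' (rad ρ)) := inferInstance
  obtain ⟨⟨x, hx0, hSx, hline⟩, -⟩ := hT.fixed_line h.ugen hNoU hr2 hU hμ.pow_eq_one
    (hμ.ne_one h.prime.one_lt) hdim (v := φ₀) fun h0 => hφ₀ (by rw [h0]; rfl)
  obtain ⟨q₀, hq₀⟩ : ∃ q, (x : Q → k') q ≠ 0 := by
    by_contra hno'
    push Not at hno'
    exact hx0 (funs_ext hno')
  have hxσ : ∀ y, (x : Q → k') (σ y) = (x : Q → k') y := fun y => by
    have h1 : ((S' x : funs k' (rad ρ)) : Q → k') (σ y) = (x : Q → k') (σ y) := by rw [hSx]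
    rw [hS'app, MulEquiv.symm_apply_apply] at h1
    exact h1.symm
  have hxsp : ∀ l y, (x : Q → k') (sprod σ l y) = (l : k') * (x : Q → k') y := by
    intro l
    induction l with
    | zero => intro y; rw [Nat.cast_zero, zero_mul]; exact funs_one x
    | succ l ih =>
      intro y
      have hp : ∀ i, (x : Q → k') ((σ ^ i) y) = (x : Q → k') y := by
        intro i
        induction i with
        | zero => rfl
        | succ i ih' => rw [pow_succ', MulAut.mul_apply, hxσ, ih']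
      rw [sprod, funs_mul, ih, hp, Nat.cast_succ, add_mul, one_mul]
  -- fixed elements modulo the radical
  have hfc : ∀ w, (sprod σ r w)⁻¹ * σ (sprod σ r w) ∈ rad ρ := fun w =>
    h.F_le_rad (sprod_comm h.pow h.comm w)
  have hcR : sprod σ r q₀ ∉ rad ρ := fun hc => hq₀ (by
    have h1 := hxsp r q₀
    rw [funs_zero x hc, hrk', one_mul] at h1
    exact h1.symm)
  have hsq : ∀ c q, hNd.pair c q = 1 ∨ hNd.pair c q = -1 := fun c q => by
    have h1 : hNd.pair c q * hNd.pair c q = 1 := by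
      rw [← hNd.pair_mul_left, ← pow_two]
      exact hNd.pair_mem_left (h.F_le_rad (h.expp c)) q
    exact mul_self_eq_one_iff.1 h1
  have h2k : (-1 : k) ≠ 1 := fun h1 => by
    have h3 : ((2 : ℕ) : k) = 0 := by rw [Nat.cast_ofNat, ← one_add_one_eq_two]; nth_rw 1 [← h1]; ring
    obtain ⟨i, hi⟩ := IsPGroup.iff_card.1 h.grp
    rcases Nat.eq_zero_or_pos i with rfl | hi0
    · exact hv₀R (by
        haveI : Subsingleton Q := (Nat.card_eq_one_iff_unique.1 (by rw [hi, pow_zero])).1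
        rw [Subsingleton.elim v₀ 1]; exact one_mem _)
    · exact h.card (by rw [hi, Nat.cast_pow, h3, zero_pow hi0.ne'])
  have hpn : ∀ c, c⁻¹ * σ c ∈ rad ρ → ∀ q, hNd.pair c (σ q) = hNd.pair c q := fun c hc q => by
    rw [← hNd.pair_map σ hfixR c q, ← mul_inv_cancel_left c (σ c), hNd.pair_mul_left,
      hNd.pair_mem_left hc, mul_one]
  have hfun : ∀ c, c⁻¹ * σ c ∈ rad ρ → ∃ lam : k',
      ∀ q, (if hNd.pair c q = 1 then (0 : k') else 1) = lam * (x : Q → k') q := by
    intro c hc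
    let ψ : funs k' (rad ρ) :=
      ⟨fun q => if hNd.pair c q = 1 then 0 else 1, fun a b => by
        show (if hNd.pair c (a * b) = 1 then (0 : k') else 1) =
          (if hNd.pair c a = 1 then (0 : k') else 1) + (if hNd.pair c b = 1 then (0 : k') else 1)
        rw [hNd.pair_mul_right]
        rcases hsq c a with ha | ha <;> rcases hsq c b with hb | hb
        · rw [ha, hb, one_mul, if_pos rfl, zero_add]
        · rw [ha, hb, one_mul, if_neg h2k, if_pos rfl, zero_add]
        · rw [ha, hb, mul_one, if_neg h2k, if_pos rfl, add_zero]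
        · rw [ha, hb, neg_mul_neg, one_mul, if_pos rfl, if_neg h2k, CharTwo.add_self_eq_zero],
      fun a ha => if_pos (hNd.pair_mem_right c ha)⟩
    obtain ⟨lam, hlam⟩ := hline ψ (funs_ext fun q => by
      show (if hNd.pair c (σ.symm q) = 1 then (0 : k') else 1) = if hNd.pair c q = 1 then 0 else 1
      conv_rhs => rw [← σ.apply_symm_apply q, hpn c hc])
    exact ⟨lam, fun q => congrArg (fun φ : funs k' (rad ρ) => (φ : Q → k') q) hlam⟩
  refine hcR (hNd.mem_of_pair' fun q => ?_)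
  obtain ⟨c, hcdef⟩ : ∃ c, c = sprod σ r q₀ := ⟨_, rfl⟩
  have hcf : c⁻¹ * σ c ∈ rad ρ := hcdef ▸ hfc q₀
  rw [← hcdef]
  have hpair_r : hNd.pair c q ^ r = hNd.pair c (sprod σ r q) := by
    have hp : ∀ i, hNd.pair c ((σ ^ i) q) = hNd.pair c q := by
      intro i
      induction i with
      | zero => rfl
      | succ i ih => rw [pow_succ', MulAut.mul_apply, hpn c hcf, ih]
    suffices ∀ l, hNd.pair c (sprod σ l q) = hNd.pair c q ^ l from (this r).symm
    intro l
    induction l with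
    | zero => rw [pow_zero]; exact hNd.pair_one_right c
    | succ l ih => rw [sprod, hNd.pair_mul_right, ih, hp, pow_succ]
  have h1 : hNd.pair c (sprod σ r q) = 1 := by
    by_cases hc' : sprod σ r q ∈ rad ρ
    · exact hNd.pair_mem_right c hc'
    obtain ⟨lam, hlam⟩ := hfun c hcf
    obtain ⟨lam', hlam'⟩ := hfun _ (hfc q)
    have hself : hNd.pair (sprod σ r q) (sprod σ r q) = 1 := hNd.pair_eq (by
      rw [mul_inv_cancel_right, one_smul])
    have hl0 : lam' ≠ 0 := fun h0 => hc' (hNd.mem_of_pair' fun w => by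
      have h2 := hlam' w
      rw [h0, zero_mul] at h2
      by_contra h3
      rw [if_neg h3] at h2
      exact one_ne_zero h2)
    have h2 := hlam' (sprod σ r q)
    rw [if_pos hself] at h2
    have h3 := hlam (sprod σ r q)
    rw [(mul_eq_zero.1 h2.symm).resolve_left hl0, mul_zero] at h3
    by_contra h4
    rw [if_neg h4] at h3
    exact one_ne_zero h3
  rcases hsq c q with h2 | h2
  · exact h2
  · rw [h2, hodd_r.neg_one_pow, h1] at hpair_r
    exact absurd hpair_r h2k

end LiveData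

end Cfsg.Agent.Solv.FHeight
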