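import Cfsg.Agent.Lib.Solv.FHeight.Sub

/-!
An operator fixing all orbit sums of the moved translates of a fixed vector fixes the vector.
-/

set_option autoImplicit false
set_option linter.unusedSectionVars false
set_option linter.style.haveILetI false

namespace Cfsg.Agent.Solv.FHeight

open Module

variable {k : Type*} [Field k] {M : Type*} [AddCommGroup M] [Module k M]

theorem indep_of_proj {ι : Type*} [Fintype ι] (x : ι → M) (P : ι → Module.End k M)
    (hne : ∀ i, P i (x i) ≠ 0) (hz : ∀ i j, i ≠ j → P i (x j) = 0) : LinearIndependent k x := by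
  classical
  rw [Fintype.linearIndependent_iff]
  intro g hg i
  have h1 := congrArg (P i) hg
  rw [map_sum, map_zero, Finset.sum_eq_single i (fun j _ hj => by
    rw [map_smul, hz i j hj.symm, smul_zero]) (fun h => absurd (Finset.mem_univ i) h), map_smul] at h1
  exact (smul_eq_zero.1 h1).resolve_right (hne i)

theorem card_le_finrank_of_proj [FiniteDimensional k M] {ι : Type*} [Fintype ι]
    (W : Submodule k M) (x : ι → M) (hW : ∀ i, x i ∈ W) (P : ι → Module.End k M)
    (hne : ∀ i, P i (x i) ≠ 0) (hz : ∀ i j, i ≠ j → P i (x j) = 0) :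
    Fintype.card ι ≤ finrank k W := by
  rw [← finrank_span_eq_card (indep_of_proj x P hne hz)]
  exact Submodule.finrank_mono (Submodule.span_le.2 (by rintro _ ⟨i, rfl⟩; exact hW i))

variable {U : Type*} [Group U] [Fintype U] [IsAlgClosed k] [FiniteDimensional k M] [Nontrivial M]
  {ρ : U →* Module.End k M} {Z : Subgroup U} {σ : MulAut U} {S : Module.End k M} {r : ℕ} {ξ : M}

namespace Act

set_option maxHeartbeats 1000000 in
/-- A free automorphism of prime order with self-annihilating line stabiliser has order two. -/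
theorem lag_count (h : Act ρ Z σ S r) (hξ : ξ ≠ 0) (hS : S ξ = ξ) {e : MulAut U}
    {E : Module.End k M} (hP : Pert ρ Z σ S e E) (hsum : SumFix ρ S r ξ E) (hlag : Lag h.toNd ξ)
    (hL : line ρ ξ ≠ ⊤) {t : ℕ} (ht : t.Prime) (htr : t ≠ r)
    (hefree : ∀ u, u⁻¹ * e u ∈ Z → u ∈ Z) (het : ∀ u, ρ ((e ^ t) u) = ρ u) : t = 2 := by
  classical
  have hcop : r.Coprime t := (Nat.coprime_primes h.prime ht).2 htr.symm
  obtain ⟨ψ, X, hψfix, hψmem, hψfree, hψN, hXm, hX, hXc, hXt, hbc, -, -, hfull⟩ :=
    h.exists_psi ht.two_le hcop hP.fix hP.mem (free_of_prime e ht hP.mem (fun u =>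
      h.toNd.mem_of_rho_eq_one (by rw [map_mul, het, ← map_mul, inv_mul_cancel, map_one])) hefree)
      het hP.comm hP.intw hP.commS
  obtain ⟨ζ, hζ⟩ := exists_primitive (k := k) h.rk
  set L := line ρ ξ with hLdef
  set N := (Nat.card L : k)
  have hN : N ≠ 0 := h.card_line_ne
  have hSt : ∀ n, (S ^ n) ξ = ξ := by
    intro n
    induction n with
    | zero => rfl
    | succ n ih => rw [pow_succ, Module.End.mul_apply, hS, ih]
  have hXr : (X ^ t) ^ r = 1 := by rw [← pow_mul, mul_comm, hX]
  have hXinj : ∀ a b, (X ^ t) a = (X ^ t) b → a = b := fun a b hab => by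
    have h1 : (X ^ t) ^ (r - 1) * X ^ t = 1 := by
      rw [← pow_succ, Nat.sub_add_cancel h.prime.one_le, hXr]
    rw [← Module.End.one_apply (R := k) a, ← h1, Module.End.mul_apply, hab, ← Module.End.mul_apply,
      h1, Module.End.one_apply]
  -- the submodule generated by `ξ`
  obtain ⟨F, hFdef⟩ : ∃ F, F = Submodule.span k (Set.range fun u => ρ u ξ) := ⟨_, rfl⟩
  have hgen : ∀ u, ρ u ξ ∈ F := fun u => hFdef ▸ Submodule.subset_span ⟨u, rfl⟩
  have hξF : ξ ∈ F := by simpa using hgen 1
  have hF : Inv ρ F := by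
    intro v w hw
    rw [hFdef] at hw
    induction hw using Submodule.span_induction with
    | mem x hx =>
      obtain ⟨u, rfl⟩ := hx
      rw [← Module.End.mul_apply, ← map_mul]
      exact hgen _
    | zero => rw [map_zero]; exact zero_mem _
    | add x y _ _ h1 h2 => rw [map_add]; exact add_mem h1 h2
    | smul c x _ h1 => rw [map_smul]; exact F.smul_mem c h1
  have hF0 : F ≠ ⊥ := fun h0 => hξ ((Submodule.mem_bot k).1 (h0 ▸ hξF))
  have hline : ∀ u v, u⁻¹ * v ∈ L → ∃ c : k, ρ v ξ = c • ρ u ξ := fun u v hv =>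
    ⟨lineChar ρ ξ (u⁻¹ * v), by
      rw [← map_smul, ← lineChar_spec hv, ← Module.End.mul_apply, ← map_mul, mul_inv_cancel_left]⟩
  have hprojline : ∀ u, ∀ w ∈ F, h.proj ξ u w ∈ (k ∙ ρ u ξ) := by
    intro u w hw
    rw [hFdef] at hw
    induction hw using Submodule.span_induction with
    | mem x hx =>
      obtain ⟨v, rfl⟩ := hx
      by_cases huv : u⁻¹ * v ∈ L
      · show h.proj ξ u (ρ v ξ) ∈ _
        obtain ⟨c, hc⟩ := hline u v huv
        rw [h.proj_same hξ wt_self huv, hc, smul_smul]
        exact Submodule.smul_mem _ _ (Submodule.mem_span_singleton_self _)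
      · show h.proj ξ u (ρ v ξ) ∈ _
        rw [h.proj_diff hξ hlag wt_self huv]
        exact zero_mem _
    | zero => rw [map_zero]; exact zero_mem _
    | add x y _ _ h1 h2 => rw [map_add]; exact add_mem h1 h2
    | smul c x _ h1 => rw [map_smul]; exact Submodule.smul_mem _ c h1
  have hmin : ∀ W, W ≤ F → Inv ρ W → W ≠ ⊥ → W = F := by
    intro W hWF hW hW0
    obtain ⟨w, hw, hw0⟩ := (Submodule.ne_bot_iff _).1 hW0
    have hsumP : ∀ x ∈ F, ∑ u, h.proj ξ u x = (N * N) • x := by
      intro x hx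
      rw [hFdef] at hx
      induction hx using Submodule.span_induction with
      | mem x hx =>
        obtain ⟨v, rfl⟩ := hx
        show ∑ u, h.proj ξ u (ρ v ξ) = _
        rw [← Finset.sum_filter_add_sum_filter_not Finset.univ (fun u => u⁻¹ * v ∈ L),
          Finset.sum_congr rfl (fun u hu => h.proj_same hξ wt_self (Finset.mem_filter.1 hu).2),
          Finset.sum_eq_zero (s := Finset.filter (fun u => ¬ u⁻¹ * v ∈ L) _)
            (fun u hu => h.proj_diff hξ hlag wt_self (Finset.mem_filter.1 hu).2), add_zero,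
          Finset.sum_const, ← Nat.cast_smul_eq_nsmul k, smul_smul]
        congr 2
        show ((Finset.filter (fun u => u⁻¹ * v ∈ L) Finset.univ).card : k) = N
        congr 1
        rw [Nat.card_eq_fintype_card, Fintype.card_subtype]
        refine Finset.card_bij (fun u _ => u⁻¹ * v) (fun u hu => by
          simpa using (Finset.mem_filter.1 hu).2) (fun a _ b _ hab => inv_injective
          (mul_right_cancel hab)) fun b hb => ⟨v * b⁻¹, by simpa using hb, by simp⟩
      | zero => simp
      | add x y _ _ h1 h2 => simp [Finset.sum_add_distrib, h1, h2]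
      | smul c x _ h1 => simp only [map_smul, ← Finset.smul_sum, h1, smul_comm c]
    obtain ⟨u, hu⟩ : ∃ u, h.proj ξ u w ≠ 0 := by
      by_contra hno
      push Not at hno
      have h1 := hsumP w (hWF hw)
      rw [Finset.sum_eq_zero fun u _ => hno u] at h1
      exact smul_ne_zero (mul_ne_zero hN hN) hw0 h1.symm
    have hmem : h.proj ξ u w ∈ W := by
      rw [proj, wproj, LinearMap.sum_apply]
      refine sum_mem fun v _ => ?_
      split_ifs
      · exact W.smul_mem _ (hW v w hw)
      · exact zero_mem _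
    obtain ⟨c, hc⟩ := Submodule.mem_span_singleton.1 (hprojline u w (hWF hw))
    rw [← hc] at hmem hu
    have huW : ρ u ξ ∈ W := (Submodule.smul_mem_iff _ (left_ne_zero_of_smul hu)).1 hmem
    refine le_antisymm hWF ?_
    rw [hFdef, Submodule.span_le]
    rintro _ ⟨v, rfl⟩
    have h1 := hW (v * u⁻¹) _ huW
    rwa [← Module.End.mul_apply, ← map_mul, inv_mul_cancel_right] at h1
  have htop := restr_top ρ hF hF0 hmin
  haveI := (Submodule.nontrivial_iff_ne_bot (p := F)).2 hF0
  -- the eigenvalue at `ξ`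
  have hXtm : X ^ t ∈ alg ρ := pow_mem_alg ρ hXm t
  obtain ⟨ν, hν⟩ : ∃ ν : k, (X ^ t) ξ = ν • ξ := by
    have hw : Wt ρ L ((X ^ t) ξ) (lineChar ρ ξ) := fun v hv => by
      rw [← Module.End.mul_apply, ← hXt, Module.End.mul_apply,
        lineChar_spec (h.line_sigma_pow hξ hS hv t).1, map_smul, (h.line_sigma_pow hξ hS hv t).2]
    have h1 := hprojline 1 _ (alg_apply_mem hF hXtm hξF)
    have h2 : h.proj ξ 1 ((X ^ t) ξ) = N • (X ^ t) ξ := by
      rcases eq_or_ne ((X ^ t) ξ) 0 with h0 | h0
      · rw [h0]; simp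
      · exact wproj_same hw h0 fun v hv => by rw [h.toNd.pair_one_right, one_mul]
    obtain ⟨c, hc⟩ := Submodule.mem_span_singleton.1 h1
    rw [h2, map_one, Module.End.one_apply] at hc
    exact ⟨N⁻¹ * c, by rw [mul_smul, hc, smul_smul, inv_mul_cancel₀ hN, one_smul]⟩
  haveI : NeZero r := ⟨h.prime.ne_zero⟩
  obtain ⟨j₀, hj₀, hνj⟩ := hζ.eq_pow_of_pow_eq_one (ξ := ν) (by
    have hp : ∀ n, ((X ^ t) ^ n) ξ = ν ^ n • ξ := by
      intro n
      induction n with
      | zero => simp
      | succ n ih => rw [pow_succ', Module.End.mul_apply, ih, map_smul, hν, smul_smul, ← pow_succ]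
    have := hp r
    rw [hXr, Module.End.one_apply] at this
    exact smul_left_injective k hξ (this.symm.trans (one_smul k ξ).symm))
  have hbF : ∀ w ∈ F, (X ^ t) ((S ^ t) w) = ν • w := by
    intro w hw
    rw [hFdef] at hw
    induction hw using Submodule.span_induction with
    | mem x hx =>
      obtain ⟨u, rfl⟩ := hx
      show (X ^ t * S ^ t) (ρ u ξ) = _
      rw [← Module.End.mul_apply, hbc _ (rho_mem_alg ρ u), Module.End.mul_apply, Module.End.mul_apply,
        hSt, hν, map_smul]
    | zero => simp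
    | add x y _ _ h1 h2 => rw [map_add, map_add, h1, h2, smul_add]
    | smul c x _ h1 => rw [map_smul, map_smul, h1, smul_comm]
  obtain ⟨XF, hXF⟩ : ∃ XF : Module.End k F, XF = X.restrict fun w hw => alg_apply_mem hF hXm hw :=
    ⟨_, rfl⟩
  obtain ⟨m, c, o, o', hd, ho, hdo, ho', hdo', -, h1c, h2c, hm, -, hhyp⟩ :=
    (h.toNd.restrict hF).counts htop ψ h.prime.pos ht.pos h.rk
    (fun z hz => LinearMap.ext fun w => Subtype.ext (by rw [coe_restr, coe_restr, hψfix z hz]))
    hψmem hψfree (fun u => LinearMap.ext fun w => Subtype.ext (by rw [coe_restr, coe_restr, hψN]))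
    (fun u => LinearMap.ext fun w => Subtype.ext (by
      rw [coe_restr, coe_restr, ← pow_mul, mul_comm, hψN]))
    (X := XF) (LinearMap.ext fun w => Subtype.ext (by rw [hXF, pow_restrict, hX]; rfl))
    (fun v => LinearMap.ext fun w => Subtype.ext (by
      rw [hXF]; exact DFunLike.congr_fun (hXc v) (w : M))) hζ
  obtain ⟨P, hPdef⟩ : ∃ P : Submodule k M,
      P = (Module.End.eigenspace (XF ^ t) (ζ ^ j₀)).map F.subtype := ⟨_, rfl⟩
  have hmP : m ⟨j₀, hj₀⟩ = finrank k P := by
    rw [hm, hPdef]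
    exact (Submodule.equivMapOfInjective _ F.injective_subtype _).finrank_eq
  have hPmem : ∀ w, w ∈ P ↔ w ∈ F ∧ S w = w := by
    intro w
    rw [hPdef, Submodule.mem_map]
    constructor
    · rintro ⟨w, hw, rfl⟩
      refine ⟨w.2, ?_⟩
      rw [Module.End.mem_eigenspace_iff] at hw
      have h1 : (X ^ t) (w : M) = ν • (w : M) := by
        have := congrArg Subtype.val hw
        rwa [hXF, pow_restrict, Submodule.coe_smul, hνj] at this
      have h3 : (S ^ t) (w : M) = (w : M) := hXinj _ _ ((hbF _ w.2).trans h1.symm)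
      obtain ⟨l, -, hl⟩ := Nat.exists_mul_mod_eq_one_of_coprime hcop.symm h.prime.one_lt
      have h4 : S = (S ^ t) ^ l := by
        rw [← pow_mul, ← Nat.mod_add_div (t * l) r, hl, pow_add, pow_mul, h.Spow, one_pow, mul_one,
          pow_one]
      have h5 : ∀ n, ((S ^ t) ^ n) (w : M) = (w : M) := by
        intro n
        induction n with
        | zero => rfl
        | succ n ih => rw [pow_succ, Module.End.mul_apply, h3, ih]
      show S (w : M) = w
      rw [h4]; exact h5 l
    · rintro ⟨hwF, hwS⟩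
      refine ⟨⟨w, hwF⟩, Module.End.mem_eigenspace_iff.2 (Subtype.ext ?_), rfl⟩
      rw [hXF, pow_restrict, Submodule.coe_smul, hνj]
      have h5 : ∀ n, (S ^ n) w = w := by
        intro n
        induction n with
        | zero => rfl
        | succ n ih => rw [pow_succ, Module.End.mul_apply, hwS, ih]
      have h6 := hbF w hwF
      rwa [h5] at h6
  -- the orbit sums
  have hyF : ∀ u, avg S r (ρ u ξ) ∈ F := fun u => by
    rw [h.avg_translate hS]; exact sum_mem fun l _ => hgen _
  have hyP : ∀ u, avg S r (ρ u ξ) ∈ P := fun u => (hPmem _).2 ⟨hyF u, apply_avg h.Spow _⟩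
  obtain ⟨Hp, hHp⟩ : ∃ Hp, Hp = Submodule.span k (Set.range fun u : {u // u ∉ L} =>
      avg S r (ρ u ξ)) := ⟨_, rfl⟩
  have hHpP : Hp ≤ P := hHp ▸ Submodule.span_le.2 (by rintro _ ⟨u, rfl⟩; exact hyP u)
  have hξP : ξ ∈ P := (hPmem _).2 ⟨hξF, hS⟩
  have hPle : P ≤ (k ∙ ξ) ⊔ Hp := by
    intro w hw
    obtain ⟨hwF, hwS⟩ := (hPmem w).1 hw
    have h1 : avg S r w ∈ (k ∙ ξ) ⊔ Hp := by
      clear hw hwS
      rw [hFdef] at hwF
      induction hwF using Submodule.span_induction with
      | mem x hx =>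
        obtain ⟨u, rfl⟩ := hx
        by_cases hu : u ∈ L
        · show avg S r (ρ u ξ) ∈ _
          rw [lineChar_spec hu, map_smul, avg_fixed r hS, smul_smul]
          exact Submodule.mem_sup_left (Submodule.smul_mem _ _ (Submodule.mem_span_singleton_self _))
        · exact Submodule.mem_sup_right (hHp ▸ Submodule.subset_span ⟨⟨u, hu⟩, rfl⟩)
      | zero => rw [map_zero]; exact zero_mem _
      | add x y _ _ h1 h2 => rw [map_add]; exact add_mem h1 h2
      | smul c x _ h1 => rw [map_smul]; exact Submodule.smul_mem _ c h1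
    rw [avg_fixed r hwS] at h1
    exact (Submodule.smul_mem_iff _ h.rk).1 h1
  have hle : finrank k P ≤ finrank k Hp + 1 := by
    refine (Submodule.finrank_mono hPle).trans ?_
    refine (Submodule.finrank_add_le_finrank_add_finrank _ _).trans ?_
    rw [finrank_span_singleton hξ]; omega
  obtain ⟨u₀, hu₀⟩ : ∃ u, u ∉ L := by
    by_contra hno
    push Not at hno
    exact hL (eq_top_iff.2 fun u _ => hno u)
  have hP1y : ∀ u, u ∉ L → h.proj ξ 1 (avg S r (ρ u ξ)) = 0 := fun u hu => by
    rw [h.avg_translate hS, map_sum]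
    refine Finset.sum_eq_zero fun l _ => h.proj_diff hξ hlag wt_self ?_
    rw [inv_one, one_mul]
    exact fun hm => hu (((mem_pow_iff σ (fun _ => h.line_sigma_iff hξ hS) l u)).1 hm)
  have hP1ξ : h.proj ξ 1 ξ ≠ 0 := by
    have h1 := h.proj_same hξ wt_self (u := (1 : U)) (u' := 1) (by simp)
    rw [map_one, Module.End.one_apply] at h1
    rw [h1]
    exact smul_ne_zero hN hξ
  have hPuξ : ∀ u, u ∉ L → h.proj ξ u ξ = 0 := fun u hu => by
    have h1 := h.proj_diff hξ hlag wt_self (u := u) (u' := 1) (by simpa using hu)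
    rwa [map_one, Module.End.one_apply] at h1
  have hPuy : ∀ u, u ∉ L → h.proj ξ u (avg S r (ρ u ξ)) ≠ 0 := fun u hu => by
    rw [h.proj_avg hξ hS hlag wt_self hS hu]
    exact smul_ne_zero hN (rho_apply_ne ρ u hξ)
  have hm2 : 2 ≤ finrank k P := by
    refine le_of_eq_of_le (Fintype.card_bool).symm (card_le_finrank_of_proj (ι := Bool) P
      (fun b => bif b then avg S r (ρ u₀ ξ) else ξ) (fun b => ?_)
      (fun b => bif b then h.proj ξ u₀ else h.proj ξ 1) (fun b => ?_) fun a b hab => ?_)
    · cases b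
      · exact hξP
      · exact hyP u₀
    · cases b
      · exact hP1ξ
      · exact hPuy u₀ hu₀
    · cases a <;> cases b
      · exact absurd rfl hab
      · exact hP1y u₀ hu₀
      · exact hPuξ u₀ hu₀
      · exact absurd rfl hab
  have hbig : 3 ≤ finrank k P ∨ finrank k F = r + 1 := by
    by_cases hone : ∀ v, v ∉ L → ∃ l, u₀⁻¹ * (σ ^ l) v ∈ L
    · right
      let x : Option (Fin r) → U := fun o => o.elim 1 fun i => (σ ^ (i : ℕ)) u₀
      have hxL : ∀ i : Fin r, (σ ^ (i : ℕ)) u₀ ∉ L := fun i hm =>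
        hu₀ ((mem_pow_iff σ (fun _ => h.line_sigma_iff hξ hS) _ u₀).1 hm)
      have hdist : ∀ a b, a ≠ b → (x a)⁻¹ * x b ∉ L := by
        rintro (_ | a) (_ | b) hab
        · exact absurd rfl hab
        · simpa [x] using hxL b
        · simpa [x] using hxL a
        · intro hm
          have key : ∀ a b : ℕ, a ≤ b → b < r → ((σ ^ a) u₀)⁻¹ * (σ ^ b) u₀ ∈ L → a = b := by
            intro a b hle hb hab'
            obtain ⟨d, rfl⟩ := Nat.exists_eq_add_of_le hle
            rw [pow_add, MulAut.mul_apply, ← map_inv, ← map_mul] at hab'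
            by_contra hne
            exact h.free_line hξ hS hu₀ (lt_of_le_of_lt (Nat.le_add_left d a) hb) (by omega)
              ((mem_pow_iff σ (fun _ => h.line_sigma_iff hξ hS) a _).1 hab')
          rcases le_total (a : ℕ) b with hle' | hle'
          · exact hab (congrArg some (Fin.ext (key _ _ hle' b.2 hm)))
          · refine hab (congrArg some (Fin.ext (key _ _ hle' a.2 ?_).symm))
            have := inv_mem hm
            rwa [mul_inv_rev, inv_inv] at this
      refine le_antisymm ?_ ?_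
      · have hsub : F ≤ Submodule.span k (Set.range fun o => ρ (x o) ξ) := by
          rw [hFdef, Submodule.span_le]
          rintro _ ⟨v, rfl⟩
          have hex : ∃ o, (x o)⁻¹ * v ∈ L := by
            by_cases hv : v ∈ L
            · exact ⟨none, by simpa [x] using hv⟩
            · obtain ⟨l, hl⟩ := hone v hv
              refine ⟨some ⟨(r - l % r) % r, Nat.mod_lt _ h.prime.pos⟩, ?_⟩
              have h1 := (h.line_sigma_pow hξ hS hl (r - l % r)).1
              rw [map_mul, map_inv, ← MulAut.mul_apply, ← pow_add] at h1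
              have h2 : ∀ n, σ ^ n = σ ^ (n % r) := fun n => by
                conv_lhs => rw [← Nat.mod_add_div n r, pow_add, pow_mul, h.pow, one_pow, mul_one]
              have h3 : (r - l % r + l) % r = 0 := by
                have := Nat.mod_add_div l r
                have := Nat.mod_lt l h.prime.pos
                rw [show r - l % r + l = r * (l / r + 1) by rw [Nat.mul_succ]; omega,
                  Nat.mul_mod_right]
              rw [h2 (r - l % r + l), h3, pow_zero, MulAut.one_apply, h2 (r - l % r)] at h1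
              exact h1
          obtain ⟨o, ho⟩ := hex
          obtain ⟨c, hc⟩ := hline _ _ ho
          show ρ v ξ ∈ _
          rw [hc]
          exact Submodule.smul_mem _ _ (Submodule.subset_span ⟨o, rfl⟩)
        refine (Submodule.finrank_mono hsub).trans ((finrank_range_le_card _).trans ?_)
        simp
      · refine le_of_eq_of_le (by simp) (card_le_finrank_of_proj (ι := Option (Fin r)) F
          (fun o => ρ (x o) ξ) (fun o => hgen _) (fun o => h.proj ξ (x o)) (fun o => ?_)
          fun a b hab => h.proj_diff hξ hlag wt_self (hdist a b hab))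
        rw [h.proj_same hξ wt_self (by simp)]
        exact smul_ne_zero hN (rho_apply_ne ρ _ hξ)
    · left
      push Not at hone
      obtain ⟨v, hv, hvl⟩ := hone
      have huv : h.proj ξ u₀ (avg S r (ρ v ξ)) = 0 := by
        rw [h.avg_translate hS, map_sum]
        exact Finset.sum_eq_zero fun l _ => h.proj_diff hξ hlag wt_self (hvl l)
      have hvu : h.proj ξ v (avg S r (ρ u₀ ξ)) = 0 := by
        rw [h.avg_translate hS, map_sum]
        refine Finset.sum_eq_zero fun l _ => h.proj_diff hξ hlag wt_self fun hm => ?_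
        have h1 := (h.line_sigma_pow hξ hS (inv_mem hm) ((r - 1) * l)).1
        rw [mul_inv_rev, inv_inv, map_mul, map_inv, ← MulAut.mul_apply, ← pow_add,
          show (r - 1) * l + l = r * l by
            rw [← Nat.succ_mul, Nat.succ_eq_add_one, Nat.sub_add_cancel h.prime.one_le],
          pow_mul, h.pow, one_pow, MulAut.one_apply] at h1
        exact hvl _ h1
      simpa using card_le_finrank_of_proj (ι := Fin 3) P
        ![ξ, avg S r (ρ u₀ ξ), avg S r (ρ v ξ)]
        (fun i => by fin_cases i <;> simp [hξP, hyP])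
        ![h.proj ξ 1, h.proj ξ u₀, h.proj ξ v]
        (fun i => by fin_cases i <;> simp [hP1ξ, hPuy u₀ hu₀, hPuy v hv])
        (fun i j hij => by
          fin_cases i <;> fin_cases j <;>
            simp [hP1y u₀ hu₀, hP1y v hv, hPuξ u₀ hu₀, hPuξ v hv, huv, hvu] at hij ⊢)
  -- the intertwiner is scalar on the orbit sums
  have hEHp : ∀ y ∈ Hp, (E * S) y = y := by
    intro y hy
    rw [Module.End.mul_apply, ((hPmem y).1 (hHpP hy)).2]
    rw [hHp] at hy
    induction hy using Submodule.span_induction with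
    | mem x hx => obtain ⟨u, rfl⟩ := hx; exact hsum _ u.2
    | zero => rw [map_zero]
    | add x y _ _ h1 h2 => rw [map_add, h1, h2]
    | smul c x _ h1 => rw [map_smul, h1]
  have hy₀ : avg S r (ρ u₀ ξ) ∈ Hp := hHp ▸ Submodule.subset_span ⟨⟨u₀, hu₀⟩, rfl⟩
  obtain ⟨φ, hφ⟩ := Module.Projective.exists_dual_ne_zero k
    (x := (⟨_, hyF u₀⟩ : F)) (fun h0 => hPuy u₀ hu₀ (by
      rw [show avg S r (ρ u₀ ξ) = 0 from congrArg Subtype.val h0, map_zero]))
  have hscal : ∃ μ : k, ∀ y ∈ Hp, X y = μ • y := by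
    refine ⟨(φ ⟨_, hyF u₀⟩)⁻¹ * φ (XF ⟨_, hyF u₀⟩), fun y hy => ?_⟩
    obtain ⟨A, hAm, hA⟩ := exists_lift hF (a := φ.smulRight ⟨y, ((hPmem y).1 (hHpP hy)).1⟩)
      (by rw [htop]; trivial)
    have h1 := DFunLike.congr_fun (hfull A hAm) (avg S r (ρ u₀ ξ))
    rw [Module.End.mul_apply (f := X * (E * S)), Module.End.mul_apply (f := A),
      Module.End.mul_apply (f := X), Module.End.mul_apply (f := X), hEHp _ hy₀] at h1
    have e1 : A (avg S r (ρ u₀ ξ)) = φ ⟨_, hyF u₀⟩ • y := hA ⟨_, hyF u₀⟩
    have e2 : A (X (avg S r (ρ u₀ ξ))) = φ (XF ⟨_, hyF u₀⟩) • y := by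
      have := hA (XF ⟨_, hyF u₀⟩)
      rw [hXF] at this ⊢
      exact this
    rw [e1, e2, map_smul, hEHp _ hy, map_smul] at h1
    rw [mul_smul, ← h1, inv_smul_smul₀ hφ]
  obtain ⟨μ, hμ⟩ := hscal
  have hHF : Hp ≤ F := fun y hy => ((hPmem y).1 (hHpP hy)).1
  refine of_hyperplane_block h.prime ht.two_le m c ⟨j₀, hj₀⟩ h1c h2c (hmP ▸ hm2) (hmP ▸ hbig)
    (hhyp ⟨j₀, hj₀⟩ μ (Hp.comap F.subtype) ?_ ?_ ?_ (hmP ▸ hm2)) hd ho hdo ho' hdo'
  · intro w hw
    obtain ⟨w', hw', he⟩ := Submodule.mem_map.1 (show (w : M) ∈ _ from hPdef ▸ hHpP hw)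
    exact (Subtype.ext he : w' = w) ▸ hw'
  · intro w hw
    refine Subtype.ext ?_
    rw [hXF, Submodule.coe_smul]
    exact hμ _ hw
  · rw [hmP, (Submodule.comapSubtypeEquivOfLe hHF).finrank_eq]
    exact hle

/-- An operator fixing the orbit sums of all moved translates fixes the vector. -/
theorem eq_of_sumFix (h : Act ρ Z σ S r) (hZ : Z ≠ ⊤) (hS : S ξ = ξ) {e : MulAut U}
    {E : Module.End k M} (hP : Pert ρ Z σ S e E) (hsum : SumFix ρ S r ξ E) {t n : ℕ} (ht : t.Prime)
    (htr : t ≠ r) (htU : t.Coprime (Nat.card U)) (hord : ∀ u, ρ ((e ^ t ^ n) u) = ρ u) :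
    E ξ = ξ := by
  classical
  rcases eq_or_ne ξ 0 with rfl | hξ
  · exact map_zero E
  rcases h.fix_or_lag hξ hS hP hsum with h1 | hlag
  · exact h1
  by_cases htriv : ∀ u, u⁻¹ * e u ∈ Z
  · -- `E` commutes with the image
    have hρ := h.rho_eq_of_trivial hP (htU.pow_left n) hord htriv
    obtain ⟨u, hu⟩ : ∃ u, u ∉ line ρ ξ := by
      by_contra hno
      push Not at hno
      exact hZ (eq_top_iff.2 fun u _ => h.toNd.mem_of_pair fun v => h.line_iso hξ (hno v) (hno u))
    have hEc : ∀ v y, E (ρ v y) = ρ v (E y) := fun v y => by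
      rw [← Module.End.mul_apply, hP.intw, hρ, Module.End.mul_apply]
    have hSE : S (E ξ) = E ξ := by
      rw [← Module.End.mul_apply, ← hP.commS, Module.End.mul_apply, hS]
    have hη : Wt ρ (line ρ ξ) (E ξ - ξ) (lineChar ρ ξ) := fun v hv => by
      rw [map_sub, ← hEc, lineChar_spec hv, map_smul, smul_sub]
    have h1 := congrArg (h.proj ξ u) (hsum u hu)
    rw [← sub_eq_zero, ← map_sub, ← Module.End.mul_apply E, (commute_avg r hP.commS).eq,
      Module.End.mul_apply, hEc, ← map_sub, ← map_sub,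
      h.proj_avg hξ hS hlag hη (by rw [map_sub, hSE, hS]) hu] at h1
    have h2 := (smul_eq_zero.1 h1).resolve_left h.card_line_ne
    by_contra hne
    exact rho_apply_ne ρ u (sub_ne_zero.2 hne) h2
  · exfalso
    obtain ⟨s, hs1, hs2⟩ : ∃ s, (¬ ∀ u, u⁻¹ * (e ^ t ^ s) u ∈ Z) ∧
        ∀ u, u⁻¹ * (e ^ t ^ (s + 1)) u ∈ Z := by
      have hn : ∀ u, u⁻¹ * (e ^ t ^ n) u ∈ Z := fun u => h.toNd.mem_of_rho_eq_one (by
        rw [map_mul, hord, ← map_mul, inv_mul_cancel, map_one])
      have h0 : ¬ ∀ u, u⁻¹ * (e ^ t ^ 0) u ∈ Z := by simpa using htriv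
      by_contra hno
      push Not at hno
      have : ∀ m, ¬ ∀ u, u⁻¹ * (e ^ t ^ m) u ∈ Z := by
        intro m
        induction m with
        | zero => exact h0
        | succ m ih => exact fun hall => (hno m (not_forall.1 ih)).elim fun u hu => hu (hall u)
      exact this n hn
    have hsn : s < n := by
      by_contra hge
      obtain ⟨q, hq⟩ := pow_dvd_pow t (Nat.le_of_not_lt hge)
      refine hs1 fun u => ?_
      rw [hq, pow_mul]
      exact fix_pow _ (fun w => (hP.npow _).mem w) (h.toNd.mem_of_rho_eq_one (by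
        rw [map_mul, hord, ← map_mul, inv_mul_cancel, map_one])) q
    have hP₀ := hP.npow (t ^ s)
    have hsum₀ := hsum.npow (t ^ s)
    have hper₀ : ∀ u, u⁻¹ * ((e ^ t ^ s) ^ t) u ∈ Z := fun u => by
      rw [← pow_mul, ← pow_succ]; exact hs2 u
    -- `e₀` does not preserve the line
    have hne : (E ^ t ^ s) ξ ≠ ξ := by
      intro hfix
      refine hs1 (h.trivial_of_lag hξ hS hP₀ hsum₀ hlag (fun v hv => ?_) ht htr htU hper₀)
      refine mem_line hξ (c := lineChar ρ ξ v) ?_
      rw [← hfix, ← Module.End.mul_apply, ← hP₀.intw, Module.End.mul_apply, lineChar_spec hv,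
        map_smul]
      congr 1
      rw [hfix]
    obtain ⟨H, hZH, hσH, heH, hbase, hfree, hnd⟩ := exists_moved_part h hP₀ htU hper₀
    haveI : Fintype H := Fintype.ofFinite H
    have hA := h.restrict H hσH hnd
    have hPH := hP₀.restrict H hσH heH
    have hsumH : SumFix (ρ.comp H.subtype) S r ξ (E ^ t ^ s) := fun u hu => hsum₀ (u : U) (by
      rw [line_restrict] at hu; exact hu)
    rcases hA.fix_or_lag hξ hS hPH hsumH with h1 | hlagH
    · exact hne h1
    have hLne : line (ρ.comp H.subtype) ξ ≠ ⊤ := by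
      intro htop
      refine hs1 fun u => ?_
      have hu := hbase u
      have h1 : (⟨_, hu⟩ : H) ∈ Z.subgroupOf H := hA.toNd.mem_of_pair fun v =>
        hA.line_iso hξ (htop ▸ Subgroup.mem_top v) (htop ▸ Subgroup.mem_top _)
      exact h1
    have hperH : ∀ u : H, u⁻¹ * ((autRes (e ^ t ^ s) H heH) ^ t) u ∈ Z.subgroupOf H := fun u => by
      show (((u⁻¹ * ((autRes (e ^ t ^ s) H heH) ^ t) u : H)) : U) ∈ Z
      rw [Subgroup.coe_mul, Subgroup.coe_inv, coe_autRes_pow]
      exact hper₀ u
    have htH : t.Coprime (Nat.card H) := htU.coprime_dvd_right (Subgroup.card_subgroup_dvd_card H)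
    have hfreeH : ∀ u : H, u⁻¹ * autRes (e ^ t ^ s) H heH u ∈ Z.subgroupOf H →
        u ∈ Z.subgroupOf H := fun u hu => hfree u u.2 hu
    have hordH : ∀ u : H, (ρ.comp H.subtype) (((autRes (e ^ t ^ s) H heH) ^ t) u) =
        (ρ.comp H.subtype) u := fun u => by
      refine hA.rho_eq_of_trivial (hPH.npow t) (n := t ^ (n - s - 1)) (htH.pow_left _) (fun w => ?_)
        hperH u
      show ρ ((((autRes (e ^ t ^ s) H heH) ^ t) ^ t ^ (n - s - 1)) w : H) = ρ w
      rw [← pow_mul, coe_autRes_pow, ← pow_mul, ← pow_succ', ← pow_add,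
        show s + (n - s - 1 + 1) = n by omega]
      exact hord w
    have ht2 := hA.lag_count hξ hS hPH hsumH hlagH hLne ht htr hfreeH hordH
    subst ht2
    -- inversion preserves the line
    haveI := hA.toNd.normal
    refine hLne (eq_top_iff.2 fun u _ => hA.line_Z hξ (hfreeH u ?_))
    refine hA.trivial_of_lag hξ hS hPH hsumH hlagH (fun v hv => ?_) ht htr htH hperH u
    set e₀ := autRes (e ^ 2 ^ s) H heH with he₀
    have hinv : v * e₀ v ∈ Z.subgroupOf H := by
      refine hfreeH _ ?_
      have h1 : (((v * e₀ v)⁻¹ * e₀ (v * e₀ v) : H) : H ⧸ Z.subgroupOf H) = 1 := by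
        have hc : ∀ a b : H, ((a * b : H) : H ⧸ Z.subgroupOf H) = ((b * a : H) : H ⧸ Z.subgroupOf H) := by
          intro a b
          refine (QuotientGroup.eq.2 ?_).symm
          rw [show (b * a)⁻¹ * (a * b) = a⁻¹ * b⁻¹ * a * b by group]
          have h1 := hA.toNd.comm b⁻¹ a⁻¹
          rwa [inv_inv, inv_inv] at h1
        have h2 : ((e₀ (e₀ v) : H) : H ⧸ Z.subgroupOf H) = (v : H ⧸ Z.subgroupOf H) := by
          have h3 := hperH v
          rw [sq, MulAut.mul_apply] at h3
          exact (QuotientGroup.eq.2 h3).symm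
        rw [map_mul, QuotientGroup.mk_mul, QuotientGroup.mk_inv, QuotientGroup.mk_mul (N := Z.subgroupOf H) (e₀ v),
          h2, ← QuotientGroup.mk_mul, hc v, inv_mul_eq_one, QuotientGroup.mk_mul]
      exact (QuotientGroup.eq_one_iff _).1 h1
    have h3 := mul_mem (inv_mem hv) (hA.line_Z hξ hinv)
    rwa [inv_mul_cancel_left] at h3

end Act

end Cfsg.Agent.Solv.FHeight
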