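import Cfsg.Agent.Lib.Solv.FHeight.Core

/-!
The commutator pairing, line stabilisers of a vector and their weight spaces.
-/

set_option autoImplicit false
set_option linter.unusedSectionVars false
set_option linter.style.haveILetI false

namespace Cfsg.Agent.Solv.FHeight

open Module

variable {k : Type*} [Field k] {M : Type*} [AddCommGroup M] [Module k M] {U : Type*} [Group U]

/-! ### Automorphisms modulo a normal subgroup -/

section Delta

variable [Finite U] {Z : Subgroup U}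

/-- `x ↦ x⁻¹ * φ x` is onto on an invariant subgroup modulo `Z` when it is injective modulo `Z`. -/
theorem exists_delta (hn : Z.Normal) (φ : MulAut U) (hmem : ∀ u, φ u ∈ Z ↔ u ∈ Z) {L : Subgroup U}
    (hLφ : ∀ v ∈ L, φ v ∈ L) (hfree : ∀ u ∈ L, u⁻¹ * φ u ∈ Z → u ∈ Z) {v : U}
    (hv : v ∈ L) : ∃ z ∈ L, (z⁻¹ * φ z)⁻¹ * v ∈ Z := by
  classical
  haveI := hn
  let Q := {x : U ⧸ Z // ∃ u ∈ L, (u : U ⧸ Z) = x}
  have hrep : ∀ x : Q, ∃ u, u ∈ L ∧ (u : U ⧸ Z) = x.1 := fun x => x.2.imp fun u hu => hu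
  choose rep hrep1 hrep2 using hrep
  let f : Q → Q := fun x => ⟨(((rep x)⁻¹ * φ (rep x) : U) : U ⧸ Z),
    ⟨_, mul_mem (inv_mem (hrep1 x)) (hLφ _ (hrep1 x)), rfl⟩⟩
  have hinj : Function.Injective f := by
    intro x y hxy
    have h1 : ((rep x)⁻¹ * φ (rep x))⁻¹ * ((rep y)⁻¹ * φ (rep y)) ∈ Z :=
      QuotientGroup.eq.1 (congrArg Subtype.val hxy)
    have h2 : (rep x * (rep y)⁻¹)⁻¹ * φ (rep x * (rep y)⁻¹) ∈ Z := by
      have h3 := hn.conj_mem _ (inv_mem h1) (φ (rep y))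
      rwa [show φ (rep y) * (((rep x)⁻¹ * φ (rep x))⁻¹ * ((rep y)⁻¹ * φ (rep y)))⁻¹ * (φ (rep y))⁻¹ =
        (rep x * (rep y)⁻¹)⁻¹ * φ (rep x * (rep y)⁻¹) by rw [map_mul, map_inv]; group] at h3
    have h4 : rep x * (rep y)⁻¹ ∈ Z :=
      hfree _ (mul_mem (hrep1 x) (inv_mem (hrep1 y))) h2
    refine Subtype.ext ?_
    rw [← hrep2 x, ← hrep2 y]
    refine QuotientGroup.eq.2 ?_
    have h5 := hn.conj_mem _ (inv_mem h4) (rep x)⁻¹
    rwa [show (rep x)⁻¹ * (rep x * (rep y)⁻¹)⁻¹ * (rep x)⁻¹⁻¹ = (rep x)⁻¹ * rep y by group] at h5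
  obtain ⟨x, hx⟩ := Finite.surjective_of_injective hinj ⟨(v : U ⧸ Z), v, hv, rfl⟩
  exact ⟨rep x, hrep1 x, QuotientGroup.eq.1 (congrArg Subtype.val hx)⟩

/-- No fixed points modulo `Z` gives none modulo any invariant subgroup over `Z`. -/
theorem free_mod (hn : Z.Normal) (φ : MulAut U) (hmem : ∀ u, φ u ∈ Z ↔ u ∈ Z) {L : Subgroup U}
    (hZL : Z ≤ L) (hLφ : ∀ v ∈ L, φ v ∈ L) (hfree : ∀ u, u⁻¹ * φ u ∈ Z → u ∈ Z) {u : U}
    (hu : u⁻¹ * φ u ∈ L) : u ∈ L := by
  obtain ⟨z, hz, hzu⟩ := exists_delta hn φ hmem hLφ (fun a _ => hfree a) hu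
  have h1 := hn.conj_mem _ hzu (φ z)
  rw [show φ z * ((z⁻¹ * φ z)⁻¹ * (u⁻¹ * φ u)) * (φ z)⁻¹ = (u * z⁻¹)⁻¹ * φ (u * z⁻¹) by
    rw [map_mul, map_inv]; group] at h1
  have h2 := mul_mem (hZL (hfree _ h1)) hz
  rwa [inv_mul_cancel_right] at h2

end Delta

theorem rho_ne_zero [Nontrivial M] (ρ : U →* Module.End k M) (u : U) : ρ u ≠ 0 := fun h =>
  one_ne_zero (α := Module.End k M) (by
    rw [← map_one ρ, ← mul_inv_cancel u, map_mul, h, zero_mul])

theorem rho_apply_ne (ρ : U →* Module.End k M) (u : U) {x : M} (hx : x ≠ 0) : ρ u x ≠ 0 := fun h =>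
  hx (by rw [← Module.End.one_apply (R := k) x, ← map_one ρ, ← inv_mul_cancel u, map_mul,
    Module.End.mul_apply, h, map_zero])

variable [Fintype U] {ρ : U →* Module.End k M} {Z : Subgroup U}

namespace Nd

theorem exists_pair (h : Nd ρ Z) (a b : U) : ∃ c : k, ρ (a * b * a⁻¹) = c • ρ b :=
  (h.scal _ (h.comm b a)).imp fun c hc => by
    conv_lhs => rw [show a * b * a⁻¹ = a * b * a⁻¹ * b⁻¹ * b by group, map_mul, hc, smul_mul_assoc,
      one_mul]

/-- The commutator pairing. -/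
noncomputable def pair (h : Nd ρ Z) (a b : U) : k := (h.exists_pair a b).choose

theorem pair_spec (h : Nd ρ Z) (a b : U) : ρ (a * b * a⁻¹) = h.pair a b • ρ b :=
  (h.exists_pair a b).choose_spec

variable [Nontrivial M]

theorem pair_eq (h : Nd ρ Z) {a b : U} {c : k} (hc : ρ (a * b * a⁻¹) = c • ρ b) : h.pair a b = c :=
  smul_left_injective k (rho_ne_zero ρ b) ((h.pair_spec a b).symm.trans hc)

theorem pair_ne (h : Nd ρ Z) (a b : U) : h.pair a b ≠ 0 := fun h0 =>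
  rho_ne_zero ρ (a * b * a⁻¹) (by rw [h.pair_spec, h0, zero_smul])

theorem pair_mul_left (h : Nd ρ Z) (a a' b : U) : h.pair (a * a') b = h.pair a b * h.pair a' b := by
  refine h.pair_eq ?_
  rw [show a * a' * b * (a * a')⁻¹ = a * (a' * b * a'⁻¹) * a⁻¹ by group, map_mul, map_mul,
    h.pair_spec, mul_smul_comm, smul_mul_assoc, ← map_mul, ← map_mul, h.pair_spec, smul_smul,
    mul_comm]

theorem pair_mul_right (h : Nd ρ Z) (a b b' : U) : h.pair a (b * b') = h.pair a b * h.pair a b' := by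
  refine h.pair_eq ?_
  rw [show a * (b * b') * a⁻¹ = a * b * a⁻¹ * (a * b' * a⁻¹) by group, map_mul, h.pair_spec,
    h.pair_spec, smul_mul_assoc, mul_smul_comm, smul_smul, ← map_mul]

theorem pair_one_left (h : Nd ρ Z) (b : U) : h.pair 1 b = 1 := h.pair_eq (by simp)

theorem pair_one_right (h : Nd ρ Z) (a : U) : h.pair a 1 = 1 := h.pair_eq (by simp)

theorem pair_mem_left (h : Nd ρ Z) {a : U} (ha : a ∈ Z) (b : U) : h.pair a b = 1 := by
  obtain ⟨c, hc⟩ := h.scal a ha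
  refine h.pair_eq ?_
  rw [map_mul, map_mul, hc, smul_mul_assoc, one_mul, smul_mul_assoc, one_smul,
    show c • (ρ b * ρ a⁻¹) = ρ b * (c • ρ a⁻¹) from (mul_smul_comm c (ρ b) (ρ a⁻¹)).symm,
    show c • ρ a⁻¹ = ρ a * ρ a⁻¹ by rw [hc, smul_mul_assoc, one_mul], ← map_mul ρ a,
    mul_inv_cancel, map_one, mul_one]

theorem pair_mem_right (h : Nd ρ Z) (a : U) {b : U} (hb : b ∈ Z) : h.pair a b = 1 := by
  obtain ⟨c, hc⟩ := h.scal b hb
  refine h.pair_eq ?_
  rw [map_mul, map_mul, hc, mul_smul_comm, mul_one, smul_mul_assoc, ← map_mul, mul_inv_cancel,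
    map_one, one_smul]

theorem pair_inv_left (h : Nd ρ Z) (a b : U) : h.pair a⁻¹ b = (h.pair a b)⁻¹ :=
  eq_inv_of_mul_eq_one_left (by rw [← h.pair_mul_left, inv_mul_cancel, h.pair_one_left])

theorem pair_inv_right (h : Nd ρ Z) (a b : U) : h.pair a b⁻¹ = (h.pair a b)⁻¹ :=
  eq_inv_of_mul_eq_one_left (by rw [← h.pair_mul_right, inv_mul_cancel, h.pair_one_right])

theorem mem_of_pair (h : Nd ρ Z) {u : U} (hu : ∀ v, h.pair v u = 1) : u ∈ Z := by
  by_contra hne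
  obtain ⟨v, c, hc, hv⟩ := h.nd u hne
  exact hc ((h.pair_eq hv).symm.trans (hu v))

theorem pair_comm (h : Nd ρ Z) (a b : U) : h.pair a b * h.pair b a = 1 := by
  have h1 : h.pair a b • (ρ b * ρ a) = ρ a * ρ b := by
    rw [← smul_mul_assoc, ← h.pair_spec, ← map_mul, ← map_mul, inv_mul_cancel_right]
  have h2 : h.pair b a • (ρ a * ρ b) = ρ b * ρ a := by
    rw [← smul_mul_assoc, ← h.pair_spec, ← map_mul, ← map_mul, inv_mul_cancel_right]
  rw [← h1, smul_smul] at h2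
  refine smul_left_injective k (show ρ b * ρ a ≠ 0 from map_mul ρ b a ▸ rho_ne_zero ρ _) ?_
  show (h.pair a b * h.pair b a) • (ρ b * ρ a) = (1 : k) • (ρ b * ρ a)
  rw [mul_comm, h2, one_smul]

theorem mem_of_pair' (h : Nd ρ Z) {u : U} (hu : ∀ v, h.pair u v = 1) : u ∈ Z :=
  h.mem_of_pair fun v => by simpa [hu v] using h.pair_comm u v

/-- The pairing is invariant under automorphisms fixing the scalars. -/
theorem pair_map (h : Nd ρ Z) (e : MulAut U) (hfix : ∀ z ∈ Z, ρ (e z) = ρ z) (a b : U) :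
    h.pair (e a) (e b) = h.pair a b := by
  refine h.pair_eq ?_
  have h1 : ρ (a * b * a⁻¹ * b⁻¹) = h.pair a b • 1 := by
    rw [map_mul, h.pair_spec, smul_mul_assoc, ← map_mul, mul_inv_cancel, map_one]
  rw [show e a * e b * (e a)⁻¹ = e (a * b * a⁻¹ * b⁻¹) * e b by
    simp only [map_mul, map_inv]; group, map_mul, hfix _ (h.comm b a), h1, smul_mul_assoc, one_mul]

end Nd

/-! ### Line stabilisers -/

/-- The stabiliser of the line through `ξ`. -/
def line (ρ : U →* Module.End k M) (ξ : M) : Subgroup U where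
  carrier := {v | ∃ c : kˣ, ρ v ξ = (c : k) • ξ}
  one_mem' := ⟨1, by simp⟩
  mul_mem' := fun {a b} ⟨c, hc⟩ ⟨d, hd⟩ => ⟨d * c, by
    rw [map_mul, Module.End.mul_apply, hd, map_smul, hc, smul_smul, Units.val_mul]⟩
  inv_mem' := fun {a} ⟨c, hc⟩ => ⟨c⁻¹, by
    have h1 := congrArg (ρ a⁻¹) hc
    rw [← Module.End.mul_apply, ← map_mul, inv_mul_cancel, map_one, Module.End.one_apply,
      map_smul] at h1
    rw [Units.val_inv_eq_inv_val]
    conv_rhs => rw [h1, smul_smul, inv_mul_cancel₀ c.ne_zero, one_smul]⟩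

theorem mem_line {ξ : M} (hξ : ξ ≠ 0) {v : U} {c : k} (h : ρ v ξ = c • ξ) : v ∈ line ρ ξ :=
  ⟨Units.mk0 c fun h0 => rho_apply_ne ρ v hξ (by rw [h, h0, zero_smul]), h⟩

open Classical in
/-- The eigenvalue of an element of the line stabiliser. -/
noncomputable def lineChar (ρ : U →* Module.End k M) (ξ : M) (v : U) : k :=
  if h : v ∈ line ρ ξ then (Exists.choose (show ∃ c : kˣ, ρ v ξ = (c : k) • ξ from h) : kˣ) else 0

theorem lineChar_spec {ξ : M} {v : U} (h : v ∈ line ρ ξ) : ρ v ξ = lineChar ρ ξ v • ξ := by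
  classical
  rw [lineChar, dif_pos h]
  exact Exists.choose_spec (show ∃ c : kˣ, ρ v ξ = (c : k) • ξ from h)

/-- A weight vector of the subgroup `L`. -/
def Wt (ρ : U →* Module.End k M) (L : Subgroup U) (x : M) (χ : U → k) : Prop :=
  ∀ v ∈ L, ρ v x = χ v • x

open Classical in
/-- The projection to a weight. -/
noncomputable def wproj (ρ : U →* Module.End k M) (L : Subgroup U) (χ : U → k) : Module.End k M :=
  ∑ v : U, if v ∈ L then (χ v)⁻¹ • ρ v else 0

theorem Wt.ne_zero {L : Subgroup U} {x : M} {χ : U → k} (h : Wt ρ L x χ) (hx : x ≠ 0) {v : U}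
    (hv : v ∈ L) : χ v ≠ 0 := fun h0 => rho_apply_ne ρ v hx (by rw [h v hv, h0, zero_smul])

theorem Wt.map_mul {L : Subgroup U} {x : M} {χ : U → k} (h : Wt ρ L x χ) (hx : x ≠ 0) {v w : U}
    (hv : v ∈ L) (hw : w ∈ L) : χ (v * w) = χ v * χ w := by
  refine smul_left_injective k hx ?_
  show χ (v * w) • x = (χ v * χ w) • x
  rw [← h _ (mul_mem hv hw), _root_.map_mul, Module.End.mul_apply, h w hw, map_smul, h v hv,
    smul_smul, mul_comm]

theorem wproj_same {L : Subgroup U} {x : M} {χ χ' : U → k} (h : Wt ρ L x χ) (hx : x ≠ 0)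
    (heq : ∀ v ∈ L, χ' v = χ v) : wproj ρ L χ' x = (Nat.card L : k) • x := by
  classical
  rw [wproj, LinearMap.sum_apply]
  rw [Finset.sum_congr rfl fun v _ => (show (if v ∈ L then (χ' v)⁻¹ • ρ v else 0) x =
    if v ∈ L then x else 0 by
      split_ifs with hv
      · rw [LinearMap.smul_apply, h v hv, smul_smul, heq v hv, inv_mul_cancel₀ (h.ne_zero hx hv),
          one_smul]
      · rfl)]
  rw [← Finset.sum_filter, Finset.sum_const, ← Nat.cast_smul_eq_nsmul k]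
  congr 2
  rw [Nat.card_eq_fintype_card, Fintype.card_subtype]

theorem wproj_diff {L : Subgroup U} {x y : M} {χ χ' : U → k} (h : Wt ρ L x χ) (h' : Wt ρ L y χ')
    (hy : y ≠ 0) {w : U} (hw : w ∈ L) (hne : χ w ≠ χ' w) : wproj ρ L χ' x = 0 := by
  classical
  rcases eq_or_ne x 0 with rfl | hx
  · exact map_zero _
  rw [wproj, LinearMap.sum_apply]
  rw [Finset.sum_congr rfl fun v _ => (show (if v ∈ L then (χ' v)⁻¹ • ρ v else 0) x =
    (if v ∈ L then (χ' v)⁻¹ * χ v else 0) • x by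
      split_ifs with hv
      · rw [LinearMap.smul_apply, h v hv, smul_smul]
      · rw [LinearMap.zero_apply, zero_smul]), ← Finset.sum_smul]
  set T := ∑ v : U, if v ∈ L then (χ' v)⁻¹ * χ v else 0 with hT
  have key : (χ' w)⁻¹ * χ w * T = T := by
    rw [hT, Finset.mul_sum]
    conv_rhs => rw [← Equiv.sum_comp (Equiv.mulLeft w) fun v => if v ∈ L then (χ' v)⁻¹ * χ v else 0]
    refine Finset.sum_congr rfl fun v _ => ?_
    simp only [Equiv.coe_mulLeft, Subgroup.mul_mem_cancel_left L hw]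
    split_ifs with hv
    · rw [h.map_mul hx hw hv, h'.map_mul hy hw hv, mul_inv]; ring
    · rw [mul_zero]
  have hne' : (χ' w)⁻¹ * χ w ≠ 1 := fun h1 => hne (by
    rw [← mul_one (χ' w), ← h1, ← mul_assoc, mul_inv_cancel₀ (h'.ne_zero hy hw), one_mul])
  rw [show T = 0 from by_contra fun h0 => hne' ((mul_eq_right₀ h0).1 key), zero_smul]

end Cfsg.Agent.Solv.FHeight
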