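import Cfsg.Agent.Lib.Solv.FHeight.LayerMain
import Cfsg.Agent.Lib.Solv.FHeight.LinkGroup
import Cfsg.Agent.Lib.Solv.Coprime

/-!
Representations afforded by elementary abelian sections of a finite group.
-/

set_option autoImplicit false
set_option linter.unusedSectionVars false
set_option linter.style.haveILetI false

open scoped commutatorElement

namespace Cfsg.Agent.Solv.FHeight

universe u

variable {Γ : Type u} [Group Γ]

/-- The elements normalising both ends of a section. -/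
def nn (P F : Subgroup Γ) : Subgroup Γ :=
  Subgroup.normalizer (P : Set Γ) ⊓ Subgroup.normalizer (F : Set Γ)

/-- Conjugation on the top of a section. -/
def cj (P F : Subgroup Γ) : nn P F →* MulAut P :=
  (Subgroup.normalizerMonoidHom P).comp (Subgroup.inclusion inf_le_left)

/-- Conjugation by one element on a normalised subgroup. -/
def cjOn (U : Subgroup Γ) (e : Γ) (he : e ∈ Subgroup.normalizer (U : Set Γ)) : MulAut U :=
  Subgroup.normalizerMonoidHom U ⟨e, he⟩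

theorem coe_cj (P F : Subgroup Γ) (g : nn P F) (x : P) :
    ((cj P F g x : P) : Γ) = g * x * (g : Γ)⁻¹ := rfl

theorem coe_cjOn (U : Subgroup Γ) {e : Γ} (he : e ∈ Subgroup.normalizer (U : Set Γ)) (x : U) :
    ((cjOn U e he x : U) : Γ) = e * x * e⁻¹ := rfl

theorem cjOn_pow (U : Subgroup Γ) {e : Γ} (he : e ∈ Subgroup.normalizer (U : Set Γ)) {n : ℕ}
    (hn : e ^ n = 1) : cjOn U e he ^ n = 1 := by
  rw [cjOn, ← map_pow, show (⟨e, he⟩ : Subgroup.normalizer (U : Set Γ)) ^ n = 1 from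
    Subtype.ext (by rw [SubmonoidClass.coe_pow]; exact hn), map_one]

theorem cj_mem (P F : Subgroup Γ) : ∀ g : nn P F, ∀ x ∈ F.subgroupOf P, cj P F g x ∈ F.subgroupOf P :=
  fun g x hx => by
    rw [Subgroup.mem_subgroupOf] at hx ⊢
    rw [coe_cj]
    exact conj_mem_of_mem_normalizer g.2.2 hx

/-- The representation on the functions of a section. -/
def srep (k : Type*) [Field k] (P F : Subgroup Γ) :
    nn P F →* Module.End k (funs k (F.subgroupOf P)) :=
  funRep k (cj P F) (cj_mem P F)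

variable {k : Type*} [Field k] {P F : Subgroup Γ}

open scoped Classical in
/-- The value of a function on an element of the group. -/
noncomputable def ev (f : funs k (F.subgroupOf P)) (y : Γ) : k :=
  if h : y ∈ P then (f : P → k) ⟨y, h⟩ else 0

theorem ev_coe (f : funs k (F.subgroupOf P)) (x : P) : ev f (x : Γ) = (f : P → k) x := by
  rw [ev, dif_pos x.2]

theorem ev_ext {f g : funs k (F.subgroupOf P)} (h : ∀ y ∈ P, ev f y = ev g y) : f = g :=
  funs_ext fun x => by rw [← ev_coe, ← ev_coe, h x x.2]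

theorem ev_mul (f : funs k (F.subgroupOf P)) {a b : Γ} (ha : a ∈ P) (hb : b ∈ P) :
    ev f (a * b) = ev f a + ev f b := by
  rw [ev, ev, ev, dif_pos ha, dif_pos hb, dif_pos (mul_mem ha hb)]
  exact funs_mul f ⟨a, ha⟩ ⟨b, hb⟩

theorem ev_inv (f : funs k (F.subgroupOf P)) {a : Γ} (ha : a ∈ P) : ev f a⁻¹ = -ev f a := by
  rw [ev, ev, dif_pos ha, dif_pos (inv_mem ha)]
  exact funs_inv f ⟨a, ha⟩

theorem ev_zero (f : funs k (F.subgroupOf P)) {a : Γ} (ha : a ∈ P) (haF : a ∈ F) : ev f a = 0 := by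
  rw [ev, dif_pos ha]
  exact funs_zero f haF

theorem ev_sub (f g : funs k (F.subgroupOf P)) (y : Γ) : ev (f - g) y = ev f y - ev g y := by
  unfold ev
  split_ifs with h
  · rfl
  · rw [sub_zero]

theorem ev_srep (g : nn P F) (f : funs k (F.subgroupOf P)) {y : Γ} (hy : y ∈ P) :
    ev (srep k P F g f) y = ev f ((g : Γ)⁻¹ * y * g) := by
  rw [ev, dif_pos hy, srep, funRep_apply, ← ev_coe f, coe_cj, Subgroup.coe_inv, inv_inv]

/-- An elementary abelian section. -/
structure Sec (P F : Subgroup Γ) (p : ℕ) : Prop where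
  prime : p.Prime
  grp : IsPGroup p P
  le : F ≤ P
  comm : ∀ a ∈ P, ∀ b ∈ P, b * a * b⁻¹ * a⁻¹ ∈ F
  pow : ∀ a ∈ P, a ^ p ∈ F

theorem Sec.normal {p : ℕ} (h : Sec P F p) : (F.subgroupOf P).Normal :=
  ⟨fun z hz v => by
    rw [Subgroup.mem_subgroupOf] at hz ⊢
    have h1 := mul_mem (h.comm z z.2 v v.2) hz
    rwa [inv_mul_cancel_right] at h1⟩

theorem Sec.sep {p : ℕ} (h : Sec P F p) [CharP k p] {y : Γ} (hy : y ∈ P) (hyF : y ∉ F) :
    ∃ f : funs k (F.subgroupOf P), ev f y ≠ 0 := by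
  obtain ⟨f, hf⟩ := funs_sep (k := k) (F := F.subgroupOf P) h.prime h.normal
    (fun a b => h.comm a a.2 b b.2) (fun a => by
      rw [Subgroup.mem_subgroupOf, SubmonoidClass.coe_pow]; exact h.pow a a.2) (x := ⟨y, hy⟩) hyF
  exact ⟨f, by rwa [← ev_coe f ⟨y, hy⟩] at hf⟩

/-- An element centralising the section fixes all functions. -/
theorem srep_eq_one {w : nn P F} (h : ∀ y ∈ P, ⁅y, (w : Γ)⁆ ∈ F) : srep k P F w = 1 := by
  refine LinearMap.ext fun f => ev_ext fun y hy => ?_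
  rw [ev_srep w f hy, Module.End.one_apply]
  have hy' : (w : Γ)⁻¹ * y * w ∈ P := by
    have h1 := conj_mem_of_mem_normalizer (inv_mem w.2.1) hy
    rwa [inv_inv] at h1
  have h1 := h _ hy'
  rw [show ⁅(w : Γ)⁻¹ * y * w, (w : Γ)⁆ = (w : Γ)⁻¹ * y * w * y⁻¹ by
    rw [commutatorElement_def]; group] at h1
  have h2 := ev_zero f (mul_mem hy' (inv_mem hy)) h1
  rw [ev_mul f hy' (inv_mem hy), ev_inv f hy, add_neg_eq_zero] at h2
  exact h2

/-- The converse. -/
theorem Sec.mem_of_srep {p : ℕ} (h : Sec P F p) [CharP k p] {w : nn P F}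
    (h1 : srep k P F w = 1) {y : Γ} (hy : y ∈ P) : ⁅y, (w : Γ)⁆ ∈ F := by
  by_contra hn
  have hc : (w : Γ) * y⁻¹ * (w : Γ)⁻¹ ∈ P := conj_mem_of_mem_normalizer w.2.1 (inv_mem hy)
  have he : ⁅y, (w : Γ)⁆ = y * ((w : Γ) * y⁻¹ * (w : Γ)⁻¹) := by rw [commutatorElement_def]; group
  obtain ⟨f, hf⟩ := h.sep (k := k) (he ▸ mul_mem hy hc : ⁅y, (w : Γ)⁆ ∈ P) hn
  have h2 := congrArg (fun A => ev (A f) ((w : Γ) * y⁻¹ * (w : Γ)⁻¹)) h1
  simp only [Module.End.one_apply] at h2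
  rw [ev_srep w f hc, show (w : Γ)⁻¹ * ((w : Γ) * y⁻¹ * (w : Γ)⁻¹) * w = y⁻¹ by group,
    ev_inv f hy] at h2
  exact hf (by rw [he, ev_mul f hy hc, ← h2, add_neg_cancel])

theorem coprime_pgroup [Finite Γ] {p n : ℕ} {Q : Subgroup Γ} (hQ : IsPGroup p Q) (hp : p.Prime)
    (hn : n.Coprime p) : n.Coprime (Nat.card Q) := by
  haveI := Fact.mk hp
  obtain ⟨e, he⟩ := IsPGroup.iff_card.1 hQ
  rw [he]; exact hn.pow_right e

theorem cast_card_ne [Finite Γ] {p q : ℕ} [CharP k q] (hq : q.Prime) {Q : Subgroup Γ}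
    (hQ : IsPGroup p Q) (hp : p.Prime) (hne : q ≠ p) : (Nat.card Q : k) ≠ 0 := fun h0 => by
  rw [CharP.cast_eq_zero_iff k q] at h0
  exact hq.ne_one (Nat.dvd_one.1 ((coprime_pgroup hQ hp ((Nat.coprime_primes hq hp).2 hne)).gcd_eq_one ▸
    Nat.dvd_gcd dvd_rfl h0))

theorem cast_prime_ne {p q : ℕ} [CharP k q] (hq : q.Prime) (hp : p.Prime) (hne : q ≠ p) :
    (p : k) ≠ 0 := fun h0 => by
  rw [CharP.cast_eq_zero_iff k q] at h0
  exact hne ((Nat.prime_dvd_prime_iff_eq hq hp).1 h0)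

theorem Sec.cop [Finite Γ] {p r : ℕ} (h : Sec P F p) (hr : r.Prime) (hne : r ≠ p) :
    r.Coprime (Nat.card P) :=
  coprime_pgroup h.grp h.prime ((Nat.coprime_primes hr h.prime).2 hne)

/-- A fixed function vanishing on the fixed elements vanishes. -/
theorem push [Finite Γ] {p r : ℕ} (h : Sec P F p) [CharP k p] (hr : r.Prime) (hne : r ≠ p)
    {s : nn P F} (hs : (s : Γ) ^ r = 1) {f : funs k (F.subgroupOf P)} (hf : srep k P F s f = f)
    (hD : ∀ d ∈ P, d * (s : Γ) = s * d → ev f d = 0) : f = 0 := by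
  haveI := Fact.mk hr
  haveI := Fintype.ofFinite P
  refine funs_ext fun y => ?_
  show (f : P → k) y = 0
  obtain ⟨σ, hσ⟩ : ∃ σ, σ = cj P F s := ⟨_, rfl⟩
  have hpow : σ ^ r = 1 := by
    rw [hσ, ← map_pow, show s ^ r = 1 from Subtype.ext (by rw [SubmonoidClass.coe_pow]; exact hs),
      map_one]
  obtain ⟨c, hc, hcF⟩ := FPFOp.exists_fixed_in_left_coset σ (k := 1) (by rw [pow_one]; exact hpow)
    (F.subgroupOf P) (fun z hz => hσ ▸ cj_mem P F s z hz)
    (fun hd => hr.ne_one (Nat.dvd_one.1 ((h.cop hr hne).gcd_eq_one ▸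
      Nat.dvd_gcd dvd_rfl (hd.trans (Subgroup.card_subgroup_dvd_card _)))))
    (sprod_comm hpow (F := F.subgroupOf P) (fun a b => h.comm a a.2 b b.2) y)
  have hfσ : ∀ x : P, (f : P → k) (σ x) = (f : P → k) x := fun x => by
    rw [hσ]
    conv_lhs => rw [← hf]
    rw [srep, funRep_apply, ← MulAut.mul_apply, ← map_mul, inv_mul_cancel, map_one, MulAut.one_apply]
  have hp : ∀ l, (f : P → k) ((σ ^ l) y) = (f : P → k) y := by
    intro l
    induction l with
    | zero => rfl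
    | succ l ih => rw [pow_succ', MulAut.mul_apply, hfσ, ih]
  have hsp : ∀ l, (f : P → k) (sprod σ l y) = (l : k) * (f : P → k) y := by
    intro l
    induction l with
    | zero => rw [Nat.cast_zero, zero_mul]; exact funs_one f
    | succ l ih => rw [sprod, funs_mul, ih, hp, Nat.cast_succ, add_mul, one_mul]
  have hc' : (c : Γ) * s = s * c := by
    have h1 : ((cj P F s c : P) : Γ) = c := by rw [← hσ, hc]
    rw [coe_cj] at h1
    calc (c : Γ) * s = s * c * (s : Γ)⁻¹ * s := by rw [h1]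
      _ = s * c := by group
  have h2 := funs_zero f hcF
  rw [funs_mul, funs_inv, ← ev_coe f c, hD c c.2 hc', add_zero, neg_eq_zero, hsp] at h2
  exact (mul_eq_zero.1 h2).resolve_left (cast_prime_ne h.prime hr (Ne.symm hne))

/-- An element commuting into `F` with all fixed elements fixes all fixed functions. -/
theorem fix_of_comm [Finite Γ] {p r : ℕ} (h : Sec P F p) [CharP k p] (hr : r.Prime) (hne : r ≠ p)
    {s e : nn P F} (hs : (s : Γ) ^ r = 1) (hes : (e : Γ) * s = s * e)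
    {f : funs k (F.subgroupOf P)} (hf : srep k P F s f = f)
    (hD : ∀ d ∈ P, d * (s : Γ) = s * d → ⁅d, (e : Γ)⁆ ∈ F) : srep k P F e f = f := by
  refine sub_eq_zero.1 (push h hr hne hs ?_ fun d hd hds => ?_)
  · rw [map_sub, hf, ← Module.End.mul_apply, ← map_mul, show s * e = e * s from Subtype.ext hes.symm,
      map_mul, Module.End.mul_apply, hf]
  · rw [ev_sub, ev_srep e f hd, sub_eq_zero]
    have h1 := conj_mem_of_mem_normalizer (inv_mem e.2.2) (hD d hd hds)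
    rw [show (e : Γ)⁻¹ * ⁅d, (e : Γ)⁆ * (e : Γ)⁻¹⁻¹ = (e : Γ)⁻¹ * d * e * d⁻¹ by
      rw [commutatorElement_def]; group] at h1
    have hd' : (e : Γ)⁻¹ * d * e ∈ P := by
      have h3 := conj_mem_of_mem_normalizer (inv_mem e.2.1) hd
      rwa [inv_inv] at h3
    have h2 := ev_zero f (mul_mem hd' (inv_mem hd)) h1
    rwa [ev_mul f hd' (inv_mem hd), ev_inv f hd, add_neg_eq_zero] at h2

/-- The data of a group acting on a section with a free automorphism modulo `Z`. -/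
structure Act2 (s : Γ) (r : ℕ) (U Z P F : Subgroup Γ) (p : ℕ) : Prop where
  hr : r.Prime
  hs : s ^ r = 1
  rp : r ≠ p
  sec : Sec P F p
  sU : s ∈ Subgroup.normalizer (U : Set Γ)
  sZ : s ∈ Subgroup.normalizer (Z : Set Γ)
  sn : s ∈ nn P F
  un : U ≤ nn P F
  rU : r.Coprime (Nat.card U)
  pU : p.Coprime (Nat.card U)
  comm : ∀ a ∈ U, ∀ b ∈ U, b * a * b⁻¹ * a⁻¹ ∈ Z
  cen : ∀ z ∈ U, z ∈ Z → ∀ u ∈ U, ∀ y ∈ P, ⁅y, z * u * z⁻¹ * u⁻¹⁆ ∈ F
  gen : U ≤ ⁅U, Subgroup.zpowers s⁆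
  genP : P ≤ ⁅P, U⁆ ⊔ F

namespace Act2

variable [Finite Γ] {s : Γ} {r p : ℕ} {U Z : Subgroup Γ}

/-- The representation of `U`. -/
def rep (k : Type*) [Field k] (h : Act2 s r U Z P F p) :
    U →* Module.End k (funs k (F.subgroupOf P)) :=
  (srep k P F).comp (Subgroup.inclusion h.un)

theorem sZU (h : Act2 s r U Z P F p) :
    ∀ u : U, cjOn U s h.sU u ∈ Z.subgroupOf U ↔ u ∈ Z.subgroupOf U := fun u => by
  rw [Subgroup.mem_subgroupOf, Subgroup.mem_subgroupOf, coe_cjOn]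
  exact (Subgroup.mem_normalizer_iff.1 h.sZ _).symm

theorem gen' (h : Act2 s r U Z P F p) : Gen (cjOn U s h.sU) := by
  refine eq_top_iff.2 fun u _ => ?_
  obtain ⟨N, hN⟩ : ∃ N, N = Subgroup.closure (Set.range fun u => u⁻¹ * cjOn U s h.sU u) := ⟨_, rfl⟩
  have key : ∀ (l : ℕ) (v : U), v⁻¹ * (cjOn U s h.sU ^ l) v ∈ N := by
    intro l
    induction l with
    | zero => intro v; rw [pow_zero, MulAut.one_apply, inv_mul_cancel]; exact one_mem N
    | succ l ih =>
      intro v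
      have h1 := mul_mem (ih v) (show ((cjOn U s h.sU ^ l) v)⁻¹ *
        cjOn U s h.sU ((cjOn U s h.sU ^ l) v) ∈ N from hN ▸ Subgroup.subset_closure ⟨_, rfl⟩)
      rw [mul_assoc, mul_inv_cancel_left] at h1
      rwa [pow_succ', MulAut.mul_apply]
  have hle : ⁅U, Subgroup.zpowers s⁆ ≤ N.map U.subtype := by
    refine Subgroup.commutator_le.2 fun a ha b hb => ?_
    obtain ⟨l, rfl⟩ := (isOfFinOrder_of_finite s).mem_powers_iff_mem_zpowers.2 hb
    refine ⟨_, key l ⟨a, ha⟩⁻¹, ?_⟩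
    have hc : ∀ l, (((cjOn U s h.sU ^ l) ⟨a, ha⟩⁻¹ : U) : Γ) = s ^ l * a⁻¹ * (s ^ l)⁻¹ := by
      intro l
      induction l with
      | zero => simp
      | succ l ih => rw [pow_succ', MulAut.mul_apply, coe_cjOn, ih, pow_succ']; group
    show (((⟨a, ha⟩ : U)⁻¹)⁻¹ : U) * (((cjOn U s h.sU ^ l) ⟨a, ha⟩⁻¹ : U) : Γ) = _
    rw [inv_inv, hc, commutatorElement_def]
    group
  obtain ⟨v, hv, hvu⟩ := hle (h.gen u.2)
  exact hN ▸ (U.subtype_injective hvu ▸ hv)

theorem free' (h : Act2 s r U Z P F p) (u : U) (hu : u⁻¹ * cjOn U s h.sU u ∈ Z.subgroupOf U) :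
    u ∈ Z.subgroupOf U := by
  haveI := Fintype.ofFinite U
  obtain ⟨σ, hσ⟩ : ∃ σ, σ = cjOn U s h.sU := ⟨_, rfl⟩
  rw [← hσ] at hu
  obtain ⟨W, hW⟩ : ∃ W, W = Z.subgroupOf U := ⟨_, rfl⟩
  rw [← hW] at hu ⊢
  haveI : W.Normal := ⟨fun z hz v => by
    rw [hW, Subgroup.mem_subgroupOf] at hz ⊢
    have h1 := mul_mem (h.comm z z.2 v v.2) hz
    rwa [inv_mul_cancel_right] at h1⟩
  have hc : ∀ a b : U, ((a * b : U) : U ⧸ W) = ((b * a : U) : U ⧸ W) := fun a b =>
    QuotientGroup.eq.2 (by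
      rw [hW, Subgroup.mem_subgroupOf]
      push_cast
      rw [show ((a : Γ) * b)⁻¹ * ((b : Γ) * a) = (b : Γ)⁻¹ * (a : Γ)⁻¹ * b * a by group]
      have h1 := h.comm (a : Γ)⁻¹ (inv_mem a.2) (b : Γ)⁻¹ (inv_mem b.2)
      rwa [inv_inv, inv_inv] at h1)
  have hsp : ∀ n (a b : U), ((sprod σ n (a * b) : U) : U ⧸ W) =
      ((sprod σ n a : U) : U ⧸ W) * ((sprod σ n b : U) : U ⧸ W) := by
    intro n
    induction n with
    | zero => intro a b; simp [sprod]
    | succ n ih =>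
      intro a b
      simp only [sprod, map_mul, QuotientGroup.mk_mul, ih]
      rw [mul_assoc, mul_assoc, ← mul_assoc ((sprod σ n b : U) : U ⧸ W),
        ← QuotientGroup.mk_mul W (sprod σ n b), hc, QuotientGroup.mk_mul]
      simp only [mul_assoc]
  let φ : U →* U ⧸ W := MonoidHom.mk' (fun v => ((sprod σ r v : U) : U ⧸ W)) (hsp r)
  have hpow : σ ^ r = 1 := hσ ▸ cjOn_pow U h.sU h.hs
  have hφ : φ u = 1 := Gen.eq_one (hσ ▸ h.gen') φ (fun v => by
    rw [map_mul, map_inv, inv_mul_eq_one]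
    show ((sprod σ r v : U) : U ⧸ W) = ((sprod σ r (σ v) : U) : U ⧸ W)
    have hσsp : ∀ n, sprod σ n (σ v) = σ (sprod σ n v) := by
      intro n
      induction n with
      | zero => simp [sprod]
      | succ n ih =>
        rw [sprod, sprod, map_mul, ih, ← MulAut.mul_apply, ← pow_succ, pow_succ', MulAut.mul_apply]
    rw [hσsp, sigma_sprod, show sprod σ (r + 1) v = sprod σ r v * (σ ^ r) v from rfl, hpow,
      MulAut.one_apply, QuotientGroup.mk_mul, hc, ← QuotientGroup.mk_mul, inv_mul_cancel_left]) u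
  have hl : ∀ l, (((σ ^ l) u : U) : U ⧸ W) = (u : U ⧸ W) := by
    intro l
    induction l with
    | zero => rfl
    | succ l ih =>
      rw [pow_succ', MulAut.mul_apply]
      have h1 : (σ ((σ ^ l) u) : U ⧸ W) = (σ u : U) := QuotientGroup.eq.2 (by
        have h0 := QuotientGroup.eq.1 ih
        rw [hW] at h0
        rw [← map_inv, ← map_mul, hW]
        subst hσ
        exact (h.sZU _).2 h0)
      rw [h1]; exact (QuotientGroup.eq.2 hu).symm
  have hr' : ∀ n, ((sprod σ n u : U) : U ⧸ W) = (u : U ⧸ W) ^ n := by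
    intro n
    induction n with
    | zero => simp [sprod]
    | succ n ih => rw [sprod, QuotientGroup.mk_mul, ih, hl, pow_succ]
  have h1 : (u : U ⧸ W) ^ r = 1 := (hr' r).symm.trans hφ
  have h2 : (u : U ⧸ W) ^ Nat.card U = 1 := by rw [← QuotientGroup.mk_pow, pow_card_eq_one']; rfl
  have h3 := pow_gcd_eq_one.2 ⟨h1, h2⟩
  rw [h.rU, pow_one] at h3
  exact (QuotientGroup.eq_one_iff u).1 h3

/-- The setting of class two. -/
theorem two (h : Act2 s r U Z P F p) [CharP k p] :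
    Two (h.rep k) (Z.subgroupOf U) (cjOn U s h.sU) (srep k P F ⟨s, h.sn⟩) r where
  card h0 := by
    rw [CharP.cast_eq_zero_iff k p] at h0
    exact h.sec.prime.ne_one (Nat.dvd_one.1 (h.pU.gcd_eq_one ▸ Nat.dvd_gcd dvd_rfl h0))
  prime := h.hr
  rk := cast_prime_ne h.sec.prime h.hr (Ne.symm h.rp)
  cop := h.rU
  pow := cjOn_pow U h.sU h.hs
  Spow := by
    rw [← map_pow, show (⟨s, h.sn⟩ : nn P F) ^ r = 1 from
      Subtype.ext (by rw [SubmonoidClass.coe_pow]; exact h.hs), map_one]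
  Scomm v := by
    show srep k P F _ * srep k P F _ = srep k P F _ * srep k P F _
    rw [← map_mul, ← map_mul]
    refine congrArg _ (Subtype.ext ?_)
    show s * (v : Γ) = s * v * s⁻¹ * s
    group
  mem := h.sZU
  comm u v := h.comm u u.2 v v.2
  cen z hz u := by
    show srep k P F _ * srep k P F _ = srep k P F _ * srep k P F _
    rw [← map_mul, ← map_mul]
    have h1 : srep k P F (Subgroup.inclusion h.un (z * u * z⁻¹ * u⁻¹)) = 1 :=
      srep_eq_one fun y hy => h.cen z z.2 hz u u.2 y hy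
    symm
    rw [← map_mul, ← map_mul, show z * u = z * u * z⁻¹ * u⁻¹ * (u * z) by group,
      map_mul _ _ (u * z), map_mul (srep k P F), h1, one_mul]
  free := h.free'

theorem noU (h : Act2 s r U Z P F p) : NoU (h.rep k) := fun f hf => ev_ext fun y hy => by
  show ev f y = ev (0 : funs k (F.subgroupOf P)) y
  rw [← sub_self f, ev_sub, sub_self]
  let N : Subgroup Γ :=
    { carrier := {a | a ∈ P ∧ ev f a = 0}
      one_mem' := ⟨one_mem P, ev_zero f (one_mem P) (one_mem F)⟩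
      mul_mem' := fun {a b} ha hb =>
        ⟨mul_mem ha.1 hb.1, by rw [ev_mul f ha.1 hb.1, ha.2, hb.2, add_zero]⟩
      inv_mem' := fun {a} ha => ⟨inv_mem ha.1, by rw [ev_inv f ha.1, ha.2, neg_zero]⟩ }
  have hle : P ≤ N := h.genP.trans (sup_le (Subgroup.commutator_le.2 fun a ha u hu => ?_)
    fun a ha => ⟨h.sec.le ha, ev_zero f (h.sec.le ha) ha⟩)
  · exact (hle hy).2
  · have hc : u * a⁻¹ * u⁻¹ ∈ P := conj_mem_of_mem_normalizer (h.un hu).1 (inv_mem ha)
    rw [show ⁅a, u⁆ = a * (u * a⁻¹ * u⁻¹) by rw [commutatorElement_def]; group]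
    refine ⟨mul_mem ha hc, ?_⟩
    have h1 := congrArg (fun g => ev g (u * a⁻¹ * u⁻¹)) (hf ⟨u, hu⟩)
    change ev (srep k P F _ f) _ = _ at h1
    rw [ev_srep _ f hc, show ((Subgroup.inclusion h.un (⟨u, hu⟩ : U) : nn P F) : Γ)⁻¹ *
      (u * a⁻¹ * u⁻¹) * (Subgroup.inclusion h.un (⟨u, hu⟩ : U) : nn P F) = a⁻¹ by
        show u⁻¹ * (u * a⁻¹ * u⁻¹) * u = a⁻¹
        group] at h1
    rw [ev_mul f ha hc, ← h1, ev_inv f ha, add_neg_cancel]

/-- The perturbation given by an element centralising `s`. -/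
theorem pert (h : Act2 s r U Z P F p) [CharP k p] {e : Γ} (he : e ∈ nn P F)
    (heU : e ∈ Subgroup.normalizer (U : Set Γ)) (heZ : e ∈ Subgroup.normalizer (Z : Set Γ))
    (hes : e * s = s * e) (hfix : ∀ z ∈ U, z ∈ Z → ∀ y ∈ P, ⁅y, e * z * e⁻¹ * z⁻¹⁆ ∈ F) :
    Pert (h.rep k) (Z.subgroupOf U) (cjOn U s h.sU) (srep k P F ⟨s, h.sn⟩) (cjOn U e heU)
      (srep k P F ⟨e, he⟩) where
  fix z hz := by
    have h1 : h.rep k (cjOn U e heU z * z⁻¹) = 1 := srep_eq_one fun y hy => hfix z z.2 hz y hy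
    rw [← inv_mul_cancel_right (cjOn U e heU z) z, map_mul, h1, one_mul]
  mem u := by
    rw [Subgroup.mem_subgroupOf, Subgroup.mem_subgroupOf, coe_cjOn]
    exact (Subgroup.mem_normalizer_iff.1 heZ _).symm
  comm := MulEquiv.ext fun u => Subtype.ext (by
    show e * (s * u * s⁻¹) * e⁻¹ = s * (e * u * e⁻¹) * s⁻¹
    rw [show e * (s * u * s⁻¹) * e⁻¹ = e * s * u * (e * s)⁻¹ by group, hes]
    group)
  intw v := by
    show srep k P F _ * srep k P F _ = srep k P F _ * srep k P F _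
    rw [← map_mul, ← map_mul]
    refine congrArg _ (Subtype.ext ?_)
    show e * (v : Γ) = e * v * e⁻¹ * e
    group
  commS := by
    rw [← map_mul, ← map_mul]
    exact congrArg _ (Subtype.ext hes)

/-- A fixed element outside `F`, for odd order. -/
theorem exists_fixed_notMem (h : Act2 s r U Z P F p) (hodd : Odd (Nat.card U)) (hne : ¬ P ≤ F) :
    ∃ d ∈ P, d * s = s * d ∧ d ∉ F := by
  haveI := Fact.mk h.sec.prime
  haveI := Fintype.ofFinite U
  by_contra hno
  push Not at hno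
  obtain ⟨y, hy, hyF⟩ := SetLike.not_le_iff_exists.1 hne
  haveI : CharP (AlgebraicClosure (ZMod p)) p :=
    charP_of_injective_algebraMap (algebraMap (ZMod p) (AlgebraicClosure (ZMod p))).injective p
  obtain ⟨f, hf⟩ := h.sec.sep (k := AlgebraicClosure (ZMod p)) hy hyF
  have h0 : f = 0 := (h.two (k := AlgebraicClosure (ZMod p))).fixed_of_odd h.gen' h.noU hodd
    (fun v hv => push h.sec h.hr h.rp (s := ⟨s, h.sn⟩) h.hs hv fun d hd hds =>
      ev_zero v hd (hno d hd hds)) f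
  refine hf ?_
  rw [h0, ← sub_self (0 : funs (AlgebraicClosure (ZMod p)) (F.subgroupOf P)), ev_sub, sub_self]

end Act2

end Cfsg.Agent.Solv.FHeight
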