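import Cfsg.Agent.Lib.Solv.FHeight.LineStab

/-!
Restriction to an invariant subgroup; the part of `U` moved by an automorphism modulo `Z`.
-/

set_option autoImplicit false
set_option linter.unusedSectionVars false
set_option linter.style.haveILetI false

namespace Cfsg.Agent.Solv.FHeight

open Module

variable {U : Type*} [Group U]

/-- The restriction of an automorphism to an invariant subgroup. -/
def autRes (φ : MulAut U) (H : Subgroup U) (h : ∀ u, φ u ∈ H ↔ u ∈ H) : MulAut H :=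
  { toFun := fun x => ⟨φ x, (h x).2 x.2⟩
    invFun := fun x => ⟨φ.symm x, (h _).1 (by rw [MulEquiv.apply_symm_apply]; exact x.2)⟩
    left_inv := fun x => Subtype.ext (φ.symm_apply_apply x)
    right_inv := fun x => Subtype.ext (φ.apply_symm_apply x)
    map_mul' := fun x y => Subtype.ext (map_mul φ x.1 y.1) }

theorem coe_autRes_pow (φ : MulAut U) (H : Subgroup U) (h : ∀ u, φ u ∈ H ↔ u ∈ H) (n : ℕ) (x : H) :
    (((autRes φ H h) ^ n) x : U) = (φ ^ n) x := by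
  induction n with
  | zero => rfl
  | succ n ih => rw [pow_succ', pow_succ', MulAut.mul_apply, MulAut.mul_apply, ← ih]; rfl

theorem autRes_comm {φ ψ : MulAut U} {H : Subgroup U} (h : ∀ u, φ u ∈ H ↔ u ∈ H)
    (h' : ∀ u, ψ u ∈ H ↔ u ∈ H) (hc : φ * ψ = ψ * φ) :
    autRes φ H h * autRes ψ H h' = autRes ψ H h' * autRes φ H h :=
  MulEquiv.ext fun x => Subtype.ext (DFunLike.congr_fun hc (x : U))

variable {k : Type*} [Field k] {M : Type*} [AddCommGroup M] [Module k M] [Fintype U]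
  {ρ : U →* Module.End k M} {Z : Subgroup U} {σ : MulAut U} {S : Module.End k M} {r : ℕ}

theorem Act.restrict (h : Act ρ Z σ S r) (H : Subgroup U) [Fintype H] (hσ : ∀ u, σ u ∈ H ↔ u ∈ H)
    (hnd : ∀ u ∈ H, u ∉ Z → ∃ v ∈ H, ∃ c : k, c ≠ 1 ∧ ρ (v * u * v⁻¹) = c • ρ u) :
    Act (ρ.comp H.subtype) (Z.subgroupOf H) (autRes σ H hσ) S r where
  toNd :=
    { card := fun h0 => by
        obtain ⟨c, hc⟩ := Subgroup.card_subgroup_dvd_card H
        exact h.toNd.card (by rw [hc, Nat.cast_mul, h0, zero_mul])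
      scal := fun z hz => h.toNd.scal _ hz
      comm := fun u v => h.toNd.comm (u : U) v
      nd := fun u hu => by
        obtain ⟨v, hv, c, hc, hcv⟩ := hnd u u.2 hu
        exact ⟨⟨v, hv⟩, c, hc, hcv⟩ }
  prime := h.prime
  rk := h.rk
  fix z hz := h.fix _ hz
  mem u := h.mem _
  free u hu := h.free _ hu
  pow := MulEquiv.ext fun x => Subtype.ext (by rw [coe_autRes_pow, h.pow]; rfl)
  Spow := h.Spow
  Scomm v := h.Scomm _

theorem Pert.restrict {e : MulAut U} {E : Module.End k M} (hP : Pert ρ Z σ S e E) (H : Subgroup U)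
    (hσ : ∀ u, σ u ∈ H ↔ u ∈ H) (he : ∀ u, e u ∈ H ↔ u ∈ H) :
    Pert (ρ.comp H.subtype) (Z.subgroupOf H) (autRes σ H hσ) S (autRes e H he) E where
  fix z hz := hP.fix _ hz
  mem u := hP.mem _
  comm := autRes_comm he hσ hP.comm
  intw v := hP.intw _
  commS := hP.commS

theorem line_restrict (ρ : U →* Module.End k M) (H : Subgroup U) (ξ : M) :
    line (ρ.comp H.subtype) ξ = (line ρ ξ).subgroupOf H := by
  ext u; exact Iff.rfl

variable [Nontrivial M]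

/-- The part of `U` moved by `e` modulo `Z`, for scalar `Z`. -/
theorem Nd.exists_moved (h : Nd ρ Z) {e : MulAut U} (hefix : ∀ z ∈ Z, ρ (e z) = ρ z)
    (hemem : ∀ u, e u ∈ Z ↔ u ∈ Z) {t : ℕ} (htU : t.Coprime (Nat.card U))
    (hper : ∀ u, u⁻¹ * (e ^ t) u ∈ Z) :
    ∃ H : Subgroup U, Z ≤ H ∧
      (∀ φ : MulAut U, (∀ u, φ u ∈ Z ↔ u ∈ Z) → e * φ = φ * e → ∀ u, φ u ∈ H ↔ u ∈ H) ∧
      (∀ u, u⁻¹ * e u ∈ H) ∧ (∀ u ∈ H, u⁻¹ * e u ∈ Z → u ∈ Z) ∧
      ∀ u ∈ H, u ∉ Z → ∃ v ∈ H, ∃ c : k, c ≠ 1 ∧ ρ (v * u * v⁻¹) = c • ρ u := by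
  classical
  haveI := h.normal
  have hcomm : ∀ a b : U ⧸ Z, a * b = b * a := by
    intro a b
    obtain ⟨a, rfl⟩ := QuotientGroup.mk_surjective a
    obtain ⟨b, rfl⟩ := QuotientGroup.mk_surjective b
    rw [← QuotientGroup.mk_mul, ← QuotientGroup.mk_mul, eq_comm]
    refine QuotientGroup.eq.2 ?_
    rw [show (b * a)⁻¹ * (a * b) = a⁻¹ * b⁻¹ * a * b by group]
    have h1 := h.comm b⁻¹ a⁻¹
    rwa [inv_inv, inv_inv] at h1
  letI : CommGroup (U ⧸ Z) := { (inferInstance : Group (U ⧸ Z)) with mul_comm := hcomm }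
  let g : (U ⧸ Z) →* (U ⧸ Z) := QuotientGroup.map Z Z (e : U ≃* U).toMonoidHom
    fun z hz => (hemem z).2 hz
  let δ : (U ⧸ Z) →* (U ⧸ Z) := g * (MonoidHom.id (U ⧸ Z))⁻¹
  have hδ : ∀ u : U, δ (u : U ⧸ Z) = ((u⁻¹ * e u : U) : U ⧸ Z) := fun u => by
    show g (u : U ⧸ Z) * (u : U ⧸ Z)⁻¹ = _
    rw [hcomm]
    rfl
  have hmem : ∀ u, u ∈ δ.range.comap (QuotientGroup.mk' Z) ↔ ∃ y, (y⁻¹ * e y)⁻¹ * u ∈ Z := by
    intro u
    rw [Subgroup.mem_comap, MonoidHom.mem_range]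
    constructor
    · rintro ⟨q, hq⟩
      obtain ⟨y, rfl⟩ := QuotientGroup.mk_surjective q
      rw [hδ] at hq
      exact ⟨y, QuotientGroup.eq.1 hq⟩
    · rintro ⟨y, hy⟩
      exact ⟨(y : U ⧸ Z), by rw [hδ]; exact QuotientGroup.eq.2 hy⟩
  set H := δ.range.comap (QuotientGroup.mk' Z)
  have hinv : ∀ (φ : MulAut U), (∀ u, φ u ∈ Z ↔ u ∈ Z) → e * φ = φ * e →
      ∀ u, u ∈ H → φ u ∈ H := by
    intro φ hφ hc u hu
    obtain ⟨y, hy⟩ := (hmem u).1 hu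
    refine (hmem _).2 ⟨φ y, ?_⟩
    have h1 : e (φ y) = φ (e y) := DFunLike.congr_fun hc y
    rw [h1, ← map_inv, ← map_mul, ← map_inv, ← map_mul]
    exact (hφ _).2 hy
  have hpow : ∀ (φ : MulAut U), (∀ u, φ u ∈ Z ↔ u ∈ Z) → e * φ = φ * e →
      ∀ u, φ u ∈ H ↔ u ∈ H := fun φ hφ hc u => ⟨fun hu => by
    have hφ' : ∀ u, φ⁻¹ u ∈ Z ↔ u ∈ Z := fun w => by
      rw [← hφ (φ⁻¹ w), ← MulAut.mul_apply, mul_inv_cancel, MulAut.one_apply]
    have := hinv φ⁻¹ hφ' ((show Commute e φ from hc).inv_right).eq _ hu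
    rwa [← MulAut.mul_apply, inv_mul_cancel, MulAut.one_apply] at this, hinv φ hφ hc u⟩
  have hgn : ∀ (n : ℕ) (u : U), (((e ^ n) u : U) : U ⧸ Z) = g^[n] (u : U ⧸ Z) := by
    intro n
    induction n with
    | zero => intro u; rfl
    | succ n ih =>
      intro u
      rw [Function.iterate_succ_apply', pow_succ', MulAut.mul_apply, ← ih]
      rfl
  have hfree : ∀ u ∈ H, u⁻¹ * e u ∈ Z → u ∈ Z := by
    intro u hu hu'
    obtain ⟨y, hy⟩ := (hmem u).1 hu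
    have hfx : g (u : U ⧸ Z) = u := (QuotientGroup.eq.2 hu').symm
    have hy1 : g (y : U ⧸ Z) = (y : U ⧸ Z) * (u : U ⧸ Z) := by
      rw [← (QuotientGroup.eq.2 hy : ((y⁻¹ * e y : U) : U ⧸ Z) = u), ← QuotientGroup.mk_mul,
        mul_inv_cancel_left]
      rfl
    have hit : ∀ n : ℕ, g^[n] (y : U ⧸ Z) = (y : U ⧸ Z) * (u : U ⧸ Z) ^ n := by
      intro n
      induction n with
      | zero => simp
      | succ n ih =>
        rw [Function.iterate_succ_apply', ih, map_mul, map_pow, hfx, hy1, mul_assoc, ← pow_succ']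
    have h1 : (u : U ⧸ Z) ^ t = 1 := by
      have h2 := hit t
      rw [← hgn, ← (QuotientGroup.eq.2 (hper y) : (y : U ⧸ Z) = ((e ^ t) y : U)), left_eq_mul] at h2
      exact h2
    have h2 : (u : U ⧸ Z) ^ Nat.card U = 1 := by
      rw [← QuotientGroup.mk_pow, pow_card_eq_one']; rfl
    have h4 := pow_gcd_eq_one.2 ⟨h1, h2⟩
    rw [htU, pow_one] at h4
    exact (QuotientGroup.eq_one_iff _).1 h4
  have hbase : ∀ u, u⁻¹ * e u ∈ H := fun u => (hmem _).2 ⟨u, by rw [inv_mul_cancel]; exact one_mem _⟩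
  refine ⟨H, fun z hz => (hmem z).2 ⟨1, by simpa using hz⟩, hpow, hbase, hfree, fun u hu huZ => ?_⟩
  by_contra hno
  push Not at hno
  refine huZ (h.mem_of_pair fun v => ?_)
  have hH : ∀ x ∈ H, h.pair x u = 1 := fun x hx => by
    by_contra hne
    exact hno x hx _ hne (h.pair_spec x u)
  obtain ⟨x, hx, hxv⟩ := exists_delta h.normal e hemem (L := H)
    (fun w hw => hinv e hemem rfl w hw) hfree (hbase v)
  have hq : g ((v * x⁻¹ : U) : U ⧸ Z) = ((v * x⁻¹ : U) : U ⧸ Z) := by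
    have h1 : δ (v : U ⧸ Z) = δ (x : U ⧸ Z) := by
      rw [hδ, hδ]; exact (QuotientGroup.eq.2 hxv).symm
    have h2 : δ ((v * x⁻¹ : U) : U ⧸ Z) = 1 := by
      rw [QuotientGroup.mk_mul, QuotientGroup.mk_inv, map_mul, map_inv, h1, mul_inv_cancel]
    exact mul_inv_eq_one.1 h2
  have hpc : h.pair (e (v * x⁻¹)) = h.pair (v * x⁻¹) := funext fun w => by
    have h1 : (v * x⁻¹)⁻¹ * e (v * x⁻¹) ∈ Z := QuotientGroup.eq.1 hq.symm
    conv_lhs => rw [← mul_inv_cancel_left (v * x⁻¹) (e (v * x⁻¹)), h.pair_mul_left,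
      h.pair_mem_left h1, mul_one]
  obtain ⟨y, hy⟩ := (hmem u).1 hu
  have hpu : h.pair (v * x⁻¹) u = 1 := by
    rw [← mul_inv_cancel_left (y⁻¹ * e y) u, h.pair_mul_right, h.pair_mem_right _ hy,
      mul_one, h.pair_mul_right, h.pair_inv_right]
    have h1 := h.pair_map e hefix (v * x⁻¹) y
    rw [hpc] at h1
    rw [h1, inv_mul_cancel₀ (h.pair_ne _ _)]
  rw [← inv_mul_cancel_right v x, h.pair_mul_left, hpu, hH x hx, mul_one]

/-- The part of `U` moved by `e` modulo `Z`. -/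
theorem exists_moved_part (h : Act ρ Z σ S r) {e : MulAut U} {E : Module.End k M}
    (hP : Pert ρ Z σ S e E) {t : ℕ} (htU : t.Coprime (Nat.card U))
    (hper : ∀ u, u⁻¹ * (e ^ t) u ∈ Z) :
    ∃ H : Subgroup U, Z ≤ H ∧ (∀ u, σ u ∈ H ↔ u ∈ H) ∧ (∀ u, e u ∈ H ↔ u ∈ H) ∧
      (∀ u, u⁻¹ * e u ∈ H) ∧ (∀ u ∈ H, u⁻¹ * e u ∈ Z → u ∈ Z) ∧
      ∀ u ∈ H, u ∉ Z → ∃ v ∈ H, ∃ c : k, c ≠ 1 ∧ ρ (v * u * v⁻¹) = c • ρ u := by
  obtain ⟨H, h1, h2, h3⟩ := h.toNd.exists_moved hP.fix hP.mem htU hper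
  exact ⟨H, h1, h2 σ h.mem hP.comm, h2 e hP.mem rfl, h3⟩

end Cfsg.Agent.Solv.FHeight
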