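import Cfsg.Agent.Lib.Solv.FHeight.ClassTwo

/-!
Fixed vectors in class two: existence, and operators fixing all orbit sums of translates.
-/

set_option autoImplicit false
set_option linter.unusedSectionVars false
set_option linter.style.haveILetI false

namespace Cfsg.Agent.Solv.FHeight

open Module Cfsg.Agent.Perm.WeightIdem

variable {k : Type*} [Field k] [IsAlgClosed k] {M : Type*} [AddCommGroup M] [Module k M]
  [FiniteDimensional k M] {U : Type*} [Group U] [Fintype U]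
  {ρ : U →* Module.End k M} {Z : Subgroup U} {σ : MulAut U} {S : Module.End k M} {r : ℕ}

theorem coe_avg_restrict {W : Submodule k M} (hS : ∀ w ∈ W, S w ∈ W) (r : ℕ) (w : W) :
    ((avg (S.restrict hS) r w : W) : M) = avg S r w := by
  simp only [avg, LinearMap.sum_apply, Submodule.coe_sum, pow_restrict]

/-- An automorphism commuting with `σ` and trivial modulo a scalar `Z` acts trivially. -/
theorem rho_eq_of_inner (hs : Scal ρ Z σ) (hg : Gen σ) {e : MulAut U} (hc : e * σ = σ * e)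
    (htriv : ∀ u, u⁻¹ * e u ∈ Z) (u : U) : ρ (e u) = ρ u := by
  let φ : U →* Module.End k M :=
    { toFun := fun v => ρ (v⁻¹ * e v)
      map_one' := by simp
      map_mul' := fun a b => by
        obtain ⟨c, hc⟩ := (hs _ (htriv a)).1
        show ρ ((a * b)⁻¹ * e (a * b)) = ρ (a⁻¹ * e a) * ρ (b⁻¹ * e b)
        rw [map_mul e, show (a * b)⁻¹ * (e a * e b) = b⁻¹ * (a⁻¹ * e a) * e b by group, map_mul,
          map_mul ρ b⁻¹, hc, mul_smul_comm, mul_one, smul_mul_assoc, smul_mul_assoc, one_mul,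
          ← map_mul] }
  have hσ : ∀ v, φ (σ v) = φ v := fun v => by
    show ρ ((σ v)⁻¹ * e (σ v)) = ρ (v⁻¹ * e v)
    rw [← MulAut.mul_apply, hc, MulAut.mul_apply, ← map_inv, ← map_mul, (hs _ (htriv v)).2]
  have h1 : φ u = 1 := hg.eq_one φ (fun v => by
    rw [map_mul, hσ, ← map_mul, inv_mul_cancel, map_one]) u
  have h2 : ρ (u⁻¹ * e u) = 1 := h1
  rw [← mul_inv_cancel_left u (e u), map_mul, h2, mul_one]

namespace Two

theorem fixed_of_scal (h : Two ρ Z σ S r) (hs : Scal ρ Z σ) (hg : Gen σ) (hN : NoU ρ)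
    (hodd : Odd (Nat.card U)) (hfix : ∀ v, S v = v → v = 0) (v : M) : v = 0 := by
  haveI := Fintype.ofFinite (Abelianization (rad ρ))
  have hW := h.wts (h.sigma_rad hs) (rad_comm ρ)
  refine hW.ext_comp fun θ => ?_
  rw [map_zero]
  by_cases hθ : FixedChar (abAut σ (rad ρ) (h.sigma_rad hs)) θ
  · by_contra hne
    have hb := wspace_ne_bot hne
    haveI := (Submodule.nontrivial_iff_ne_bot
      (p := wspace (abLift ρ (rad ρ) (rad_comm ρ)) θ)).2 hb
    refine h.core_proper hs hg hN hθ hb ((h.act_core hs hθ hb).exists_fixed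
      (hodd.of_dvd_nat (Subgroup.card_quotient_dvd_card _)) fun w hw => Subtype.ext ?_)
    exact hfix _ (congrArg Subtype.val hw)
  · exact hW.comp_eq_zero hfix hθ v

/-- Without fixed vectors the space vanishes, for odd order. -/
theorem fixed_of_odd (h : Two ρ Z σ S r) (hg : Gen σ) (hN : NoU ρ)
    (hodd : Odd (Nat.card U)) (hfix : ∀ v, S v = v → v = 0) (v : M) : v = 0 := by
  haveI := Fintype.ofFinite (Abelianization Z)
  have hW := h.wts h.mem h.comm_Z
  refine hW.ext_comp fun χ => ?_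
  rw [map_zero]
  by_cases hχ : FixedChar (abAut σ Z h.mem) χ
  · have hI := h.inv_wspace h.mem h.cen χ
    have hS : ∀ w ∈ wspace (abLift ρ Z h.comm_Z) χ, S w ∈ wspace (abLift ρ Z h.comm_Z) χ :=
      fun w hw => hW.S_wspace hχ hw
    exact congrArg Subtype.val ((h.restrict hI hS).fixed_of_scal (h.scal_wspace hχ) hg (hN.restrict hI)
      hodd (fun w hw => Subtype.ext (hfix _ (congrArg Subtype.val hw))) ⟨_, Wts.idem_mem χ v⟩)
  · exact hW.comp_eq_zero hfix hχ v

theorem sums_scal (h : Two ρ Z σ S r) (hs : Scal ρ Z σ) (hg : Gen σ) (hN : NoU ρ) {e : MulAut U}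
    {E : Module.End k M} (hP : Pert ρ Z σ S e E) {t n : ℕ} (ht : t.Prime) (htr : t ≠ r)
    (htU : t.Coprime (Nat.card U)) (hord : ∀ u, ρ ((e ^ t ^ n) u) = ρ u) {ξ : M} (hS : S ξ = ξ)
    (hyp : ∀ u, S (ρ u ξ) = ρ u ξ ∨ E (avg S r (ρ u ξ)) = avg S r (ρ u ξ)) : E ξ = ξ := by
  haveI := Fintype.ofFinite (Abelianization (rad ρ))
  have hW := h.wts (h.sigma_rad hs) (rad_comm ρ)
  have heR : ∀ u, e u ∈ rad ρ ↔ u ∈ rad ρ :=
    mem_iff_of_forward fun _ hu => rad_fwd h.comm hP.fix hu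
  have hεc := abAut_comm heR (h.sigma_rad hs) hP.comm
  have hE := abLift_intw ρ (rad ρ) (rad_comm ρ) heR hP.intw
  rcases hW.translation hE hεc hP.commS hS (fun b => by
    obtain ⟨x, rfl⟩ := ab_of_surjective (rad ρ) b
    exact hyp x) with h1 | hmov
  · exact h1
  refine hW.ext_comp fun θ => ?_
  by_cases hθ : FixedChar (abAut σ (rad ρ) (h.sigma_rad hs)) θ
  swap
  · rw [(hmov θ hθ).1, (hmov θ hθ).2]
  by_cases hbot : wspace (abLift ρ (rad ρ) (rad_comm ρ)) θ = ⊥
  · have h0 : ∀ y, idem (abLift ρ (rad ρ) (rad_comm ρ)) θ y = 0 := fun y =>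
      (Submodule.mem_bot k).1 (hbot ▸ Wts.idem_mem θ y)
    rw [h0, h0]
  obtain ⟨x, hx⟩ : ∃ x, idem (abLift ρ (rad ρ) (rad_comm ρ)) θ x ≠ 0 := by
    by_contra hno
    push Not at hno
    exact hbot (eq_bot_iff.2 (by rintro _ ⟨y, rfl⟩; rw [hno]; exact zero_mem _))
  have hθε : θ.comp (abAut e (rad ρ) heR).toMonoidHom = θ := by
    refine h.fixed_ext hs (fun b => ?_) hθ fun z hz => Units.ext ?_
    · show θ (abAut e (rad ρ) heR (abAut σ (rad ρ) (h.sigma_rad hs) b)) = θ (abAut e (rad ρ) heR b)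
      rw [← MulAut.mul_apply, hεc, MulAut.mul_apply, hθ]
    · obtain ⟨c, hc⟩ := (hs z hz).1
      rw [h.weight_val hx (h.cen hz) hc]
      exact h.weight_val hx _ (z := e z) ((hP.fix z hz).trans hc)
  have hI := h.inv_wspace (h.sigma_rad hs) le_rfl θ
  have hSI : ∀ w ∈ wspace (abLift ρ (rad ρ) (rad_comm ρ)) θ,
      S w ∈ wspace (abLift ρ (rad ρ) (rad_comm ρ)) θ := fun w hw => hW.S_wspace hθ hw
  have hEc : ∀ y, idem (abLift ρ (rad ρ) (rad_comm ρ)) θ (E y) =
      E (idem (abLift ρ (rad ρ) (rad_comm ρ)) θ y) := fun y => by rw [Wts.intw_comp hE, hθε]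
  have hEI : ∀ w ∈ wspace (abLift ρ (rad ρ) (rad_comm ρ)) θ,
      E w ∈ wspace (abLift ρ (rad ρ) (rad_comm ρ)) θ := fun w hw => by
    rw [hW.mem_wspace] at hw ⊢; rw [hEc, hw]
  have hA := h.act_core hs hθ hbot
  haveI := (Submodule.nontrivial_iff_ne_bot
    (p := wspace (abLift ρ (rad ρ) (rad_comm ρ)) θ)).2 hbot
  have hSc : ∀ y, idem (abLift ρ (rad ρ) (rad_comm ρ)) θ (S y) =
      S (idem (abLift ρ (rad ρ) (rad_comm ρ)) θ y) := hW.comp_comm hθ
  have hac : ∀ y, idem (abLift ρ (rad ρ) (rad_comm ρ)) θ (avg S r y) =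
      avg S r (idem (abLift ρ (rad ρ) (rad_comm ρ)) θ y) := fun y => DFunLike.congr_fun
    (commute_avg r (show Commute (idem (abLift ρ (rad ρ) (rad_comm ρ)) θ) S from
      LinearMap.ext hSc)).eq y
  have hρc : ∀ u y, idem (abLift ρ (rad ρ) (rad_comm ρ)) θ (ρ u y) =
      ρ u (idem (abLift ρ (rad ρ) (rad_comm ρ)) θ y) := fun u y => DFunLike.congr_fun
    (commute_idem (abLift ρ (rad ρ) (rad_comm ρ)) θ (y := ρ u) fun b => by
      obtain ⟨x, rfl⟩ := ab_of_surjective (rad ρ) b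
      exact x.2 u).eq.symm y
  let ξ' : wspace (abLift ρ (rad ρ) (rad_comm ρ)) θ :=
    ⟨idem (abLift ρ (rad ρ) (rad_comm ρ)) θ ξ, Wts.idem_mem θ ξ⟩
  have hξ' : S.restrict hSI ξ' = ξ' := Subtype.ext (show S (idem (abLift ρ (rad ρ) (rad_comm ρ)) θ ξ) = idem (abLift ρ (rad ρ) (rad_comm ρ)) θ ξ by rw [← hSc, hS])
  have hP' : Pert (restr ρ hI) (rad ρ) σ (S.restrict hSI) e (E.restrict hEI) :=
    { fix := fun z hz => LinearMap.ext fun w => Subtype.ext (by
        have k1 := hW.wspace_smul w.2 (Abelianization.of ⟨z, hz⟩)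
        have k2 := hW.wspace_smul w.2 (Abelianization.of ⟨e z, (heR z).2 hz⟩)
        rw [abLift_of] at k1 k2
        rw [coe_restr, coe_restr, k1, k2]
        congr 2
        exact DFunLike.congr_fun hθε (Abelianization.of ⟨z, hz⟩))
      mem := heR
      comm := hP.comm
      intw := fun v => LinearMap.ext fun w => Subtype.ext (DFunLike.congr_fun (hP.intw v) (w : M))
      commS := LinearMap.ext fun w => Subtype.ext (DFunLike.congr_fun hP.commS (w : M)) }
  have hsum : SumFix (restr ρ hI) (S.restrict hSI) r ξ' (E.restrict hEI) := fun u hu => by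
    rcases hyp u with h1 | h1
    · refine absurd ?_ hu
      rcases eq_or_ne ξ' 0 with h0 | h0
      · exact ⟨1, by rw [h0]; simp⟩
      refine hA.line_of_fixed h0 hξ' (Subtype.ext ?_)
      show S (ρ u (idem (abLift ρ (rad ρ) (rad_comm ρ)) θ ξ)) = ρ u (idem (abLift ρ (rad ρ) (rad_comm ρ)) θ ξ)
      rw [← hρc, ← hSc, h1]
    · refine Subtype.ext ?_
      show E ((avg (S.restrict hSI) r (restr ρ hI u ξ') : _) : M) = _
      rw [coe_avg_restrict, coe_restr]
      show E (avg S r (ρ u (idem (abLift ρ (rad ρ) (rad_comm ρ)) θ ξ))) = avg S r (ρ u (idem (abLift ρ (rad ρ) (rad_comm ρ)) θ ξ))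
      rw [← hρc, ← hac, ← hEc, h1]
  rw [hEc]
  exact congrArg Subtype.val (hA.eq_of_sumFix (h.core_proper hs hg hN hθ hbot) hξ' hP' hsum ht htr
    htU fun u => LinearMap.ext fun w => Subtype.ext (by rw [coe_restr, coe_restr, hord]))

/-- An operator fixing the orbit sums of moved translates of a fixed vector fixes it. -/
theorem fix_of_sums (h : Two ρ Z σ S r) (hg : Gen σ) (hN : NoU ρ) {e : MulAut U}
    {E : Module.End k M} (hP : Pert ρ Z σ S e E)
    (htame : (∀ u, u⁻¹ * e u ∈ Z) ∨ ∃ t n, t.Prime ∧ t ≠ r ∧ t.Coprime (Nat.card U) ∧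
      ∀ u, ρ ((e ^ t ^ n) u) = ρ u) {ξ : M} (hS : S ξ = ξ)
    (hyp : ∀ u, S (ρ u ξ) = ρ u ξ ∨ E (avg S r (ρ u ξ)) = avg S r (ρ u ξ)) : E ξ = ξ := by
  haveI := Fintype.ofFinite (Abelianization Z)
  have hW := h.wts h.mem h.comm_Z
  have hE : ∀ b, E * abLift ρ Z h.comm_Z b = abLift ρ Z h.comm_Z ((1 : MulAut (Abelianization Z)) b) * E := by
    intro b
    obtain ⟨⟨z, hz⟩, rfl⟩ := ab_of_surjective Z b
    rw [MulAut.one_apply, abLift_of, hP.intw, hP.fix z hz]
  rcases hW.translation hE (by rw [one_mul, mul_one]) hP.commS hS (fun b => by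
    obtain ⟨x, rfl⟩ := ab_of_surjective Z b
    exact hyp x) with h1 | hmov
  · exact h1
  refine hW.ext_comp fun χ => ?_
  by_cases hχ : FixedChar (abAut σ Z h.mem) χ
  swap
  · rw [(hmov χ hχ).1, (hmov χ hχ).2]
  have hI := h.inv_wspace h.mem h.cen χ
  have hSI : ∀ w ∈ wspace (abLift ρ Z h.comm_Z) χ, S w ∈ wspace (abLift ρ Z h.comm_Z) χ :=
    fun w hw => hW.S_wspace hχ hw
  have hcomm : ∀ b, Commute E (abLift ρ Z h.comm_Z b) := fun b => hE b
  have hEI : ∀ w ∈ wspace (abLift ρ Z h.comm_Z) χ, E w ∈ wspace (abLift ρ Z h.comm_Z) χ :=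
    fun w hw => hW.map_wspace hcomm hw
  have hs := h.scal_wspace hχ
  have hP' := hP.restrictSpace hI hSI hEI
  obtain ⟨e', t, n, hPe, ht, htr, htU, hord⟩ : ∃ e' t n,
      Pert (restr ρ hI) Z σ (S.restrict hSI) e' (E.restrict hEI) ∧ Nat.Prime t ∧ t ≠ r ∧
        t.Coprime (Nat.card U) ∧ ∀ u, restr ρ hI ((e' ^ t ^ n) u) = restr ρ hI u := by
    rcases htame with hin | ⟨t, n, ht, htr, htU, hord⟩
    · obtain ⟨t, hle, ht⟩ := Nat.exists_infinite_primes (r + Nat.card U + 1)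
      refine ⟨1, t, 0, ⟨fun _ _ => rfl, fun _ => Iff.rfl, by rw [one_mul, mul_one],
        fun v => ?_, hP'.commS⟩, ht, by omega,
        (Nat.Prime.coprime_iff_not_dvd ht).2 fun hd => ?_, fun u => by simp⟩
      · rw [hP'.intw, rho_eq_of_inner hs hg hP.comm hin v]; rfl
      · have := Nat.le_of_dvd Nat.card_pos hd
        omega
    · exact ⟨e, t, n, hP', ht, htr, htU, fun u => LinearMap.ext fun w => Subtype.ext (by
        rw [coe_restr, coe_restr, hord])⟩
  let ξ' : wspace (abLift ρ Z h.comm_Z) χ := ⟨idem (abLift ρ Z h.comm_Z) χ ξ, Wts.idem_mem χ ξ⟩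
  have hEc : ∀ y, idem (abLift ρ Z h.comm_Z) χ (E y) = E (idem (abLift ρ Z h.comm_Z) χ y) :=
    fun y => DFunLike.congr_fun (commute_idem (abLift ρ Z h.comm_Z) χ hcomm).eq.symm y
  have hSc : ∀ y, idem (abLift ρ Z h.comm_Z) χ (S y) = S (idem (abLift ρ Z h.comm_Z) χ y) :=
    hW.comp_comm hχ
  have hac : ∀ y, idem (abLift ρ Z h.comm_Z) χ (avg S r y) =
      avg S r (idem (abLift ρ Z h.comm_Z) χ y) := fun y => DFunLike.congr_fun
    (commute_avg r (show Commute (idem (abLift ρ Z h.comm_Z) χ) S from LinearMap.ext hSc)).eq y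
  have hρc : ∀ u y, idem (abLift ρ Z h.comm_Z) χ (ρ u y) =
      ρ u (idem (abLift ρ Z h.comm_Z) χ y) := fun u y => DFunLike.congr_fun
    (commute_idem (abLift ρ Z h.comm_Z) χ (y := ρ u) fun b => by
      obtain ⟨x, rfl⟩ := ab_of_surjective Z b
      exact h.cen x.2 u).eq.symm y
  have h2 := (h.restrict hI hSI).sums_scal hs hg (hN.restrict hI) hPe ht htr htU hord (ξ := ξ')
    (Subtype.ext (show S (idem (abLift ρ Z h.comm_Z) χ ξ) = idem (abLift ρ Z h.comm_Z) χ ξ by rw [← hSc, hS])) fun u => ?_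
  · rw [hEc]; exact congrArg Subtype.val h2
  · rcases hyp u with h1 | h1
    · refine Or.inl (Subtype.ext ?_)
      show S (ρ u (idem (abLift ρ Z h.comm_Z) χ ξ)) = ρ u (idem (abLift ρ Z h.comm_Z) χ ξ)
      rw [← hρc, ← hSc, h1]
    · refine Or.inr (Subtype.ext ?_)
      show E ((avg (S.restrict hSI) r (restr ρ hI u ξ') : _) : M) = _
      rw [coe_avg_restrict, coe_restr]
      show E (avg S r (ρ u (idem (abLift ρ Z h.comm_Z) χ ξ))) = avg S r (ρ u (idem (abLift ρ Z h.comm_Z) χ ξ))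
      rw [← hρc, ← hac, ← hEc, h1]

end Two

end Cfsg.Agent.Solv.FHeight
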