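import Cfsg.Agent.Lib.Solv.FHeight.Eigen

/-!
Twisted group algebras: a finite group acting with scalar centre and non-degenerate commutators.
-/

set_option autoImplicit false
set_option linter.unusedSectionVars false
set_option linter.style.haveILetI false

namespace Cfsg.Agent.Solv.FHeight

variable {k : Type*} [Field k] {M : Type*} [AddCommGroup M] [Module k M] {U : Type*} [Group U]
  [Fintype U]

/-- `Z` acts by scalars and the commutator pairing on `U ⧸ Z` is non-degenerate. -/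
structure Nd (ρ : U →* Module.End k M) (Z : Subgroup U) : Prop where
  card : (Nat.card U : k) ≠ 0
  scal : ∀ z ∈ Z, ∃ c : k, ρ z = c • 1
  comm : ∀ u v : U, v * u * v⁻¹ * u⁻¹ ∈ Z
  nd : ∀ u ∉ Z, ∃ v, ∃ c : k, c ≠ 1 ∧ ρ (v * u * v⁻¹) = c • ρ u

/-- The linear span of the image. -/
def alg (ρ : U →* Module.End k M) : Submodule k (Module.End k M) :=
  Submodule.span k (Set.range fun u => ρ u)

theorem rho_mem_alg (ρ : U →* Module.End k M) (u : U) : ρ u ∈ alg ρ :=
  Submodule.subset_span ⟨u, rfl⟩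

theorem one_mem_alg (ρ : U →* Module.End k M) : (1 : Module.End k M) ∈ alg ρ :=
  map_one ρ ▸ rho_mem_alg ρ 1

theorem mul_mem_alg (ρ : U →* Module.End k M) {a b : Module.End k M} (ha : a ∈ alg ρ)
    (hb : b ∈ alg ρ) : a * b ∈ alg ρ := by
  induction ha using Submodule.span_induction with
  | mem x hx =>
    obtain ⟨u, rfl⟩ := hx
    induction hb using Submodule.span_induction with
    | mem y hy => obtain ⟨v, rfl⟩ := hy; exact (map_mul ρ u v) ▸ rho_mem_alg ρ _
    | zero => rw [mul_zero]; exact zero_mem _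
    | add y z _ _ h1 h2 => rw [mul_add]; exact add_mem h1 h2
    | smul c y _ h1 => rw [mul_smul_comm]; exact Submodule.smul_mem _ c h1
  | zero => rw [zero_mul]; exact zero_mem _
  | add y z _ _ h1 h2 => rw [add_mul]; exact add_mem h1 h2
  | smul c y _ h1 => rw [smul_mul_assoc]; exact Submodule.smul_mem _ c h1

theorem pow_mem_alg (ρ : U →* Module.End k M) {a : Module.End k M} (ha : a ∈ alg ρ) (n : ℕ) :
    a ^ n ∈ alg ρ := by
  induction n with
  | zero => rw [pow_zero]; exact one_mem_alg ρ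
  | succ n ih => rw [pow_succ]; exact mul_mem_alg ρ ih ha

/-- The sum of the conjugates. -/
def theta (ρ : U →* Module.End k M) : Module.End k M →ₗ[k] Module.End k M :=
  ∑ v : U, LinearMap.mulLeft k (ρ v) ∘ₗ LinearMap.mulRight k (ρ v⁻¹)

theorem theta_apply (ρ : U →* Module.End k M) (a : Module.End k M) :
    theta ρ a = ∑ v : U, ρ v * (a * ρ v⁻¹) := by
  simp [theta]

theorem theta_rho (ρ : U →* Module.End k M) (u : U) :
    theta ρ (ρ u) = ∑ v : U, ρ (v * u * v⁻¹) := by
  rw [theta_apply]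
  exact Finset.sum_congr rfl fun v _ => by rw [map_mul, map_mul, mul_assoc]

namespace Nd

variable {ρ : U →* Module.End k M} {Z : Subgroup U}

theorem normal (h : Nd ρ Z) : Z.Normal :=
  ⟨fun z hz v => by
    have h1 := mul_mem (h.comm z v) hz
    rwa [inv_mul_cancel_right] at h1⟩

theorem theta_not_mem (h : Nd ρ Z) {u : U} (hu : u ∉ Z) : theta ρ (ρ u) = 0 := by
  obtain ⟨v, c, hc, hvu⟩ := h.nd u hu
  rw [theta_rho]
  have key : c • ∑ w : U, ρ (w * u * w⁻¹) = ∑ w : U, ρ (w * u * w⁻¹) := by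
    conv_rhs => rw [← Equiv.sum_comp (Equiv.mulRight v) fun w => ρ (w * u * w⁻¹)]
    rw [Finset.smul_sum]
    refine Finset.sum_congr rfl fun w _ => ?_
    show c • ρ (w * u * w⁻¹) = ρ (w * v * u * (w * v)⁻¹)
    rw [show w * v * u * (w * v)⁻¹ = w * (v * u * v⁻¹) * w⁻¹ by group]
    conv_rhs => rw [map_mul, map_mul, hvu, mul_smul_comm, smul_mul_assoc, ← map_mul, ← map_mul]
  have h2 : (c - 1) • ∑ w : U, ρ (w * u * w⁻¹) = 0 := by rw [sub_smul, key, one_smul, sub_self]
  exact (smul_eq_zero.1 h2).resolve_left (sub_ne_zero.2 hc)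

theorem theta_mem (h : Nd ρ Z) {u : U} (hu : u ∈ Z) :
    theta ρ (ρ u) = (Nat.card U : k) • ρ u := by
  obtain ⟨c, hc⟩ := h.scal u hu
  rw [theta_rho, Finset.sum_congr rfl fun v _ => (show ρ (v * u * v⁻¹) = ρ u by
    rw [map_mul, map_mul, hc, mul_smul_comm, mul_one, smul_mul_assoc, ← map_mul, mul_inv_cancel,
      map_one]), Finset.sum_const, Finset.card_univ, Nat.card_eq_fintype_card,
    Nat.cast_smul_eq_nsmul]

theorem theta_scalar (h : Nd ρ Z) {a : Module.End k M} (ha : a ∈ alg ρ) :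
    ∃ c : k, theta ρ a = c • 1 := by
  induction ha using Submodule.span_induction with
  | mem x hx =>
    obtain ⟨u, rfl⟩ := hx
    by_cases hu : u ∈ Z
    · obtain ⟨c, hc⟩ := h.scal u hu
      exact ⟨Nat.card U * c, by rw [h.theta_mem hu, hc, smul_smul]⟩
    · exact ⟨0, by rw [h.theta_not_mem hu, zero_smul]⟩
  | zero => exact ⟨0, by rw [map_zero, zero_smul]⟩
  | add x y _ _ h1 h2 =>
    obtain ⟨c, hc⟩ := h1
    obtain ⟨d, hd⟩ := h2
    exact ⟨c + d, by rw [map_add, hc, hd, add_smul]⟩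
  | smul c x _ h1 =>
    obtain ⟨d, hd⟩ := h1
    exact ⟨c * d, by rw [map_smul, hd, smul_smul]⟩

/-- An element of the span commuting with the image is a scalar. -/
theorem central_scalar (h : Nd ρ Z) {a : Module.End k M} (ha : a ∈ alg ρ)
    (hc : ∀ v, a * ρ v = ρ v * a) : ∃ c : k, a = c • 1 := by
  obtain ⟨c, hc'⟩ := h.theta_scalar ha
  refine ⟨(Nat.card U : k)⁻¹ * c, ?_⟩
  have h1 : theta ρ a = (Nat.card U : k) • a := by
    rw [theta_apply, Finset.sum_congr rfl fun v _ => (show ρ v * (a * ρ v⁻¹) = a by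
      rw [← mul_assoc, ← hc, mul_assoc, ← map_mul, mul_inv_cancel, map_one, mul_one]),
      Finset.sum_const, Finset.card_univ, Nat.card_eq_fintype_card, Nat.cast_smul_eq_nsmul]
  rw [← smul_smul, ← hc', h1, smul_smul, inv_mul_cancel₀ h.card, one_smul]

section Sec

variable [Fintype (U ⧸ Z)] (sec : U ⧸ Z → U)

/-- The images of a transversal are independent on each non-zero invariant subspace. -/
theorem coef_zero (h : Nd ρ Z) (hsec : ∀ x, (sec x : U ⧸ Z) = x) (c : U ⧸ Z → k)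
    {W : Submodule k M} (hW0 : W ≠ ⊥) (hW : ∀ v, ∀ w ∈ W, ρ v w ∈ W)
    (hz : ∀ w ∈ W, (∑ x, c x • ρ (sec x)) w = 0) : c = 0 := by
  classical
  funext y
  obtain ⟨w, hw, hw0⟩ := W.ne_bot_iff.1 hW0
  set a := ρ (sec y)⁻¹ * ∑ x, c x • ρ (sec x) with ha
  have h1 : theta ρ a w = 0 := by
    rw [theta_apply, LinearMap.sum_apply]
    refine Finset.sum_eq_zero fun v _ => ?_
    rw [Module.End.mul_apply, Module.End.mul_apply, ha, Module.End.mul_apply,
      hz _ (hW _ w hw), map_zero, map_zero]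
  have h2 : theta ρ a = ((Nat.card U : k) * c y) • 1 := by
    rw [ha, Finset.mul_sum, map_sum, Finset.sum_eq_single y (fun x _ hxy => ?_)
      (fun hy => absurd (Finset.mem_univ y) hy)]
    · rw [mul_smul_comm, ← map_mul, inv_mul_cancel, map_smul, h.theta_mem (one_mem Z), map_one,
        smul_smul, mul_comm]
    · rw [mul_smul_comm, ← map_mul, map_smul, h.theta_not_mem (fun hm => hxy ?_), smul_zero]
      rw [← hsec x, ← hsec y]
      exact (QuotientGroup.eq.2 hm).symm
  rw [h2, LinearMap.smul_apply, Module.End.one_apply] at h1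
  exact (mul_eq_zero.1 ((smul_eq_zero.1 h1).resolve_right hw0)).resolve_left h.card

theorem exists_coef (h : Nd ρ Z) (hsec : ∀ x, (sec x : U ⧸ Z) = x) {a : Module.End k M}
    (ha : a ∈ alg ρ) : ∃ c : U ⧸ Z → k, a = ∑ x, c x • ρ (sec x) := by
  have hle : alg ρ ≤ Submodule.span k (Set.range fun x => ρ (sec x)) := by
    refine Submodule.span_le.2 ?_
    rintro _ ⟨u, rfl⟩
    obtain ⟨c, hc⟩ := h.scal _ (QuotientGroup.eq.1 (hsec (u : U ⧸ Z)))
    have h1 : ρ u = c • ρ (sec (u : U ⧸ Z)) := by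
      conv_lhs => rw [← mul_inv_cancel_left (sec (u : U ⧸ Z)) u, map_mul, hc, mul_smul_comm, mul_one]
    show ρ u ∈ _
    rw [h1]
    exact Submodule.smul_mem _ c (Submodule.subset_span ⟨_, rfl⟩)
  obtain ⟨c, hc⟩ := Submodule.mem_span_range_iff_exists_fun k |>.1 (hle ha)
  exact ⟨c, hc.symm⟩

end Sec

theorem eq_zero_of_apply (h : Nd ρ Z) {a : Module.End k M} (ha : a ∈ alg ρ) {W : Submodule k M}
    (hW0 : W ≠ ⊥) (hW : ∀ v, ∀ w ∈ W, ρ v w ∈ W) (hz : ∀ w ∈ W, a w = 0) : a = 0 := by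
  haveI := Fintype.ofFinite (U ⧸ Z)
  obtain ⟨c, rfl⟩ := h.exists_coef Quotient.out (fun x => QuotientGroup.out_eq' x) ha
  rw [h.coef_zero Quotient.out (fun x => QuotientGroup.out_eq' x) c hW0 hW hz]
  simp

/-- The span has trivial intersection with the annihilator of a vector orbit. -/
theorem exists_theta_ne_zero (h : Nd ρ Z) [Nontrivial M] {a : Module.End k M} (ha : a ∈ alg ρ)
    (ha0 : a ≠ 0) : ∃ u : U, theta ρ (ρ u * a) ≠ 0 := by
  classical
  haveI := Fintype.ofFinite (U ⧸ Z)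
  obtain ⟨c, hca⟩ := h.exists_coef Quotient.out (fun x => QuotientGroup.out_eq' x) ha
  obtain ⟨y, hy⟩ : ∃ y, c y ≠ 0 := by
    by_contra hno
    push Not at hno
    exact ha0 (by rw [hca]; simp [hno])
  refine ⟨(Quotient.out y)⁻¹, ?_⟩
  rw [hca, Finset.mul_sum, map_sum, Finset.sum_eq_single y (fun x _ hxy => ?_)
    (fun hy' => absurd (Finset.mem_univ y) hy')]
  · rw [mul_smul_comm, ← map_mul, inv_mul_cancel, map_smul, h.theta_mem (one_mem Z), map_one,
      smul_smul]
    exact smul_ne_zero (mul_ne_zero hy h.card) one_ne_zero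
  · rw [mul_smul_comm, ← map_mul, map_smul, h.theta_not_mem (fun hm => hxy ?_), smul_zero]
    rw [← QuotientGroup.out_eq' x, ← QuotientGroup.out_eq' y]
    exact (QuotientGroup.eq.2 hm).symm

theorem theta_conj (ρ : U →* Module.End k M) (u : U) (a : Module.End k M) :
    theta ρ (ρ u * a) = theta ρ (a * ρ u) := by
  rw [theta_apply, theta_apply, ← Equiv.sum_comp (Equiv.mulRight u) fun v => ρ v * (a * ρ u * ρ v⁻¹)]
  refine Finset.sum_congr rfl fun v _ => ?_
  show ρ v * (ρ u * a * ρ v⁻¹) = ρ (v * u) * (a * ρ u * ρ (v * u)⁻¹)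
  rw [mul_inv_rev, map_mul ρ v u, map_mul ρ u⁻¹, mul_assoc (ρ u) a, mul_assoc (ρ v) (ρ u),
    mul_assoc a (ρ u), ← mul_assoc (ρ u) (ρ u⁻¹), ← map_mul, mul_inv_cancel, map_one, one_mul]

/-- An automorphism without fixed points modulo `Z` is realised inside the span. -/
theorem exists_intertwiner [IsAlgClosed k] [Nontrivial M] (h : Nd ρ Z) (φ : MulAut U) {N : ℕ}
    (hN0 : 0 < N) (hfix : ∀ z ∈ Z, ρ (φ z) = ρ z) (hfree : ∀ u, u⁻¹ * φ u ∈ Z → u ∈ Z)
    (hN : ∀ u, ρ ((φ ^ N) u) = ρ u) :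
    ∃ X ∈ alg ρ, X ^ N = 1 ∧ (∀ v, X * ρ (φ v) = ρ v * X) ∧
      ∀ (E : Module.End k M) (e : MulAut U), (∀ v, E * ρ v = ρ (e v) * E) → e * φ = φ * e →
        E * X = X * E := by
  obtain ⟨T, hT⟩ : ∃ T, T = ∑ u : U, ρ (u⁻¹ * φ u) := ⟨_, rfl⟩
  have hTm : T ∈ alg ρ := hT ▸ sum_mem fun u _ => rho_mem_alg ρ _
  have hTc : ∀ v, T * ρ (φ v) = ρ v * T := by
    intro v
    rw [hT, Finset.sum_mul, Finset.mul_sum, ← Equiv.sum_comp (Equiv.mulRight v)
      fun u => ρ v * ρ (u⁻¹ * φ u)]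
    refine Finset.sum_congr rfl fun u _ => ?_
    show ρ (u⁻¹ * φ u) * ρ (φ v) = ρ v * ρ ((u * v)⁻¹ * φ (u * v))
    rw [← map_mul, ← map_mul, map_mul φ]
    congr 1
    group
  classical
  haveI : Fintype Z := Fintype.ofFinite Z
  have hθ : theta ρ T = ((Nat.card U : k) * Nat.card Z) • 1 := by
    rw [hT, map_sum, ← Finset.sum_filter_add_sum_filter_not Finset.univ (fun u => u ∈ Z),
      Finset.sum_eq_zero (s := Finset.filter (fun u => ¬ u ∈ Z) _) (fun u hu =>
        h.theta_not_mem fun hm => (Finset.mem_filter.1 hu).2 (hfree u hm)), add_zero,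
      Finset.sum_congr rfl (fun u hu => show theta ρ (ρ (u⁻¹ * φ u)) = (Nat.card U : k) • 1 by
        have hu' := (Finset.mem_filter.1 hu).2
        have h1 : ρ (u⁻¹ * φ u) = 1 := by
          rw [map_mul, hfix u hu', ← map_mul, inv_mul_cancel, map_one]
        rw [h1, ← map_one ρ, h.theta_mem (one_mem Z)]),
      Finset.sum_const, ← Nat.cast_smul_eq_nsmul k, smul_smul, mul_comm]
    congr 3
    rw [Nat.card_eq_fintype_card, Fintype.card_subtype]
  have hZne : (Nat.card Z : k) ≠ 0 := by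
    intro h0
    obtain ⟨c, hc⟩ := Subgroup.card_subgroup_dvd_card Z
    exact h.card (by rw [hc, Nat.cast_mul, h0, zero_mul])
  have hTne : T ≠ 0 := by
    intro h0
    rw [h0, map_zero] at hθ
    exact smul_ne_zero (mul_ne_zero h.card hZne) one_ne_zero hθ.symm
  have hTp : ∀ n v, T ^ n * ρ ((φ ^ n) v) = ρ v * T ^ n := by
    intro n
    induction n with
    | zero => intro v; simp
    | succ n ih =>
      intro v
      rw [pow_succ, pow_succ' φ, MulAut.mul_apply, mul_assoc, hTc, ← mul_assoc, ih, mul_assoc]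
  obtain ⟨c, hc⟩ := h.central_scalar (pow_mem_alg ρ hTm N)
    (fun v => by rw [← hN v, hTp, hN v])
  have hc0 : c ≠ 0 := by
    intro h0
    rw [h0, zero_smul] at hc
    have hker : LinearMap.ker T ≠ ⊥ := by
      intro hb
      have hinj := LinearMap.ker_eq_bot.1 hb
      obtain ⟨m, hm⟩ := exists_ne (0 : M)
      refine hm ?_
      have h1 : ∀ n, Function.Injective ⇑(T ^ n) := by
        intro n
        induction n with
        | zero => exact fun a b hab => hab
        | succ n ih => rw [pow_succ]; exact ih.comp hinj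
      exact h1 N (by rw [hc]; simp)
    refine hTne (h.eq_zero_of_apply hTm hker (fun v w hw => ?_) fun w hw => hw)
    rw [LinearMap.mem_ker] at hw ⊢
    obtain ⟨v', rfl⟩ := φ.surjective v
    rw [← Module.End.mul_apply, hTc, Module.End.mul_apply, hw, map_zero]
  obtain ⟨d, hd⟩ := IsAlgClosed.exists_pow_nat_eq c⁻¹ hN0
  refine ⟨d • T, Submodule.smul_mem _ d hTm, ?_, fun v => ?_, fun E e hE he => ?_⟩
  · rw [smul_pow, hd, hc, smul_smul, inv_mul_cancel₀ hc0, one_smul]
  · rw [smul_mul_assoc, hTc, mul_smul_comm]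
  · rw [mul_smul_comm, smul_mul_assoc]
    congr 1
    rw [hT, Finset.mul_sum, Finset.sum_mul,
      ← Equiv.sum_comp e.toEquiv fun u => ρ (u⁻¹ * φ u) * E]
    refine Finset.sum_congr rfl fun u _ => ?_
    show E * ρ (u⁻¹ * φ u) = ρ ((e u)⁻¹ * φ (e u)) * E
    rw [hE, map_mul e, map_inv e]
    congr 3
    exact DFunLike.congr_fun he u

/-- The centraliser of an intertwiner of a free automorphism has one dimension for each orbit. -/
theorem card_eq_orbits [Nontrivial M] (h : Nd ρ Z) (htop : alg ρ = ⊤) (ψ : MulAut U) {N : ℕ}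
    (hN0 : 0 < N) (hfix : ∀ z ∈ Z, ρ (ψ z) = ρ z) (hZ : ∀ u, ψ u ∈ Z ↔ u ∈ Z)
    (hfree : ∀ i, 0 < i → i < N → ∀ u, u⁻¹ * (ψ ^ i) u ∈ Z → u ∈ Z)
    (hN : ∀ u, ρ ((ψ ^ N) u) = ρ u) {X : Module.End k M} (hX : X ^ N = 1)
    (hXc : ∀ v, X * ρ (ψ v) = ρ v * X) :
    Module.finrank k (Module.End k M) = Nat.card (U ⧸ Z) ∧
      ∃ o : ℕ, Module.finrank k (cent X) = o + 1 ∧ Nat.card (U ⧸ Z) = N * o + 1 := by
  classical
  haveI := h.normal
  haveI := Fintype.ofFinite (U ⧸ Z)
  have hpowZ : ∀ n, ∀ z ∈ Z, (ψ ^ n) z ∈ Z ∧ ρ ((ψ ^ n) z) = ρ z := by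
    intro n
    induction n with
    | zero => exact fun z hz => ⟨hz, rfl⟩
    | succ n ih =>
      intro z hz
      rw [pow_succ', MulAut.mul_apply]
      exact ⟨(hZ _).2 (ih z hz).1, by rw [hfix _ (ih z hz).1, (ih z hz).2]⟩
  have hperiod : ∀ n u, ρ ((ψ ^ (n + N)) u) = ρ ((ψ ^ n) u) := fun n u => by
    rw [add_comm, pow_add, MulAut.mul_apply, hN]
  have hmod : ∀ n u, ρ ((ψ ^ n) u) = ρ ((ψ ^ (n % N)) u) := fun n u => by
    conv_lhs => rw [← Nat.mod_add_div n N]
    induction n / N with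
    | zero => rw [mul_zero, add_zero]
    | succ q ih => rw [Nat.mul_succ, ← add_assoc, hperiod, ih]
  -- the permutation of the quotient
  have hmap : Z.map (ψ : U ≃* U).toMonoidHom = Z := by
    ext u
    refine ⟨fun ⟨z, hz, hzu⟩ => hzu ▸ (hZ z).2 hz, fun hu => ⟨ψ.symm u, (hZ _).1 ?_, ?_⟩⟩
    · rw [MulEquiv.apply_symm_apply]; exact hu
    · exact MulEquiv.apply_symm_apply ψ u
  obtain ⟨g, hg⟩ : ∃ g : Equiv.Perm (U ⧸ Z), ∀ u : U, g u = ((ψ u : U) : U ⧸ Z) :=
    ⟨(QuotientGroup.congr Z Z ψ hmap).toEquiv, fun u => rfl⟩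
  have hgn : ∀ n (u : U), (g ^ n) u = (((ψ ^ n) u : U) : U ⧸ Z) := by
    intro n
    induction n with
    | zero => intro u; rfl
    | succ n ih =>
      intro u
      rw [pow_succ', Equiv.Perm.mul_apply, ih, hg, pow_succ', MulAut.mul_apply]
  have hNmem : ∀ u, u⁻¹ * (ψ ^ N) u ∈ Z := by
    intro u
    by_contra hne
    obtain ⟨v, c, hc, hv⟩ := h.nd _ hne
    have h1 : ρ (u⁻¹ * (ψ ^ N) u) = 1 := by rw [map_mul, hN, ← map_mul, inv_mul_cancel, map_one]
    rw [map_mul, map_mul, h1, mul_one, ← map_mul, mul_inv_cancel, map_one] at hv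
    have h2 : (c - 1) • (1 : Module.End k M) = 0 := by rw [sub_smul, ← hv, one_smul, sub_self]
    exact hc (sub_eq_zero.1 ((smul_eq_zero.1 h2).resolve_right one_ne_zero))
  have hgN : g ^ N = 1 := Equiv.ext fun x => by
    obtain ⟨u, rfl⟩ := QuotientGroup.mk_surjective x
    rw [hgn, Equiv.Perm.one_apply]
    exact (QuotientGroup.eq.2 (hNmem u)).symm
  have hgfree : ∀ n x, (g ^ n) x = x → x ≠ 1 → N ∣ n := by
    intro n x hx hx1
    have h1 : (g ^ (n % N)) x = x := by
      conv_rhs => rw [← hx, ← Nat.mod_add_div n N, pow_add, pow_mul, hgN, one_pow, mul_one]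
    refine Nat.dvd_of_mod_eq_zero (Nat.eq_zero_of_not_pos fun hp => hx1 ?_)
    obtain ⟨u, rfl⟩ := QuotientGroup.mk_surjective x
    rw [hgn] at h1
    exact (QuotientGroup.eq_one_iff u).2 (hfree _ hp (Nat.mod_lt _ hN0) u (QuotientGroup.eq.1 h1.symm))
  have hg1 : ∀ n, (g ^ n) (1 : U ⧸ Z) = 1 := fun n => by
    rw [← QuotientGroup.mk_one, hgn, map_one]
  -- orbits
  let S : Setoid (U ⧸ Z) :=
    ⟨fun x y => ∃ n : ℕ, (g ^ n) x = y, fun x => ⟨0, rfl⟩,
      fun {x y} ⟨n, hn⟩ => ⟨(N - n % N), by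
        rw [← hn, ← Equiv.Perm.mul_apply, ← pow_add]
        have : (N - n % N) + n = N * (n / N + 1) := by
          have h1 := Nat.mod_add_div n N
          have h2 := Nat.mod_lt n hN0
          rw [Nat.mul_succ]
          omega
        rw [this, pow_mul, hgN, one_pow, Equiv.Perm.one_apply]⟩,
      fun {x y z} ⟨n, hn⟩ ⟨m, hm⟩ => ⟨m + n, by rw [pow_add, Equiv.Perm.mul_apply, hn, hm]⟩⟩
  have hS : ∀ x, ∃ n, (g ^ n) (Quotient.out (Quotient.mk S x)) = x := fun x =>
    Quotient.exact (Quotient.out_eq (Quotient.mk S x))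
  choose ix hix using hS
  obtain ⟨sec, hsecdef⟩ : ∃ sec : U ⧸ Z → U,
      sec = fun x => (ψ ^ ix x) (Quotient.out (Quotient.out (Quotient.mk S x))) := ⟨_, rfl⟩
  have hsec : ∀ x, (sec x : U ⧸ Z) = x := fun x => by
    rw [hsecdef]
    show (((ψ ^ ix x) _ : U) : U ⧸ Z) = x
    rw [← hgn, QuotientGroup.out_eq', hix]
  have heq : ∀ x, ρ (ψ (sec x)) = ρ (sec (g x)) := by
    intro x
    have hcl : Quotient.mk S (g x) = Quotient.mk S x :=
      (Quotient.sound ⟨1, by rw [pow_one]⟩ : Quotient.mk S x = Quotient.mk S (g x)).symm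
    rw [hsecdef]
    show ρ (ψ ((ψ ^ ix x) _)) = ρ ((ψ ^ ix (g x)) (Quotient.out (Quotient.out (Quotient.mk S (g x)))))
    have hy2 := hix (g x)
    rw [hcl] at hy2 ⊢
    have hy1 := hix x
    set y := Quotient.out (Quotient.mk S x) with hy
    set u := Quotient.out y with hu
    rw [← MulAut.mul_apply, ← pow_succ']
    rcases eq_or_ne y 1 with h1 | h1
    · have huZ : u ∈ Z := (QuotientGroup.eq_one_iff u).1 (by rw [hu, QuotientGroup.out_eq', h1])
      rw [(hpowZ _ u huZ).2, (hpowZ _ u huZ).2]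
    · have h2 : (g ^ (ix x + 1)) y = (g ^ ix (g x)) y := by
        rw [pow_succ', Equiv.Perm.mul_apply, hy1, hy2]
      rw [hmod (ix x + 1), hmod (ix (g x))]
      have h3 : ∀ a b, a ≤ b → (g ^ a) y = (g ^ b) y → a % N = b % N := by
        intro a b hab he
        obtain ⟨d, rfl⟩ := Nat.exists_eq_add_of_le hab
        rw [pow_add, Equiv.Perm.mul_apply] at he
        obtain ⟨q, rfl⟩ := hgfree d y ((g ^ a).injective he).symm h1
        rw [Nat.add_mul_mod_self_left]
      rcases le_total (ix x + 1) (ix (g x)) with hle | hle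
      · rw [h3 _ _ hle h2]
      · rw [h3 _ _ hle h2.symm]
  -- the coordinates
  obtain ⟨Φ, hΦ⟩ : ∃ Φ : (U ⧸ Z → k) →ₗ[k] Module.End k M, ∀ c, Φ c = ∑ x, c x • ρ (sec x) :=
    ⟨Fintype.linearCombination k (fun x => ρ (sec x)), fun c => rfl⟩
  have hbij : Function.Bijective Φ := by
    refine ⟨fun c c' hcc => ?_, fun a => ?_⟩
    · refine sub_eq_zero.1 (h.coef_zero sec hsec (c - c') (W := ⊤) top_ne_bot
        (fun _ _ _ => trivial) fun w _ => ?_)
      rw [← hΦ, map_sub, hcc, sub_self, LinearMap.zero_apply]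
    · obtain ⟨c, hc⟩ := h.exists_coef sec hsec (a := a) (htop ▸ Submodule.mem_top)
      exact ⟨c, by rw [hΦ, hc]⟩
  refine ⟨?_, ?_⟩
  · rw [← (LinearEquiv.ofBijective Φ hbij).finrank_eq, Module.finrank_fintype_fun_eq_card,
      Nat.card_eq_fintype_card]
  have hXinj : ∀ a b : Module.End k M, X * a = X * b → a = b := fun a b hab => by
    have h1 : X ^ (N - 1) * X = 1 := by rw [← pow_succ, Nat.sub_add_cancel hN0, hX]
    rw [← one_mul a, ← h1, mul_assoc, hab, ← mul_assoc, h1, one_mul]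
  have hinv : ∀ c, Φ c ∈ cent X ↔ ∀ x, c (g x) = c x := by
    intro c
    rw [mem_cent]
    have h1 : Φ c * X = X * Φ (c ∘ g.symm) := by
      rw [hΦ, hΦ, Finset.sum_mul, Finset.mul_sum,
        ← Equiv.sum_comp g fun x => X * ((c ∘ g.symm) x • ρ (sec x))]
      refine Finset.sum_congr rfl fun x _ => ?_
      rw [Function.comp_apply, Equiv.symm_apply_apply, smul_mul_assoc, mul_smul_comm, ← heq, hXc]
    rw [h1]
    constructor
    · intro hh x
      have h2 := congrFun (hbij.1 (hXinj _ _ hh)) (g x)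
      rw [Function.comp_apply, Equiv.symm_apply_apply] at h2
      exact h2
    · intro hh
      congr 1
      congr 1
      funext x
      rw [Function.comp_apply]
      conv_lhs => rw [← g.apply_symm_apply x]
      exact hh _
  have hinvn : ∀ (c : U ⧸ Z → k), (∀ x, c (g x) = c x) → ∀ n x, c ((g ^ n) x) = c x := by
    intro c hc n
    induction n with
    | zero => intro x; rfl
    | succ n ih => intro x; rw [pow_succ', Equiv.Perm.mul_apply, hc, ih]
  haveI := Fintype.ofFinite (Quotient S)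
  obtain ⟨Ψ, hΨ⟩ : ∃ Ψ : (Quotient S → k) →ₗ[k] Module.End k M,
      ∀ f, Ψ f = Φ (fun x => f (Quotient.mk S x)) :=
    ⟨Φ ∘ₗ LinearMap.funLeft k k (Quotient.mk S), fun f => rfl⟩
  have hΨinj : Function.Injective Ψ := by
    intro f f' hff
    rw [hΨ, hΨ] at hff
    funext o
    induction o using Quotient.ind with
    | _ x => exact congrFun (hbij.1 hff) x
  have hrange : LinearMap.range Ψ = cent X := by
    ext a
    constructor
    · rintro ⟨f, rfl⟩
      rw [hΨ]
      exact (hinv _).2 fun x => congrArg f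
        (Quotient.sound ⟨1, by rw [pow_one]⟩ : Quotient.mk S x = Quotient.mk S (g x)).symm
    · intro ha
      obtain ⟨c, rfl⟩ := hbij.2 a
      refine ⟨fun o => c (Quotient.out o), ?_⟩
      rw [hΨ]
      congr 1
      funext x
      have h1 := hix x
      conv_rhs => rw [← h1]
      exact (hinvn c ((hinv c).1 ha) _ _).symm
  have hfr : Module.finrank k (cent X) = Fintype.card (Quotient S) := by
    rw [← hrange, LinearMap.finrank_range_of_inj hΨinj, Module.finrank_fintype_fun_eq_card]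
  obtain ⟨o, ho⟩ := Nat.exists_eq_add_one.2
    (Fintype.card_pos_iff.2 ⟨Quotient.mk S (1 : U ⧸ Z)⟩ : 0 < Fintype.card (Quotient S))
  refine ⟨o, hfr.trans ho, ?_⟩
  have hfib : ∀ q : Quotient S, (Finset.univ.filter fun x => Quotient.mk S x = q).card =
      if q = Quotient.mk S 1 then 1 else N := by
    intro q
    induction q using Quotient.ind with
    | _ x =>
    split_ifs with hq
    · rw [Finset.card_eq_one]
      refine ⟨1, Finset.eq_singleton_iff_unique_mem.2 ⟨by simp [hq], fun y hy => ?_⟩⟩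
      obtain ⟨n, hn⟩ := Quotient.exact (((Finset.mem_filter.1 hy).2.trans hq).symm)
      rw [← hn, hg1]
    · have hx1 : x ≠ 1 := fun h => hq (by rw [h])
      rw [← Fintype.card_fin N, ← Finset.card_univ]
      refine (Finset.card_bij (s := (Finset.univ : Finset (Fin N))) (fun i _ => (g ^ (i : ℕ)) x) (fun i _ => ?_) (fun i _ j _ hij => ?_)
        fun y hy => ?_).symm
      · exact Finset.mem_filter.2 ⟨Finset.mem_univ _, (Quotient.sound ⟨(i : ℕ), rfl⟩ :
          Quotient.mk S x = Quotient.mk S ((g ^ (i : ℕ)) x)).symm⟩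
      · have key : ∀ i j : ℕ, i ≤ j → j < N → (g ^ i) x = (g ^ j) x → i = j := by
          intro i j hle hj he
          obtain ⟨d, rfl⟩ := Nat.exists_eq_add_of_le hle
          rw [pow_add, Equiv.Perm.mul_apply] at he
          have hd := Nat.eq_zero_of_dvd_of_lt (hgfree d x ((g ^ i).injective he).symm hx1)
            (lt_of_le_of_lt (Nat.le_add_left d i) hj)
          omega
        rcases le_total (i : ℕ) j with hle | hle
        · exact Fin.ext (key _ _ hle j.2 hij)
        · exact Fin.ext (key _ _ hle i.2 hij.symm).symm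
      · obtain ⟨n, hn⟩ := Quotient.exact (Finset.mem_filter.1 hy).2.symm
        refine ⟨⟨n % N, Nat.mod_lt _ hN0⟩, Finset.mem_univ _, ?_⟩
        show (g ^ (n % N)) x = y
        conv_rhs => rw [← hn, ← Nat.mod_add_div n N, pow_add, pow_mul, hgN, one_pow, mul_one]
  rw [Nat.card_eq_fintype_card, ← Finset.card_univ,
    Finset.card_eq_sum_card_fiberwise (f := Quotient.mk S) (t := Finset.univ)
      (fun x _ => Finset.mem_univ _),
    Finset.sum_congr rfl fun q _ => hfib q,
    ← Finset.sum_erase_add _ _ (Finset.mem_univ (Quotient.mk S (1 : U ⧸ Z))), if_pos rfl,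
    Finset.sum_congr rfl (fun q hq => if_neg (Finset.ne_of_mem_erase hq)), Finset.sum_const,
    Finset.card_erase_of_mem (Finset.mem_univ _), Finset.card_univ, ho, Nat.add_sub_cancel,
    smul_eq_mul, mul_comm o N]

end Nd

end Cfsg.Agent.Solv.FHeight
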