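import Cfsg.Agent.Lib.Solv.FHeight.Moved
import Cfsg.Agent.Lib.Perm.WeightIdem

/-!
Weights of an abelian group normalised by an operator of prime order coprime to it.
-/

set_option autoImplicit false
set_option linter.unusedSectionVars false
set_option linter.style.haveILetI false

namespace Cfsg.Agent.Solv.FHeight

open Module Cfsg.Agent.Perm.WeightIdem

variable {k : Type*} [Field k] {M : Type*} [AddCommGroup M] [Module k M] {B : Type*} [CommGroup B]
  [Fintype B]

/-- `S` of order `r` normalises the image of the abelian group `B`. -/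
structure Wts (f : B →* Module.End k M) (τ : MulAut B) (S : Module.End k M) (r : ℕ) : Prop where
  card : (Nat.card B : k) ≠ 0
  prime : r.Prime
  rk : (r : k) ≠ 0
  cop : r.Coprime (Nat.card B)
  pow : τ ^ r = 1
  Spow : S ^ r = 1
  comm : ∀ b, S * f b = f (τ b) * S

/-- A character is fixed by `τ`. -/
def FixedChar (τ : MulAut B) (χ : B →* kˣ) : Prop := ∀ b, χ (τ b) = χ b

namespace Wts

variable [IsAlgClosed k] {f : B →* Module.End k M} {τ : MulAut B} {S : Module.End k M} {r : ℕ}

theorem fcard (h : Wts f τ S r) : (Fintype.card B : k) ≠ 0 := by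
  rw [← Nat.card_eq_fintype_card]; exact h.card

theorem finite_chars (h : Wts f τ S r) : Finite (B →* kˣ) := finite_weights h.fcard

/-- Components determine vectors. -/
theorem ext_comp (h : Wts f τ S r) {x y : M} (hxy : ∀ χ : B →* kˣ, idem f χ x = idem f χ y) : x = y := by
  haveI := h.finite_chars
  haveI := Fintype.ofFinite (B →* kˣ)
  have h1 := sum_idem (K := k) f h.fcard
  rw [← Module.End.one_apply (R := k) x, ← Module.End.one_apply (R := k) y, ← h1,
    LinearMap.sum_apply, LinearMap.sum_apply]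
  exact Finset.sum_congr rfl fun χ _ => hxy χ

theorem idem_idem (h : Wts f τ S r) (χ : B →* kˣ) (x : M) :
    idem f χ (idem f χ x) = idem f χ x := DFunLike.congr_fun (idem_sq f h.fcard χ) x

theorem idem_ne (h : Wts f τ S r) {χ χ' : B →* kˣ} (hne : χ ≠ χ') (x : M) :
    idem f χ (idem f χ' x) = 0 := DFunLike.congr_fun (idem_orth f h.fcard hne) x

theorem apply_comp (χ : B →* kˣ) (b : B) (x : M) :
    f b (idem f χ x) = (χ b : k) • idem f χ x :=
  DFunLike.congr_fun (apply_mul_idem f χ b) x

theorem comp_apply' (χ : B →* kˣ) (b : B) (x : M) :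
    idem f χ (f b x) = (χ b : k) • idem f χ x :=
  DFunLike.congr_fun (idem_mul_apply f χ b) x

/-- A normalising operator moves components. -/
theorem intw_comp {E : Module.End k M} {ε : MulAut B} (hE : ∀ b, E * f b = f (ε b) * E)
    (χ : B →* kˣ) (x : M) :
    idem f χ (E x) = E (idem f (χ.comp ε.toMonoidHom) x) := by
  have h1 := conj_idem f (χ.comp ε.toMonoidHom) ε E hE
  rw [show (χ.comp ε.toMonoidHom).comp ε.symm.toMonoidHom = χ from
    MonoidHom.ext fun b => congrArg χ (ε.apply_symm_apply b)] at h1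
  exact (DFunLike.congr_fun h1 x).symm

theorem comm_pow (h : Wts f τ S r) : ∀ l b, S ^ l * f b = f ((τ ^ l) b) * S ^ l
  | 0, b => by simp
  | l + 1, b => by
    rw [pow_succ', mul_assoc, h.comm_pow l, ← mul_assoc, h.comm, mul_assoc, ← MulAut.mul_apply,
      ← pow_succ']

theorem comp_pow (h : Wts f τ S r) (l : ℕ) (χ : B →* kˣ) (x : M) :
    idem f χ ((S ^ l) x) = (S ^ l) (idem f (χ.comp (τ ^ l).toMonoidHom) x) :=
  intw_comp (h.comm_pow l) χ x

theorem free_orbit (h : Wts f τ S r) {χ : B →* kˣ} (hχ : ¬ FixedChar τ χ) {l : ℕ}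
    (hl : χ.comp (τ ^ l).toMonoidHom = χ) : r ∣ l := by
  by_contra hd
  obtain ⟨m, -, hm⟩ := Nat.exists_mul_mod_eq_one_of_coprime
    ((Nat.Prime.coprime_iff_not_dvd h.prime).2 hd).symm h.prime.one_lt
  refine hχ fun b => ?_
  have hit : ∀ n b, χ ((τ ^ (l * n)) b) = χ b := by
    intro n
    induction n with
    | zero => intro b; simp
    | succ n ih =>
      intro b
      rw [Nat.mul_succ, pow_add, MulAut.mul_apply, ih]
      exact DFunLike.congr_fun hl b
  have h1 := hit m b
  rwa [← Nat.mod_add_div (l * m) r, hm, pow_add, pow_mul, h.pow, one_pow, mul_one, pow_one] at h1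

theorem fixed_pow {χ : B →* kˣ} (hχ : FixedChar τ χ) (l : ℕ) :
    χ.comp (τ ^ l).toMonoidHom = χ := by
  induction l with
  | zero => rfl
  | succ l ih =>
    refine MonoidHom.ext fun b => ?_
    show χ ((τ ^ (l + 1)) b) = χ b
    rw [pow_succ, MulAut.mul_apply]
    exact (DFunLike.congr_fun ih (τ b)).trans (hχ b)

/-- Fixed components commute with `S`. -/
theorem comp_comm (h : Wts f τ S r) {χ : B →* kˣ} (hχ : FixedChar τ χ) (x : M) :
    idem f χ (S x) = S (idem f χ x) := by
  have h1 := h.comp_pow 1 χ x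
  rwa [fixed_pow hχ, pow_one] at h1

/-- On a moved component the orbit sum determines the vector. -/
theorem comp_avg (h : Wts f τ S r) {χ : B →* kˣ} (hχ : ¬ FixedChar τ χ) (x : M) :
    idem f χ (avg S r (idem f χ x)) = idem f χ x := by
  rw [avg, LinearMap.sum_apply, map_sum, Finset.sum_eq_single 0 (fun l hl hl0 => ?_)
    (fun h0 => absurd (Finset.mem_range.2 h.prime.pos) h0)]
  · rw [pow_zero, Module.End.one_apply, h.idem_idem]
  · rw [h.comp_pow, h.idem_ne, map_zero]
    exact fun he => hl0 (Nat.eq_zero_of_dvd_of_lt (h.free_orbit hχ he) (Finset.mem_range.1 hl))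

theorem comp_eq_zero (h : Wts f τ S r) (hfix : ∀ v, S v = v → v = 0) {χ : B →* kˣ}
    (hχ : ¬ FixedChar τ χ) (x : M) : idem f χ x = 0 := by
  have h1 := h.comp_avg hχ x
  rwa [hfix _ (apply_avg h.Spow _), map_zero, eq_comm] at h1

/-- An operator centralising the fixed vectors is trivial on moved components. -/
theorem moved_triv (h : Wts f τ S r) {E : Module.End k M} {ε : MulAut B}
    (hE : ∀ b, E * f b = f (ε b) * E) (hεc : ε * τ = τ * ε) (hES : E * S = S * E) {N : ℕ}
    (hN : ε ^ N = 1) (hNr : r.Coprime N) (htriv : ∀ v, S v = v → E v = v) {χ : B →* kˣ}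
    (hχ : ¬ FixedChar τ χ) (x : M) : E (idem f χ x) = idem f χ x := by
  obtain ⟨v, hv⟩ : ∃ v, v = idem f χ x := ⟨_, rfl⟩
  have h1 := congrArg (fun w : M => idem f χ w) (htriv _ (apply_avg h.Spow v))
  rw [hv, h.comp_avg hχ x, ← hv, intw_comp hE, avg, LinearMap.sum_apply, map_sum, map_sum] at h1
  rw [← hv]
  obtain ⟨l, hl, hlχ⟩ : ∃ l ∈ Finset.range r,
      (χ.comp ε.toMonoidHom).comp (τ ^ l).toMonoidHom = χ ∨ v = 0 := by
    by_contra hno
    push Not at hno
    have h0 : v = 0 := by
      rw [← h1]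
      refine Finset.sum_eq_zero fun l hl => ?_
      rw [h.comp_pow, hv, h.idem_ne (hno l hl).1, map_zero, map_zero]
    exact (hno 0 (Finset.mem_range.2 h.prime.pos)).2 h0
  rcases hlχ with hlχ | h0
  swap
  · rw [h0, map_zero]
  have hit : ∀ n, χ.comp (τ ^ (l * n) * ε ^ n).toMonoidHom = χ := by
    intro n
    induction n with
    | zero => simp; rfl
    | succ n ih =>
      refine MonoidHom.ext fun b => ?_
      have hc : τ ^ (l * (n + 1)) * ε ^ (n + 1) = ε * τ ^ l * (τ ^ (l * n) * ε ^ n) := by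
        have hcomm : Commute ε (τ ^ l) := (show Commute ε τ from hεc).pow_right l
        have hcomm' : Commute ε (τ ^ (l * n)) := (show Commute ε τ from hεc).pow_right _
        rw [hcomm.eq, mul_assoc, ← mul_assoc ε, hcomm'.eq, mul_assoc, ← pow_succ', ← mul_assoc,
          ← pow_add, Nat.mul_succ, add_comm]
      show χ ((τ ^ (l * (n + 1)) * ε ^ (n + 1)) b) = χ b
      rw [hc, MulAut.mul_apply]
      exact (DFunLike.congr_fun hlχ ((τ ^ (l * n) * ε ^ n) b)).trans (DFunLike.congr_fun ih b)
  have h2 := hit N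
  rw [hN, mul_one] at h2
  have hl0 : l = 0 := Nat.eq_zero_of_dvd_of_lt (hNr.dvd_of_dvd_mul_right (h.free_orbit hχ h2))
    (Finset.mem_range.1 hl)
  subst hl0
  rw [pow_zero] at hlχ
  have hχε : χ.comp ε.toMonoidHom = χ := hlχ
  rw [hχε, ← map_sum, ← map_sum, ← LinearMap.sum_apply] at h1
  rw [show (∑ l ∈ Finset.range r, S ^ l) = avg S r from rfl] at h1
  conv_rhs at h1 => rw [hv]
  rw [hv] at h1 ⊢
  rwa [h.comp_avg hχ x] at h1

/-- The orbit sum of a character. -/
noncomputable def gsum (τ : MulAut B) (r : ℕ) (χ : B →* kˣ) (b : B) : k :=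
  ∑ l ∈ Finset.range r, (χ ((τ ^ l) b) : k)

theorem comp_avg_apply (h : Wts f τ S r) (χ : B →* kˣ) (b : B) {w : M} (hw : S w = w) :
    idem f χ (avg S r (f b w)) = gsum τ r χ b • idem f χ w := by
  rw [avg, LinearMap.sum_apply, map_sum, gsum, Finset.sum_smul]
  refine Finset.sum_congr rfl fun l _ => ?_
  have hl : ∀ n, (S ^ n) w = w := by
    intro n
    induction n with
    | zero => rfl
    | succ n ih => rw [pow_succ, Module.End.mul_apply, hw, ih]
  rw [← Module.End.mul_apply (S ^ l), h.comm_pow, Module.End.mul_apply, hl, comp_apply']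

theorem gsum_orbit (h : Wts f τ S r) (χ : B →* kˣ) {j : ℕ} (b : B) :
    gsum τ r (χ.comp (τ ^ j).toMonoidHom) b = gsum τ r χ b := by
  induction j with
  | zero => rfl
  | succ j ih =>
    rw [← ih]
    simp only [gsum, MonoidHom.comp_apply, MulEquiv.coe_toMonoidHom, ← MulAut.mul_apply, ← pow_add]
    have h2 := Finset.sum_range_succ' (fun l => ((χ ((τ ^ (j + l)) b) : kˣ) : k)) r
    rw [Finset.sum_range_succ, pow_add τ j r, h.pow, mul_one, add_zero] at h2
    rw [add_right_cancel h2]
    exact Finset.sum_congr rfl fun l _ => by rw [show j + 1 + l = j + (l + 1) by omega]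

theorem char_indep (h : Wts f τ S r) [Fintype (B →* kˣ)] (κ : (B →* kˣ) → k)
    (hz : ∀ b, ∑ χ : B →* kˣ, κ χ * (χ b : k) = 0) : κ = 0 := by
  have hli : LinearIndependent k (fun χ : B →* kˣ => ((Units.coeHom k).comp χ : B → k)) :=
    (linearIndependent_monoidHom B k).comp (fun χ : B →* kˣ => (Units.coeHom k).comp χ)
      fun a b hab => MonoidHom.ext fun x => Units.ext (DFunLike.congr_fun hab x)
  funext χ
  refine Fintype.linearIndependent_iff.1 hli κ (funext fun b => ?_) χ
  simpa [Finset.sum_apply] using hz b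

/-- A combination of two orbit sums supported in a proper subgroup containing the fixed points
vanishes. -/
theorem translation_key (h : Wts f τ S r) {H : Subgroup B} (hH : H ≠ ⊤)
    (hHτ : ∀ b ∈ H, τ b ∈ H) (hHfix : ∀ b, τ b = b → b ∈ H) (χ χ' : B →* kˣ) (c d : k)
    (hboth : FixedChar τ χ' ↔ FixedChar τ χ)
    (hsupp : ∀ b, b ∉ H → c * gsum τ r χ' b = d * gsum τ r χ b) :
    c = d := by
  classical
  haveI := h.finite_chars
  haveI := Fintype.ofFinite (B →* kˣ)
  haveI := enough (K := k) h.fcard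
  let orb : (B →* kˣ) → ℕ → (B →* kˣ) := fun ψ l => ψ.comp (τ ^ l).toMonoidHom
  let cnt : (B →* kˣ) → (B →* kˣ) → k := fun ψ μ =>
    ∑ l ∈ Finset.range r, if orb ψ l = μ then 1 else 0
  let κ : (B →* kˣ) → k := fun μ => c * cnt χ' μ - d * cnt χ μ
  have hgs : ∀ ψ b, gsum τ r ψ b = ∑ μ : B →* kˣ, cnt ψ μ * (μ b : k) := fun ψ b => by
    simp only [cnt, Finset.sum_mul]
    rw [Finset.sum_comm, gsum]
    refine Finset.sum_congr rfl fun l _ => ?_
    simp only [ite_mul, one_mul, zero_mul]
    rw [Finset.sum_ite_eq, if_pos (Finset.mem_univ _)]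
    rfl
  have hF : ∀ b, ∑ μ : B →* kˣ, κ μ * (μ b : k) = c * gsum τ r χ' b - d * gsum τ r χ b := fun b => by
    rw [hgs, hgs, Finset.mul_sum, Finset.mul_sum, ← Finset.sum_sub_distrib]
    exact Finset.sum_congr rfl fun μ _ => by simp only [κ]; ring
  -- the annihilator of `H`
  let A : Subgroup (B →* kˣ) :=
    { carrier := {a | ∀ b ∈ H, a b = 1}
      one_mem' := fun b _ => rfl
      mul_mem' := fun {a a'} ha ha' b hb => by
        rw [MonoidHom.mul_apply, ha b hb, ha' b hb, one_mul]
      inv_mem' := fun {a} ha b hb => by rw [MonoidHom.inv_apply, ha b hb, inv_one] }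
  have hinv : ∀ a ∈ A, ∀ μ, κ (μ * a) = κ μ := by
    intro a ha
    have h1 : (fun μ => κ (μ * a⁻¹) - κ μ) = 0 := by
      refine h.char_indep _ fun b => ?_
      simp only [sub_mul, Finset.sum_sub_distrib]
      rw [hF, ← Equiv.sum_comp (Equiv.mulRight a) fun μ => κ (μ * a⁻¹) * (μ b : k)]
      simp only [Equiv.coe_mulRight, mul_inv_cancel_right, MonoidHom.mul_apply, Units.val_mul]
      rw [Finset.sum_congr rfl fun μ _ => (mul_assoc (κ μ) (μ b : k) (a b : k)).symm,
        ← Finset.sum_mul, hF]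
      by_cases hb : b ∈ H
      · rw [ha b hb, Units.val_one, mul_one, sub_self]
      · rw [hsupp b hb, sub_self, zero_mul, sub_self]
    intro μ
    have h2 := congrFun h1 (μ * a)
    simp only [Pi.zero_apply] at h2
    exact (sub_eq_zero.1 h2).symm.trans (congrArg κ (mul_inv_cancel_right μ a))
  obtain ⟨a, ha, ha1⟩ : ∃ a ∈ A, a ≠ 1 := by
    obtain ⟨b₀, hb₀⟩ : ∃ b, b ∉ H := by
      by_contra hno
      push Not at hno
      exact hH (eq_top_iff.2 fun b _ => hno b)
    haveI : HasEnoughRootsOfUnity k (Monoid.exponent (B ⧸ H)) :=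
      haveI : NeZero (Monoid.exponent (B ⧸ H) : k) := ⟨fun h0 => by
        obtain ⟨q, hq⟩ : Monoid.exponent (B ⧸ H) ∣ Nat.card B :=
          Monoid.exponent_dvd_of_forall_pow_eq_one fun x => by
            obtain ⟨b, rfl⟩ := QuotientGroup.mk'_surjective H x
            rw [← map_pow, pow_card_eq_one', map_one]
        exact h.card (by rw [hq, Nat.cast_mul, h0, zero_mul])⟩
      inferInstance
    obtain ⟨φ, hφ⟩ := CommGroup.exists_apply_ne_one_of_hasEnoughRootsOfUnity (B ⧸ H) k
      (a := (b₀ : B ⧸ H)) (fun h1 => hb₀ ((QuotientGroup.eq_one_iff b₀).1 h1))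
    refine ⟨φ.comp (QuotientGroup.mk' H), fun b hb => ?_, fun h1 => hφ (DFunLike.congr_fun h1 b₀)⟩
    show φ (b : B ⧸ H) = 1
    rw [(QuotientGroup.eq_one_iff b).2 hb, map_one]
  have horb : ∀ l, orb a l ∈ A := fun l b hb => by
    refine ha _ ?_
    clear hinv
    induction l with
    | zero => exact hb
    | succ l ih => show (τ ^ (l + 1)) b ∈ H; rw [pow_succ', MulAut.mul_apply]; exact hHτ _ ih
  have hanf : ¬ FixedChar τ a := by
    intro hfx
    refine ha1 (MonoidHom.ext fun b => ?_)
    obtain ⟨P, hP⟩ : ∃ P, P = ∏ l ∈ Finset.range r, (τ ^ l) b := ⟨_, rfl⟩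
    have hPfix : τ P = P := by
      have h2 := Finset.prod_range_succ' (fun l => (τ ^ l) b) r
      rw [Finset.prod_range_succ, h.pow, pow_zero] at h2
      rw [hP, map_prod]
      refine Eq.trans (Finset.prod_congr rfl fun l _ => ?_) (mul_right_cancel h2).symm
      rw [pow_succ', MulAut.mul_apply]
    have h3 := ha P (hHfix P hPfix)
    rw [hP, map_prod, Finset.prod_congr rfl (g := fun _ => a b) (fun l _ =>
      (show a ((τ ^ l) b) = a b from DFunLike.congr_fun (fixed_pow hfx l) b)), Finset.prod_const, Finset.card_range] at h3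
    have h4 : a b ^ Nat.card B = 1 := by rw [← map_pow, pow_card_eq_one', map_one]
    have h5 := pow_gcd_eq_one.2 ⟨h3, h4⟩
    rw [h.cop, pow_one] at h5
    exact h5
  have hdist : ∀ l l', l < r → l' < r → orb a l = orb a l' → l = l' := by
    have key : ∀ l l', l ≤ l' → l' < r → orb a l = orb a l' → l = l' := by
      intro l l' hle hl' he
      obtain ⟨d', rfl⟩ := Nat.exists_eq_add_of_le hle
      have h1 : a.comp (τ ^ d').toMonoidHom = a := by
        refine MonoidHom.ext fun b => ?_
        have h2 := DFunLike.congr_fun he ((τ ^ l).symm b)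
        simp only [orb, MonoidHom.comp_apply, MulEquiv.coe_toMonoidHom,
          MulEquiv.apply_symm_apply] at h2
        rw [add_comm, pow_add, MulAut.mul_apply, MulEquiv.apply_symm_apply] at h2
        exact h2.symm
      have := Nat.eq_zero_of_dvd_of_lt (h.free_orbit hanf h1)
        (lt_of_le_of_lt (Nat.le_add_left d' l) hl')
      omega
    intro l l' hl hl' he
    rcases le_total l l' with hle | hle
    · exact key l l' hle hl' he
    · exact (key l' l hle hl he.symm).symm
  have hAcard : r + 1 ≤ Nat.card A := by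
    have hinj : Function.Injective (fun o : Option (Fin r) =>
        (⟨o.elim 1 fun l => orb a l, by cases o; exacts [one_mem _, horb _]⟩ : A)) := by
      intro o o' he
      have he' := congrArg Subtype.val he
      have hne : ∀ l : Fin r, orb a l ≠ 1 := fun l h1 => ha1 (MonoidHom.ext fun b => by
        have h2 := DFunLike.congr_fun h1 ((τ ^ (l : ℕ)).symm b)
        simpa [orb] using h2)
      rcases o with _ | l <;> rcases o' with _ | l'
      · rfl
      · exact absurd he'.symm (hne l')
      · exact absurd he' (hne l)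
      · exact congrArg some (Fin.ext (hdist _ _ l.2 l'.2 he'))
    simpa using Nat.card_le_card_of_injective _ hinj
  -- the support
  let T : Finset (B →* kˣ) := Finset.univ.filter fun μ => κ μ ≠ 0
  have hTcoset : ∀ μ ∈ T, ∀ b : A, μ * b ∈ T := fun μ hμ b =>
    Finset.mem_filter.2 ⟨Finset.mem_univ _, by rw [hinv b b.2]; exact (Finset.mem_filter.1 hμ).2⟩
  have hTsub : ∀ μ ∈ T, μ ∈ (Finset.range r).image (orb χ') ∪ (Finset.range r).image (orb χ) := by
    intro μ hμ
    by_contra hno
    simp only [Finset.mem_union, Finset.mem_image, not_or, not_exists, not_and] at hno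
    refine (Finset.mem_filter.1 hμ).2 ?_
    simp only [κ, cnt]
    rw [Finset.sum_eq_zero fun l hl => if_neg (hno.1 l hl),
      Finset.sum_eq_zero fun l hl => if_neg (hno.2 l hl)]
    ring
  have hTcard : T.card ≤ 2 * r := by
    refine (Finset.card_le_card hTsub).trans ((Finset.card_union_le _ _).trans ?_)
    have h1 := Finset.card_image_le (s := Finset.range r) (f := orb χ')
    have h2 := Finset.card_image_le (s := Finset.range r) (f := orb χ)
    rw [Finset.card_range] at h1 h2
    omega
  have hκτ : ∀ μ, κ (μ.comp τ.toMonoidHom) = κ μ := by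
    intro μ
    have hstep : ∀ φ : B →* kˣ, cnt φ (μ.comp τ.toMonoidHom) = cnt φ μ := by
      intro φ
      have hiff : ∀ l, orb φ (l + 1) = μ.comp τ.toMonoidHom ↔ orb φ l = μ := fun l => by
        constructor
        · intro he
          refine MonoidHom.ext fun b => ?_
          have h2 := DFunLike.congr_fun he (τ.symm b)
          simp only [orb, MonoidHom.comp_apply, MulEquiv.coe_toMonoidHom] at h2
          rw [pow_succ, MulAut.mul_apply, MulEquiv.apply_symm_apply] at h2
          exact h2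
        · intro he
          refine MonoidHom.ext fun b => ?_
          show φ ((τ ^ (l + 1)) b) = μ (τ b)
          rw [pow_succ, MulAut.mul_apply, ← he]
          rfl
      have h2 := Finset.sum_range_succ'
        (fun l => if orb φ l = μ.comp τ.toMonoidHom then (1 : k) else 0) r
      rw [Finset.sum_range_succ, show orb φ r = orb φ 0 by simp only [orb, h.pow, pow_zero]] at h2
      show ∑ l ∈ Finset.range r, _ = ∑ l ∈ Finset.range r, _
      rw [add_right_cancel h2]
      exact Finset.sum_congr rfl fun l _ => if_congr (hiff l) rfl rfl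
    show c * cnt χ' _ - d * cnt χ _ = c * cnt χ' _ - d * cnt χ _
    rw [hstep, hstep]
  have hκ0 : ∀ μ, κ μ = 0 := by
    by_contra hne
    push Not at hne
    obtain ⟨μ, hμ⟩ := hne
    have hμT : μ ∈ T := Finset.mem_filter.2 ⟨Finset.mem_univ _, hμ⟩
    haveI : Fintype A := Fintype.ofFinite A
    have hcoset : ∀ ν : B →* kˣ, ν ∈ T →
        (Finset.univ.image fun b : A => ν * (b : B →* kˣ)) ⊆ T ∧
          (Finset.univ.image fun b : A => ν * (b : B →* kˣ)).card = Nat.card A := fun ν hν =>
      ⟨fun x hx => by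
        obtain ⟨b, -, rfl⟩ := Finset.mem_image.1 hx
        exact hTcoset ν hν b,
      by rw [Finset.card_image_of_injective _ fun b b' hb => Subtype.ext (mul_left_cancel hb),
        Finset.card_univ, Nat.card_eq_fintype_card]⟩
    have hμτT : μ.comp τ.toMonoidHom ∈ T :=
      Finset.mem_filter.2 ⟨Finset.mem_univ _, by rw [hκτ]; exact hμ⟩
    obtain ⟨a₀, ha₀⟩ : ∃ a₀ : A, μ.comp τ.toMonoidHom = μ * (a₀ : B →* kˣ) := by
      by_contra hno
      push Not at hno
      have hdisj : Disjoint (Finset.univ.image fun b : A => μ * (b : B →* kˣ))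
          (Finset.univ.image fun b : A => μ.comp τ.toMonoidHom * (b : B →* kˣ)) := by
        rw [Finset.disjoint_left]
        intro x hx hx'
        obtain ⟨b, -, rfl⟩ := Finset.mem_image.1 hx
        obtain ⟨b', -, hb'⟩ := Finset.mem_image.1 hx'
        refine hno (b * b'⁻¹) ?_
        rw [Subgroup.coe_mul, Subgroup.coe_inv, ← mul_assoc, ← hb']
        exact (mul_inv_cancel_right (μ.comp τ.toMonoidHom) (b' : B →* kˣ)).symm
      have h1 := (Finset.card_le_card
        (Finset.union_subset (hcoset μ hμT).1 (hcoset _ hμτT).1)).trans hTcard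
      rw [Finset.card_union_of_disjoint hdisj, (hcoset μ hμT).2, (hcoset _ hμτT).2] at h1
      omega
    -- the coset has a fixed point
    let δ : A → A := fun x => ⟨(x : B →* kˣ).comp τ.toMonoidHom * (x : B →* kˣ)⁻¹,
      mul_mem (fun b hb => x.2 _ (hHτ b hb)) (inv_mem x.2)⟩
    have hA1 : ∀ x ∈ A, FixedChar τ x → x = 1 := by
      intro x hx hfx
      refine MonoidHom.ext fun b => ?_
      obtain ⟨P, hP⟩ : ∃ P, P = ∏ l ∈ Finset.range r, (τ ^ l) b := ⟨_, rfl⟩
      have hPfix : τ P = P := by
        have h2 := Finset.prod_range_succ' (fun l => (τ ^ l) b) r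
        rw [Finset.prod_range_succ, h.pow, pow_zero] at h2
        rw [hP, map_prod]
        refine Eq.trans (Finset.prod_congr rfl fun l _ => ?_) (mul_right_cancel h2).symm
        rw [pow_succ', MulAut.mul_apply]
      have h3 := hx P (hHfix P hPfix)
      rw [hP, map_prod, Finset.prod_congr rfl (g := fun _ => x b) (fun l _ =>
        (show x ((τ ^ l) b) = x b from DFunLike.congr_fun (fixed_pow hfx l) b)), Finset.prod_const, Finset.card_range] at h3
      have h4 : x b ^ Nat.card B = 1 := by rw [← map_pow, pow_card_eq_one', map_one]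
      have h5 := pow_gcd_eq_one.2 ⟨h3, h4⟩
      rw [h.cop, pow_one] at h5
      exact h5
    have hδ : Function.Injective δ := by
      intro x y hxy
      have he : (x : B →* kˣ).comp τ.toMonoidHom * (x : B →* kˣ)⁻¹ =
          (y : B →* kˣ).comp τ.toMonoidHom * (y : B →* kˣ)⁻¹ := congrArg Subtype.val hxy
      refine Subtype.ext (mul_inv_eq_one.1 (hA1 _ (mul_mem x.2 (inv_mem y.2)) fun b => ?_))
      have h1 := DFunLike.congr_fun he b
      simp only [MonoidHom.mul_apply, MonoidHom.inv_apply, MonoidHom.comp_apply,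
        MulEquiv.coe_toMonoidHom] at h1 ⊢
      rw [← mul_inv_eq_one, mul_inv_rev, inv_inv]
      calc (x : B →* kˣ) (τ b) * ((y : B →* kˣ) (τ b))⁻¹ *
            ((y : B →* kˣ) b * ((x : B →* kˣ) b)⁻¹)
          = ((x : B →* kˣ) (τ b) * ((x : B →* kˣ) b)⁻¹) *
            ((y : B →* kˣ) (τ b) * ((y : B →* kˣ) b)⁻¹)⁻¹ := by
            rw [mul_inv_rev, inv_inv, mul_mul_mul_comm, mul_mul_mul_comm _ ((x : B →* kˣ) b)⁻¹,
              mul_comm ((y : B →* kˣ) (τ b))⁻¹]
        _ = 1 := by rw [h1, mul_inv_cancel]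
    obtain ⟨x, hx⟩ := Finite.surjective_of_injective hδ a₀⁻¹
    have hψfix : FixedChar τ (μ * (x : B →* kˣ)) := fun b => by
      have h1 := DFunLike.congr_fun (congrArg Subtype.val hx) b
      have h2 := DFunLike.congr_fun ha₀ b
      simp only [δ, MonoidHom.mul_apply, MonoidHom.inv_apply, MonoidHom.comp_apply,
        MulEquiv.coe_toMonoidHom, InvMemClass.coe_inv] at h1 h2 ⊢
      rw [h2, mul_inv_eq_iff_eq_mul.1 h1, mul_assoc, mul_inv_cancel_left]
    have hback : ∀ φ l, FixedChar τ (orb φ l) → FixedChar τ φ := fun φ l hf b => by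
      have h2 := hf ((τ ^ l).symm b)
      simp only [orb, MonoidHom.comp_apply, MulEquiv.coe_toMonoidHom] at h2
      rw [← MulAut.mul_apply, ← pow_succ, pow_succ', MulAut.mul_apply,
        MulEquiv.apply_symm_apply] at h2
      exact h2
    have hsmall : FixedChar τ χ' ∧ FixedChar τ χ := by
      rcases Finset.mem_union.1 (hTsub _ (hTcoset μ hμT x)) with hm | hm <;>
        obtain ⟨l, -, hl⟩ := Finset.mem_image.1 hm
      · have := hback χ' l (hl ▸ hψfix)
        exact ⟨this, hboth.1 this⟩
      · have := hback χ l (hl ▸ hψfix)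
        exact ⟨hboth.2 this, this⟩
    have hT2 : T.card ≤ 2 := by
      refine le_trans (Finset.card_le_card (t := {χ', χ}) fun y hy => ?_) Finset.card_le_two
      rcases Finset.mem_union.1 (hTsub y hy) with hm | hm <;>
        obtain ⟨l, -, rfl⟩ := Finset.mem_image.1 hm
      · exact Finset.mem_insert.2 (Or.inl (fixed_pow hsmall.1 l))
      · exact Finset.mem_insert.2 (Or.inr (Finset.mem_singleton.2 (fixed_pow hsmall.2 l)))
    have h1 := (hcoset μ hμT).2 ▸ Finset.card_le_card (hcoset μ hμT).1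
    have h2 := h.prime.two_le
    omega
  have hF1 := hF 1
  rw [Finset.sum_eq_zero fun μ _ => by rw [hκ0 μ, zero_mul]] at hF1
  have hg1 : ∀ φ : B →* kˣ, gsum τ r φ 1 = (r : k) := fun φ => by simp [gsum]
  rw [hg1, hg1, ← sub_mul] at hF1
  exact sub_eq_zero.1 ((mul_eq_zero.1 hF1.symm).resolve_right h.rk)

/-- An operator fixing the orbit sums of the moved translates by an abelian group. -/
theorem translation (h : Wts f τ S r) {E : Module.End k M} {ε : MulAut B}
    (hE : ∀ b, E * f b = f (ε b) * E) (hεc : ε * τ = τ * ε) (hES : E * S = S * E) {ξ : M}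
    (hS : S ξ = ξ) (hyp : ∀ b, S (f b ξ) = f b ξ ∨ E (avg S r (f b ξ)) = avg S r (f b ξ)) :
    E ξ = ξ ∨ ∀ χ : B →* kˣ, ¬ FixedChar τ χ → idem f χ ξ = 0 ∧ idem f χ (E ξ) = 0 := by
  have hSE : S (E ξ) = E ξ := by rw [← Module.End.mul_apply, ← hES, Module.End.mul_apply, hS]
  have hiff : ∀ {w : M}, S w = w → ∀ b, S (f b w) = f b w ↔ f (τ b) w = f b w := fun {w} hw b => by
    rw [← Module.End.mul_apply, h.comm, Module.End.mul_apply, hw]
  let H : Subgroup B :=
    { carrier := {b | f (τ b) ξ = f b ξ}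
      one_mem' := by simp
      mul_mem' := fun {a b} (ha : f (τ a) ξ = f a ξ) (hb : f (τ b) ξ = f b ξ) => by
        show f (τ (a * b)) ξ = f (a * b) ξ
        rw [map_mul τ, map_mul, Module.End.mul_apply, hb, ← Module.End.mul_apply, ← map_mul,
          mul_comm (τ a) b, map_mul, Module.End.mul_apply, ha, ← Module.End.mul_apply, ← map_mul,
          mul_comm b a]
      inv_mem' := fun {a} (ha : f (τ a) ξ = f a ξ) => by
        show f (τ a⁻¹) ξ = f a⁻¹ ξ
        have h1 := congrArg (f (τ a⁻¹ * a⁻¹)) ha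
        rw [← Module.End.mul_apply, ← map_mul, ← Module.End.mul_apply, ← map_mul,
          show τ a⁻¹ * a⁻¹ * τ a = a⁻¹ by rw [mul_right_comm, ← map_mul, inv_mul_cancel, map_one, one_mul],
          show τ a⁻¹ * a⁻¹ * a = τ a⁻¹ by rw [inv_mul_cancel_right]] at h1
        exact h1.symm }
  have hmemH : ∀ b, b ∈ H ↔ f (τ b) ξ = f b ξ := fun b => Iff.rfl
  by_cases hH : H = ⊤
  · right
    intro χ hχ
    obtain ⟨b, hb⟩ : ∃ b, χ (τ b) ≠ χ b := by
      by_contra hno
      push Not at hno
      exact hχ hno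
    have hzero : ∀ w, S w = w → (∀ b, f (τ b) w = f b w) → idem f χ w = 0 := by
      intro w _ hw
      have h1 := congrArg (fun v : M => idem f χ v) (hw b)
      rw [comp_apply', comp_apply', ← sub_eq_zero, ← sub_smul] at h1
      exact (smul_eq_zero.1 h1).resolve_left (sub_ne_zero.2 fun he => hb (Units.ext he))
    refine ⟨hzero ξ hS fun b => (hmemH b).1 (hH ▸ Subgroup.mem_top b), hzero _ hSE fun b => ?_⟩
    obtain ⟨b', rfl⟩ := ε.surjective b
    rw [show τ (ε b') = ε (τ b') from (DFunLike.congr_fun hεc b').symm, ← Module.End.mul_apply,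
      ← hE, Module.End.mul_apply, (hmemH b').1 (hH ▸ Subgroup.mem_top b'), ← Module.End.mul_apply,
      hE, Module.End.mul_apply]
  · left
    refine h.ext_comp fun χ => ?_
    by_contra hne
    obtain ⟨φ, hφ⟩ := Module.Projective.exists_dual_ne_zero k (sub_ne_zero.2 hne)
    refine hφ ?_
    rw [map_sub, sub_eq_zero]
    refine h.translation_key hH (fun b hb => (hmemH _).2 ?_) (fun b hb => (hmemH b).2 (by rw [hb]))
      χ (χ.comp ε.toMonoidHom) _ _ ?_ fun b hb => ?_
    · have h1 := congrArg S ((hmemH b).1 hb)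
      rwa [← Module.End.mul_apply, h.comm, Module.End.mul_apply, hS, ← Module.End.mul_apply, h.comm,
        Module.End.mul_apply, hS] at h1
    · refine ⟨fun hf b => ?_, fun hf b => ?_⟩
      · obtain ⟨b', rfl⟩ := ε.surjective b
        rw [show τ (ε b') = ε (τ b') from (DFunLike.congr_fun hεc b').symm]
        exact hf b'
      · show χ (ε (τ b)) = χ (ε b)
        rw [show ε (τ b) = τ (ε b) from DFunLike.congr_fun hεc b]
        exact hf _
    · have h1 := (hyp b).resolve_left fun hf => hb ((hmemH b).2 ((hiff hS b).1 hf))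
      have h2 := congrArg (fun w => φ (idem f χ w)) h1
      simp only [← Module.End.mul_apply E, (commute_avg r hES).eq] at h2
      simp only [Module.End.mul_apply] at h2
      rw [← Module.End.mul_apply E, hE, Module.End.mul_apply, h.comp_avg_apply χ (ε b) hSE,
        h.comp_avg_apply χ b hS, map_smul, map_smul, smul_eq_mul, smul_eq_mul] at h2
      have hg : gsum τ r (χ.comp ε.toMonoidHom) b = gsum τ r χ (ε b) := by
        refine Finset.sum_congr rfl fun l _ => ?_
        show ((χ (ε ((τ ^ l) b)) : kˣ) : k) = _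
        rw [show ε ((τ ^ l) b) = (τ ^ l) (ε b) from
          DFunLike.congr_fun ((show Commute ε τ from hεc).pow_right l).eq b]
      rw [hg, mul_comm, h2, mul_comm]

/-- The weighted orbit sum into an eigenspace. -/
noncomputable def muAvg (S : Module.End k M) (r : ℕ) (μ : k) : Module.End k M :=
  ∑ l ∈ Finset.range r, (μ ^ l)⁻¹ • S ^ l

theorem muAvg_mem (h : Wts f τ S r) {μ : k} (hμ : μ ^ r = 1) (x : M) :
    muAvg S r μ x ∈ Module.End.eigenspace S μ := by
  have hμ0 : μ ≠ 0 := fun h0 => by rw [h0, zero_pow h.prime.ne_zero] at hμ; exact zero_ne_one hμ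
  rw [Module.End.mem_eigenspace_iff, muAvg, LinearMap.sum_apply, map_sum, Finset.smul_sum]
  have h2 := Finset.sum_range_succ' (fun l => μ • ((μ ^ l)⁻¹ • (S ^ l) x)) r
  rw [Finset.sum_range_succ] at h2
  rw [show μ • ((μ ^ r)⁻¹ • (S ^ r) x) = μ • ((μ ^ 0)⁻¹ • (S ^ 0) x) by
    rw [hμ, h.Spow, pow_zero, pow_zero]] at h2
  refine Eq.trans (Finset.sum_congr rfl fun l _ => ?_) (add_right_cancel h2).symm
  rw [LinearMap.smul_apply, map_smul, ← Module.End.mul_apply, ← pow_succ', smul_smul, pow_succ μ,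
    mul_inv, mul_comm (μ ^ l)⁻¹, ← mul_assoc, mul_inv_cancel₀ hμ0, one_mul]

/-- Each eigenvalue occurs on a moved component. -/
theorem comp_muAvg (h : Wts f τ S r) {χ : B →* kˣ} (hχ : ¬ FixedChar τ χ) (μ : k) (x : M) :
    idem f χ (muAvg S r μ (idem f χ x)) = idem f χ x := by
  rw [muAvg, LinearMap.sum_apply, map_sum, Finset.sum_eq_single 0 (fun l hl hl0 => ?_)
    (fun h0 => absurd (Finset.mem_range.2 h.prime.pos) h0)]
  · rw [pow_zero, pow_zero, inv_one, one_smul, Module.End.one_apply, h.idem_idem]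
  · rw [LinearMap.smul_apply, map_smul, h.comp_pow, h.idem_ne, map_zero, smul_zero]
    exact fun he => hl0 (Nat.eq_zero_of_dvd_of_lt (h.free_orbit hχ he) (Finset.mem_range.1 hl))

end Wts

end Cfsg.Agent.Solv.FHeight
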